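import Groth.Agent.FormalFun.StalkBase
import Groth.Agent.FormalFun.AmpleFibre
import Groth.Agent.FormalFun.HomSurj
import Groth.Agent.FormalFun.HomMonoEpi
import Groth.Agent.ExtHom.Coherent
import Groth.Agent.QCoh.Exact

/-!
# Homomorphisms and isomorphisms of bundles over a local ring with nilpotent maximal ideal

The lifting argument of `FormalFun.exists_hom_lift`, for an arbitrary scheme over the base.
-/

set_option autoImplicit false
universe u

open CategoryTheory Limits AlgebraicGeometry Opposite TopologicalSpace IsLocalRing TensorProduct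
open Groth.Agent

noncomputable section

namespace Groth.Agent.Helper63.ArtLift

variable {A : Type u} [CommRing A] {X : Scheme.{u}} [X.Over (Spec (CommRingCat.of A))]
variable (F : X.Modules) [F.IsQuasicoherent]

lemma flat_secA {U : X.Opens} (hU : IsAffineOpen U)
    (hfl : FlatMod.IsFlatOver (X ↘ Spec (CommRingCat.of A)) F) :
    Module.Flat A (CBC.Sec (CBC.φA (A := A)) F (le_top : U ≤ ⊤)) := by
  let π := X ↘ Spec (CommRingCat.of A)
  let B₀ := Γ(Spec (CommRingCat.of A), ⊤)
  letI : Algebra A B₀ := (Scheme.ΓSpecIso (CommRingCat.of A)).inv.hom.toAlgebra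
  letI : Module B₀ (CBC.Sec (CBC.φA (A := A)) F (le_top : U ≤ ⊤)) :=
    CBC.secModule (W := π ⁻¹ᵁ ⊤) (π.app ⊤).hom F (le_top : U ≤ π ⁻¹ᵁ ⊤)
  haveI : IsScalarTower A B₀ (CBC.Sec (CBC.φA (A := A)) F (le_top : U ≤ ⊤)) :=
    IsScalarTower.of_algebraMap_smul fun _ _ => rfl
  haveI : Module.Flat B₀ (CBC.Sec (CBC.φA (A := A)) F (le_top : U ≤ ⊤)) :=
    CBC.flat_sec π (isAffineOpen_top _) F hU le_top fun x _ => hfl x
  haveI : Module.Flat A B₀ :=
    RingHom.Flat.of_bijective (f := (Scheme.ΓSpecIso (CommRingCat.of A)).inv.hom)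
      (ConcreteCategory.bijective_of_isIso (Scheme.ΓSpecIso (CommRingCat.of A)).inv)
  exact Module.Flat.trans A B₀ _

theorem tA_shortExact
    (hfl : FlatMod.IsFlatOver (X ↘ Spec (CommRingCat.of A)) F)
    {S : ShortComplex (ModuleCat.{u} A)} (hS : S.ShortExact) : (FormalFun.tASeq F S).ShortExact := by
  haveI := fun M : ModuleCat.{u} A => CBC.isQuasicoherent_tA (A := A) F M
  let T := FormalFun.tASeq F S
  have hf : Function.Injective S.f.hom := (ModuleCat.mono_iff_injective _).1 hS.mono_f
  have hg : Function.Surjective S.g.hom := (ModuleCat.epi_iff_surjective _).1 hS.epi_g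
  have hex : Function.Exact S.f.hom S.g.hom :=
    (ShortComplex.ShortExact.moduleCat_exact_iff_function_exact S).1 hS.exact
  haveI hmono : Mono T.f := by
    refine Preadditive.mono_of_kernel_zero (FormalFun.hom_eq_zero_of_affine _ fun W hW z => ?_)
    haveI := flat_secA (A := A) F hW hfl
    obtain ⟨t, ht⟩ := (CBC.kap_bijective F S.X₁ hW).2 ((kernel.ι T.f).app W z)
    have h0 : (CBC.tAMap F S.f).app W (CBC.kap F S.X₁ W t) = 0 := by
      rw [ht]
      exact QCoh.app_app_eq_zero (ShortComplex.mk _ _ (kernel.condition T.f)) _ z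
    have h1 := (CBC.kap_natural F S.f W t).symm.trans h0
    have h2 : t = 0 := Module.Flat.lTensor_preserves_injective_linearMap S.f.hom hf
      (((CBC.kap_bijective F S.X₂ hW).1 (h1.trans (map_zero (CBC.kap F S.X₂ W)).symm)).trans (map_zero _).symm)
    rw [← ht, h2, map_zero]
    rfl
  haveI hepi : Epi T.g := by
    refine Preadditive.epi_of_cokernel_zero (FormalFun.hom_eq_zero_of_affine _ fun W hW z => ?_)
    obtain ⟨t, ht⟩ := (CBC.kap_bijective F S.X₃ hW).2 z
    obtain ⟨t', rfl⟩ := LinearMap.lTensor_surjective _ hg t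
    rw [← ht, ← CBC.kap_natural F S.g W t']
    exact QCoh.app_app_eq_zero (ShortComplex.mk _ _ (cokernel.condition T.g)) _ _
  refine ⟨T.exact_iff_epi_kernel_lift.mpr ?_⟩
  haveI : (kernel T.g).IsQuasicoherent := QCoh.isQuasicoherent_kernel _
  refine Preadditive.epi_of_cokernel_zero (FormalFun.hom_eq_zero_of_affine _ fun W hW z => ?_)
  obtain ⟨t, ht⟩ := (CBC.kap_bijective F S.X₂ hW).2 ((kernel.ι T.g).app W z)
  have h0 : (CBC.tAMap F S.g).app W (CBC.kap F S.X₂ W t) = 0 := by
    rw [ht]
    exact QCoh.app_app_eq_zero (ShortComplex.mk _ _ (kernel.condition T.g)) _ z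
  obtain ⟨t', rfl⟩ := (lTensor_exact _ hex hg t).1 ((CBC.kap_bijective F S.X₃ hW).1
    (((CBC.kap_natural F S.g W t).symm.trans h0).trans (map_zero (CBC.kap F S.X₃ W)).symm))
  have hz : z = (kernel.lift T.g T.f T.zero).app W (CBC.kap F S.X₁ W t') := by
    refine QCoh.app_injective_of_mono (kernel.ι T.g) W ?_
    refine Eq.trans ?_ (FormalFun.app_comp _ _ _ _)
    rw [kernel.lift_ι]
    exact ht.symm.trans (CBC.kap_natural F S.f W t').symm
  rw [hz]
  exact QCoh.app_app_eq_zero (ShortComplex.mk _ _ (cokernel.condition (kernel.lift T.g T.f T.zero))) _ _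


section Smul

theorem pow_comp_modPowπ {M : X.Modules} (I : Ideal A) (w : M ⟶ M)
    (hw : w ≫ Formal.modPowπ I 1 M = 0) (n : ℕ) (v : M ⟶ M)
    (hv : v ≫ Formal.modPowπ I n M = 0) : (w ≫ v) ≫ Formal.modPowπ I (n + 1) M = 0 := by
  let f := Formal.smulFamily (I ^ 1) M
  have h1 : w ≫ cokernel.π f = 0 := hw
  let l : M ⟶ Abelian.image f := kernel.lift (cokernel.π f) w h1
  let e := Abelian.factorThruImage f
  let P := pullback l e
  haveI : Epi (pullback.fst l e) := Abelian.epi_pullback_of_epi_g _ _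
  have hsq : pullback.fst l e ≫ w = pullback.snd l e ≫ f := by
    calc pullback.fst l e ≫ w = pullback.fst l e ≫ l ≫ Abelian.image.ι f := by
          rw [kernel.lift_ι]
      _ = pullback.snd l e ≫ e ≫ Abelian.image.ι f := by
          rw [← Category.assoc, pullback.condition, Category.assoc]
      _ = pullback.snd l e ≫ f := by rw [Abelian.image.fac]
  rw [← cancel_epi (pullback.fst l e), comp_zero]
  have key : f ≫ v ≫ Formal.modPowπ I (n + 1) M = 0 := by
    apply Sigma.hom_ext
    intro a
    rw [comp_zero]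
    show Sigma.ι _ a ≫ Formal.smulFamily (I ^ 1) M ≫ v ≫ Formal.modPowπ I (n + 1) M = 0
    rw [← Category.assoc, Formal.smulFamily, Sigma.ι_desc, ← Category.assoc,
      FormalFun.smulMod_natural, Category.assoc]
    have h2 : Formal.smulFamily (I ^ n) M ≫ Formal.smulMod A M a.1 ≫ Formal.modPowπ I (n + 1) M = 0 := by
      apply Sigma.hom_ext
      intro b
      rw [comp_zero, ← Category.assoc, Formal.smulFamily, Sigma.ι_desc, ← Category.assoc,
        ← CohIII.smulMod_mul]
      refine FormalFun.smulMod_comp_π M ?_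
      have hab : a.1 * b.1 ∈ I ^ (n + 1) := by
        rw [pow_succ']; exact Ideal.mul_mem_mul ((pow_one I).le a.2) b.2
      first
        | exact hab
        | (rw [mul_comm]; exact hab)
    have h3 : Formal.modPowπ I n M ≫ cokernel.desc _ _ h2 =
        Formal.smulMod A M a.1 ≫ Formal.modPowπ I (n + 1) M := cokernel.π_desc _ _ _
    rw [← h3]
    exact (Category.assoc _ _ _).symm.trans ((congrArg (· ≫ _) hv).trans zero_comp)
  calc pullback.fst l e ≫ (w ≫ v) ≫ Formal.modPowπ I (n + 1) M
      = (pullback.fst l e ≫ w) ≫ v ≫ Formal.modPowπ I (n + 1) M := by simp only [Category.assoc]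
    _ = pullback.snd l e ≫ f ≫ v ≫ Formal.modPowπ I (n + 1) M := by rw [hsq, Category.assoc]
    _ = 0 := by rw [key, comp_zero]

/-- An endomorphism vanishing modulo a nilpotent ideal is nilpotent. -/
theorem isNilpotent_of_comp_modPowπ {M : X.Modules} (I : Ideal A) (N : ℕ) (hI : I ^ N = ⊥)
    (w : M ⟶ M) (hw : w ≫ Formal.modPowπ I 1 M = 0) : IsNilpotent (show End M from w) := by
  let w' : End M := w
  refine ⟨N + 1, ?_⟩
  have h : ∀ n, (show M ⟶ M from w' ^ (n + 1)) ≫ Formal.modPowπ I (n + 1) M = 0 := by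
    intro n
    induction n with
    | zero => rw [pow_one]; exact hw
    | succ n ih =>
      rw [pow_succ]
      exact pow_comp_modPowπ I w hw (n + 1) _ ih
  have hz : Formal.smulFamily (I ^ (N + 1)) M = 0 := by
    apply Sigma.hom_ext
    intro a
    rw [comp_zero, Formal.smulFamily, Sigma.ι_desc]
    have ha : a.1 ∈ (⊥ : Ideal A) := hI.le (Ideal.pow_le_pow_right (Nat.le_succ N) a.2)
    rw [Ideal.mem_bot.1 ha]
    exact FormalFun.smulMod_zero M
  haveI : Mono (Formal.modPowπ I (N + 1) M) := by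
    haveI : IsIso (cokernel.π (Formal.smulFamily (I ^ (N + 1)) M)) := by
      refine ⟨cokernel.desc _ (𝟙 M) (by rw [hz, zero_comp]), cokernel.π_desc _ _ _, ?_⟩
      rw [← cancel_epi (cokernel.π (Formal.smulFamily (I ^ (N + 1)) M)), ← Category.assoc,
        cokernel.π_desc, Category.id_comp, Category.comp_id]
    exact inferInstanceAs (Mono (cokernel.π _))
  exact zero_of_comp_mono (Formal.modPowπ I (N + 1) M) (h N)

end Smul

/-- `ℋom` out of a finite locally free module preserves quasi-coherence. -/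
theorem isQuasicoherent_sheafHom {Y : Scheme.{u}} {E M : Y.Modules} (hE : FlatMod.IsFinLocFree E)
    [DCoh.HasSheafHom E] [M.IsQuasicoherent] : ((DCoh.sheafHom E).obj M).IsQuasicoherent := by
  choose U n hx e using hE
  haveI : ∀ y, (((DCoh.sheafHom E).obj M).restrict (U y).ι).IsQuasicoherent := fun y => by
    haveI := KFlat.hasSheafHom_scheme (E.restrict (U y).ι)
    haveI := KFlat.hasSheafHom_scheme (FlatMod.freeMod (U y : Scheme.{u}) (n y))
    let c : DCoh.sheafHom E ⋙ Scheme.Modules.restrictFunctor (U y).ι ≅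
        Scheme.Modules.restrictFunctor (U y).ι ⋙ DCoh.sheafHom (FlatMod.freeMod (U y : Scheme.{u}) (n y)) :=
      ExtHom.sheafHomRestrictIso (U y) E ≪≫ Functor.isoWhiskerLeft _ ((DCoh.sheafHomAdj _).rightAdjointUniq
        ((DCoh.sheafHomAdj _).ofNatIsoLeft
          ((DCoh.tensorBi (X := (U y : Scheme.{u}))).mapIso (e y).some).symm))
    let M' := M.restrict (U y).ι
    haveI : M'.IsQuasicoherent := Scheme.Modules.isQuasicoherent_restrictFunctor _ M
    let T := (DCoh.sheafHom (FlatMod.freeMod (U y : Scheme.{u}) (n y))).obj M'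
    suffices hT : T.IsQuasicoherent from @QCoh.isQuasicoherent_of_iso _ _ _ (c.app M).symm hT
    classical
    obtain ⟨p, i, h⟩ := ExtHom.exists_decomp_sheafHom_free (X := (U y : Scheme.{u})) (n y)
    let N : ULift.{u} (Fin (n y)) → (U y : Scheme.{u}).Modules := fun _ => M'
    let a : T ⟶ ∐ N := ∑ j : ULift.{u} (Fin (n y)), (p j.down).app M' ≫ Sigma.ι N j
    let b : ∐ N ⟶ T := Sigma.desc fun j => (i j.down).app M'
    have hab : a ≫ b = 𝟙 T := by
      rw [Preadditive.sum_comp]
      have h' := congrArg (fun α => NatTrans.app α M') h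
      simp only [NatTrans.app_sum, NatTrans.comp_app, NatTrans.id_app] at h'
      refine Eq.trans ?_ h'
      exact Fintype.sum_equiv Equiv.ulift _ _ fun j =>
        (Category.assoc _ _ _).trans (congrArg ((p j.down).app M' ≫ ·) (Sigma.ι_desc _ _))
    have hk : kernel.ι (b ≫ a - 𝟙 (∐ N)) ≫ (b ≫ a - 𝟙 (∐ N)) = 0 := kernel.condition _
    rw [Preadditive.comp_sub, sub_eq_zero, Category.comp_id] at hk
    haveI : (kernel (b ≫ a - 𝟙 (∐ N))).IsQuasicoherent := QCoh.isQuasicoherent_kernel _
    exact QCoh.isQuasicoherent_of_iso (M := kernel (b ≫ a - 𝟙 (∐ N)))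
      { hom := kernel.ι _ ≫ b
        inv := kernel.lift _ a (by rw [Preadditive.comp_sub, reassoc_of% hab, Category.comp_id, sub_self])
        hom_inv_id := by
          rw [← cancel_mono (kernel.ι (b ≫ a - 𝟙 (∐ N))), Category.assoc, kernel.lift_ι, Category.assoc,
            Category.id_comp, hk]
        inv_hom_id := by rw [← Category.assoc, kernel.lift_ι, hab] }
  exact QCoh.isQuasicoherent_of_isOpenCover _ U
    (TopologicalSpace.IsOpenCover.mk (top_le_iff.mp fun y _ => TopologicalSpace.Opens.mem_iSup.mpr ⟨y, hx y⟩))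

section Lift

open FormalFun

variable (A : Type u) [CommRing A] [IsNoetherianRing A] [IsLocalRing A] (X : Scheme.{u})
  [X.Over (Spec (CommRingCat.of A))]

/-- Homomorphisms of bundles lift from the closed fibre. -/
theorem exists_hom_lift (N : ℕ) (hN : maximalIdeal A ^ N = ⊥) (F G : X.Modules) [DCoh.HasSheafHom F]
    (hF : FlatMod.IsFinLocFree F) [G.IsQuasicoherent]
    (hfl : FlatMod.IsFlatOver (X ↘ Spec (CommRingCat.of A)) G)
    (h1 : Subsingleton (Coh.HH X ((DCoh.sheafHom F).obj ((Scheme.Modules.pushforward (cι A X)).obj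
      ((Scheme.Modules.pullback (cι A X)).obj G))) 1))
    (u₀ : (Scheme.Modules.pullback (cι A X)).obj F ⟶ (Scheme.Modules.pullback (cι A X)).obj G) :
    ∃ u : F ⟶ G, (Scheme.Modules.pullback (cι A X)).map u = u₀ := by
  haveI := isClosedImmersion_cι A X
  haveI := ExtHom.additive_sheafHom F
  haveI := ExtHom.preservesFiniteLimits_sheafHom F
  haveI := ExtHom.preservesFiniteColimits_sheafHom hF
  let m := maximalIdeal A
  let Φ := DCoh.sheafHom F
  let ι := cι A X
  obtain ⟨ψ⟩ := nonempty_tAUnit (A := A) G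
  choose θ hθ using fun n => exists_iso_tA_of G ψ m n
  obtain ⟨ε, hε⟩ := exists_iso_unit A X G
  let Z : ModuleCat.{u} A → Prop := fun V => Subsingleton (Coh.HH X (Φ.obj (CBC.tA G V)) 1)
  have hbase : Z (ModuleCat.of A (A ⧸ m ^ 1)) :=
    subsingleton_HH_iso (Φ.mapIso (ε.symm ≪≫ θ 1)) 1 h1
  have hext : ∀ (S : ShortComplex (ModuleCat.{u} A)), S.ShortExact → Z S.X₁ → Z S.X₃ → Z S.X₂ := by
    intro S hS h₁ h₃
    have hS' := (ArtLift.tA_shortExact G hfl hS).map_of_exact Φ
    refine subsingleton_of_forall_eq 0 fun x => ?_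
    obtain ⟨y, rfl⟩ := CohLin.exists_hMap_f_eq hS' x (h₃.elim _ _)
    exact (congrArg _ (h₁.elim y 0)).trans (map_zero _)
  have htrans : ∀ {M N : ModuleCat.{u} A} (_ : M ≅ N), Z M → Z N := fun {M N} e h =>
    subsingleton_HH_iso (Φ.mapIso ((CohIII.tensorAFunctor A G).mapIso e)) 1 h
  let k := A ⧸ m
  have hk : Z (ModuleCat.of A k) :=
    htrans (Submodule.quotEquivOfEq _ _ (pow_one m)).toModuleIso hbase
  have hpow : ∀ r : ℕ, Z (ModuleCat.of A (Fin r → k)) := by
    intro r
    induction r with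
    | zero =>
      have hz : IsZero (ModuleCat.of A (Fin 0 → k)) := ModuleCat.isZero_of_subsingleton _
      refine subsingleton_of_forall_eq 0 fun x => ?_
      rw [← CohLin.hMap_id _ 1 x, ← Φ.map_id, show 𝟙 (CBC.tA G (ModuleCat.of A (Fin 0 → k))) =
        CBC.tAMap G (mulA (ModuleCat.of A (Fin 0 → k)) 0) from by
          rw [show mulA (ModuleCat.of A (Fin 0 → k)) 0 = 𝟙 _ from hz.eq_of_src _ _]
          exact ((CohIII.tensorAFunctor A G).map_id _).symm,
        tAMap_mulA, smulMod_zero, Φ.map_zero]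
      exact map_zero (CohLin.hMapHom _ _ 1 x)
    | succ r ih =>
      let f : k →ₗ[A] (Fin (r + 1) → k) := LinearMap.single A (fun _ : Fin (r + 1) => k) 0
      let g : (Fin (r + 1) → k) →ₗ[A] (Fin r → k) := LinearMap.funLeft A k Fin.succ
      let S : ShortComplex (ModuleCat.{u} A) := ShortComplex.mk (ModuleCat.ofHom f) (ModuleCat.ofHom g)
        (ModuleCat.hom_ext (LinearMap.ext fun x => funext fun j =>
          show (Pi.single (M := fun _ : Fin (r + 1) => k) 0 x) (Fin.succ j) = 0 from Pi.single_eq_of_ne (Fin.succ_ne_zero j) _))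
      refine hext S
        { exact := (ShortComplex.ShortExact.moduleCat_exact_iff_function_exact S).2 fun y => ?_
          mono_f := (ModuleCat.mono_iff_injective _).2
            (show Function.Injective (Pi.single (M := fun _ : Fin (r + 1) => k) 0) from Pi.single_injective _)
          epi_g := (ModuleCat.epi_iff_surjective _).2 fun y =>
            ⟨Fin.cons 0 y, funext fun j => by simp [S, g, LinearMap.funLeft]⟩ } hk ih
      refine ⟨fun hy => ⟨y 0, funext fun j => ?_⟩, ?_⟩
      · show (Pi.single (M := fun _ : Fin (r + 1) => k) 0 (y 0)) j = y j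
        rcases Fin.eq_zero_or_eq_succ j with rfl | ⟨i, rfl⟩
        · exact Pi.single_eq_same _ _
        · exact (Pi.single_eq_of_ne (Fin.succ_ne_zero i) _).trans (congrFun hy i).symm
      · rintro ⟨x, rfl⟩
        exact funext fun j =>
          show (Pi.single (M := fun _ : Fin (r + 1) => k) 0 x) (Fin.succ j) = 0 from
            Pi.single_eq_of_ne (Fin.succ_ne_zero j) _
  -- every finitely generated module killed by a power of the maximal ideal
  have hall : ∀ (n : ℕ) (V : Type u) [AddCommGroup V] [Module A V] [Module.Finite A V],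
      (∀ a ∈ m ^ n, ∀ v : V, a • v = 0) → Z (ModuleCat.of A V) := by
    intro n
    induction n with
    | zero =>
      intro V _ _ _ h
      haveI : Subsingleton V := subsingleton_of_forall_eq 0 fun v => by
        simpa using h 1 (by rw [pow_zero, Ideal.one_eq_top]; trivial) v
      exact htrans (LinearEquiv.ofLinear (0 : (Fin 0 → k) →ₗ[A] V) 0 (Subsingleton.elim _ _)
        (Subsingleton.elim _ _)).toModuleIso (hpow 0)
    | succ n ih =>
      intro V _ _ _ h
      let W : Submodule A V := m • ⊤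
      haveI : Module.Finite A W := Module.Finite.iff_fg.2 (IsNoetherian.noetherian _)
      have hkey : ∀ a ∈ m ^ n, ∀ v ∈ W, a • v = 0 := fun a ha v hv => by
        refine Submodule.smul_induction_on (p := fun v => a • v = 0) hv (fun b hb v _ => ?_)
          fun v v' hv hv' => by rw [smul_add, hv, hv', add_zero]
        rw [smul_smul]
        exact h _ (by rw [pow_succ]; exact Ideal.mul_mem_mul ha hb) v
      have hW : Z (ModuleCat.of A W) := ih W fun a ha w => Subtype.ext (hkey a ha w.1 w.2)
      have hQ : Z (ModuleCat.of A (V ⧸ W)) := by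
        have htor : Module.IsTorsionBySet A (V ⧸ W) (m : Set A) := by
          rintro x ⟨a, ha⟩
          obtain ⟨v, rfl⟩ := Submodule.Quotient.mk_surjective _ x
          exact (Submodule.Quotient.mk_eq_zero _).2 (Submodule.smul_mem_smul ha trivial)
        letI := htor.module
        haveI : IsScalarTower A (A ⧸ m) (V ⧸ W) := htor.isScalarTower
        haveI : Module.Finite (A ⧸ m) (V ⧸ W) := Module.Finite.of_restrictScalars_finite A (A ⧸ m) _
        letI := Ideal.Quotient.field m
        let b := Module.finBasis (A ⧸ m) (V ⧸ W)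
        exact htrans (b.equivFun.symm.restrictScalars A).toModuleIso (hpow _)
      refine hext (ShortComplex.mk (ModuleCat.ofHom W.subtype) (ModuleCat.ofHom W.mkQ)
        (ModuleCat.hom_ext (LinearMap.ext fun w => (Submodule.Quotient.mk_eq_zero W).2 w.2))) ?_ hW hQ
      exact
        { exact := (ShortComplex.ShortExact.moduleCat_exact_iff_function_exact _).2
            (LinearMap.exact_subtype_mkQ W)
          mono_f := (ModuleCat.mono_iff_injective _).2 Subtype.val_injective
          epi_g := (ModuleCat.epi_iff_surjective _).2 W.mkQ_surjective }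
  let J : Submodule A A := m ^ 1
  haveI : Module.Finite A J := Module.Finite.iff_fg.2 (IsNoetherian.noetherian _)
  have hJ : Z (ModuleCat.of A J) := hall N J fun a ha v => by
    have ha0 : a ∈ (⊥ : Ideal A) := hN.le ha
    rw [Ideal.mem_bot.1 ha0, zero_smul]
  let S : ShortComplex (ModuleCat.{u} A) := ShortComplex.mk (ModuleCat.ofHom J.subtype) (quotA (m ^ 1))
    (ModuleCat.hom_ext (LinearMap.ext fun v => (Submodule.Quotient.mk_eq_zero _).2 v.2))
  have hS : S.ShortExact :=
    { exact := (ShortComplex.ShortExact.moduleCat_exact_iff_function_exact S).2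
        (LinearMap.exact_subtype_mkQ J)
      mono_f := (ModuleCat.mono_iff_injective _).2 Subtype.val_injective
      epi_g := (ModuleCat.epi_iff_surjective _).2 J.mkQ_surjective }
  obtain ⟨e, he⟩ := exists_homHH₀ F
  let adj := Scheme.Modules.pullbackPushforwardAdjunction ι
  obtain ⟨x, hx⟩ := CohLin.exists_hMap_g_eq ((ArtLift.tA_shortExact G hfl hS).map_of_exact Φ)
    (e (CBC.tA G (ModuleCat.of A (A ⧸ m ^ 1))) (adj.homEquiv _ _ u₀ ≫ ε.inv ≫ (θ 1).hom)) (hJ.elim _ _)
  obtain ⟨v, rfl⟩ := (e _).surjective x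
  have hv : v ≫ CBC.tAMap G (quotA (m ^ 1)) = adj.homEquiv _ _ u₀ ≫ ε.inv ≫ (θ 1).hom :=
    (e _).injective ((he _ v).trans hx)
  refine ⟨v ≫ ψ.hom, (adj.homEquiv _ _).injective ?_⟩
  rw [Adjunction.homEquiv_unit]
  refine Eq.trans (adj.unit.naturality (v ≫ ψ.hom)).symm ?_
  show (v ≫ ψ.hom) ≫ adj.unit.app G = _
  have hunit : ψ.hom ≫ adj.unit.app G = CBC.tAMap G (quotA (m ^ 1)) ≫ (θ 1).inv ≫ ε.hom := by
    rw [← hε, ← Category.assoc (CBC.tAMap G (quotA (m ^ 1))), ← Category.assoc ψ.hom]
    refine congrArg (· ≫ ε.hom) ?_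
    rw [Iso.eq_comp_inv, Category.assoc, hθ, Iso.hom_inv_id_assoc]
  rw [Category.assoc, hunit, ← Category.assoc, hv]
  simp only [Category.assoc, Iso.hom_inv_id_assoc, Iso.inv_hom_id, Category.comp_id]

/-- An endomorphism which is the identity on the closed fibre is an isomorphism. -/
theorem isUnit_of_pullback_eq_id (N : ℕ) (hN : maximalIdeal A ^ N = ⊥) (F : X.Modules) [F.IsQuasicoherent]
    (w : F ⟶ F) (hw : (Scheme.Modules.pullback (cι A X)).map w = 𝟙 _) : IsIso w := by
  haveI := isClosedImmersion_cι A X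
  let adj := Scheme.Modules.pullbackPushforwardAdjunction (cι A X)
  obtain ⟨ε, hε⟩ := exists_iso_unit A X F
  haveI : (Scheme.Modules.pullback (cι A X)).Additive := adj.left_adjoint_additive
  have h0 : (w - 𝟙 F) ≫ Formal.modPowπ (maximalIdeal A) 1 F = 0 := by
    rw [← cancel_mono ε.hom, Category.assoc, hε, zero_comp]
    refine (adj.unit.naturality (w - 𝟙 F)).trans ?_
    show adj.unit.app F ≫ (Scheme.Modules.pushforward (cι A X)).map
      ((Scheme.Modules.pullback (cι A X)).map (w - 𝟙 F)) = 0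
    rw [Functor.map_sub, hw, CategoryTheory.Functor.map_id, sub_self, Functor.map_zero, comp_zero]
  let w' : End F := w
  have hn : IsNilpotent (w' - 1) := isNilpotent_of_comp_modPowπ (maximalIdeal A) N hN (w - 𝟙 F) h0
  have hu : IsUnit w' := by
    have := hn.isUnit_one_add
    rwa [add_sub_cancel] at this
  exact (isUnit_iff_isIso w).1 hu

/-- Bundles which are isomorphic on the closed fibre are isomorphic if `H¹(End) = 0` there. -/
theorem nonempty_iso (N : ℕ) (hN : maximalIdeal A ^ N = ⊥) [Flat (X ↘ Spec (CommRingCat.of A))]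
    (F G : X.Modules) (hF : FlatMod.IsFinLocFree F) (hG : FlatMod.IsFinLocFree G)
    [F.IsQuasicoherent] [G.IsQuasicoherent] [DCoh.HasSheafHom F] [DCoh.HasSheafHom G]
    (h1 : Subsingleton (Coh.HH X ((DCoh.sheafHom F).obj ((Scheme.Modules.pushforward (cι A X)).obj
      ((Scheme.Modules.pullback (cι A X)).obj G))) 1))
    (h2 : Subsingleton (Coh.HH X ((DCoh.sheafHom G).obj ((Scheme.Modules.pushforward (cι A X)).obj
      ((Scheme.Modules.pullback (cι A X)).obj F))) 1))
    (u₀ : (Scheme.Modules.pullback (cι A X)).obj F ≅ (Scheme.Modules.pullback (cι A X)).obj G) :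
    Nonempty (F ≅ G) := by
  obtain ⟨u, hu⟩ := exists_hom_lift A X N hN F G hF (isFlatOver_of_isFinLocFree' _ hG) h1 u₀.hom
  obtain ⟨v, hv⟩ := exists_hom_lift A X N hN G F hG (isFlatOver_of_isFinLocFree' _ hF) h2 u₀.inv
  haveI : IsIso (u ≫ v) := isUnit_of_pullback_eq_id A X N hN F _
    (by rw [Functor.map_comp, hu, hv, Iso.hom_inv_id])
  haveI : IsIso (v ≫ u) := isUnit_of_pullback_eq_id A X N hN G _
    (by rw [Functor.map_comp, hv, hu, Iso.inv_hom_id])
  haveI : Mono u := mono_of_mono u v
  haveI : Epi u := epi_of_epi v u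
  haveI : IsIso u := isIso_of_mono_of_epi u
  exact ⟨asIso u⟩

end Lift

end Groth.Agent.Helper63.ArtLift
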