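import Groth.Agent.IdealSh.CodimOne
import Groth.Agent.IdealSh.Comap
import Groth.Agent.SchPoints.Basic
import Groth.Agent.HartogsAffine.Basic
import Groth.Agent.RegLoc.UFD
import Groth.Agent.RegLoc.Serre
import Groth.Agent.S8853
import Groth.Agent.AlgSpB.RedInduced
import Mathlib.AlgebraicGeometry.Morphisms.Affine

/-!
# Affine hulls of open subschemes of regular affine schemes
-/

set_option autoImplicit false
set_option linter.style.haveILetI false
set_option backward.isDefEq.respectTransparency.types false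
universe u

open CategoryTheory AlgebraicGeometry TopologicalSpace
open IsLocalRing
open Groth.Agent

namespace Groth.Agent.Helper63.EtHullReg

variable {E : Scheme.{u}}

theorem isUFD (hreg : ∀ x : E, IsRegularLocalRing (E.presheaf.stalk x)) (x : E) :
    IsDomain (E.presheaf.stalk x) ∧ UniqueFactorizationMonoid (E.presheaf.stalk x) := by
  haveI := hreg x
  haveI := RegLoc.isDomain (E.presheaf.stalk x)
  exact ⟨inferInstance, RegLoc.UFD.uniqueFactorizationMonoid _⟩

/-- If the stalk is a domain, there is a smallest generization. -/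
theorem exists_generic (x : E) [IsDomain (E.presheaf.stalk x)] :
    ∃ η : E, η ⤳ x ∧ ∀ y : E, y ⤳ x → η ⤳ y := by
  refine ⟨E.fromSpecStalk x ⟨⊥, Ideal.isPrime_bot⟩, ?_, fun y hy => ?_⟩
  · exact (Scheme.range_fromSpecStalk (x := x)).subset ⟨_, rfl⟩
  · obtain ⟨q, rfl⟩ : y ∈ Set.range (E.fromSpecStalk x) := by rwa [Scheme.range_fromSpecStalk]
    refine Specializes.map ?_ (E.fromSpecStalk x).continuous
    exact (PrimeSpectrum.le_iff_specializes _ _).1 bot_le

theorem isOpen_closure [IsNoetherian E] (hd : ∀ x : E, IsDomain (E.presheaf.stalk x)) (U : E.Opens) :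
    IsOpen (closure (U : Set E)) := by
  rw [isOpen_iff_forall_mem_open]
  intro x hx
  haveI := hd x
  obtain ⟨η, hηx, hη⟩ := exists_generic x
  obtain ⟨u, hu⟩ := SchPoints.exists_specializes_of_mem_closure_range U.ι (y := x) (by
    rwa [Scheme.Opens.range_ι])
  have hηU : η ∈ U := (hη _ hu).mem_open U.2 u.2
  refine ⟨(closure ((closure (U : Set E))ᶜ))ᶜ, ?_, isClosed_closure.isOpen_compl, ?_⟩
  · exact Set.compl_subset_comm.1 subset_closure
  · intro hx'
    let V : E.Opens := ⟨(closure (U : Set E))ᶜ, isClosed_closure.isOpen_compl⟩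
    obtain ⟨v, hv⟩ := SchPoints.exists_specializes_of_mem_closure_range V.ι (y := x) (by
      rwa [Scheme.Opens.range_ι])
    exact v.2 ((hη _ hv).mem_closed isClosed_closure (subset_closure hηU))

variable [IsNoetherian E]

theorem reduced (hreg : ∀ x : E, IsRegularLocalRing (E.presheaf.stalk x)) : IsReduced E :=
  haveI : ∀ x : E, _root_.IsReduced (E.presheaf.stalk x) := fun x => by
    haveI := (isUFD hreg x).1
    infer_instance
  isReduced_of_isReduced_stalk E

/-- For a dense open `U` of a regular affine Noetherian scheme there is an affine open `W ⊇ U` such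
that every point of `W` outside `U` has depth at least two. -/
theorem exists_affine (hreg : ∀ x : E, IsRegularLocalRing (E.presheaf.stalk x)) [IsAffine E]
    (U : E.Opens) (hd : Dense (U : Set E)) :
    ∃ W : E.Opens, U ≤ W ∧ IsAffineOpen W ∧ ∀ x ∈ W, x ∉ U →
      (2 : ℕ∞) ≤ LocCoh.depth (E.presheaf.stalk x) (E.presheaf.stalk x) := by
  have hclosure : ∀ x : E, ∃ u : E, u ∈ U ∧ u ⤳ x := fun x => by
    obtain ⟨u, hu⟩ := SchPoints.exists_specializes_of_mem_closure_range U.ι (y := x) (by
      rw [Scheme.Opens.range_ι, hd.closure_eq]; trivial)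
    exact ⟨_, u.2, hu⟩
  -- the generization structure at a point with principal maximal ideal outside `U`
  have hmax : ∀ x : E, x ∉ U → (maximalIdeal (E.presheaf.stalk x)).IsPrincipal →
      ringKrullDim (E.presheaf.stalk x) = 1 ∧ ∀ y : E, y ⤳ x → y ∉ U → y = x := by
    intro x hxU hp
    haveI := hreg x
    haveI := (isUFD hreg x).1
    haveI : IsPrincipalIdealRing (E.presheaf.stalk x) :=
      ((tfae_of_isNoetherianRing_of_isLocalRing_of_isDomain (E.presheaf.stalk x)).out 0 4).mpr hp
    obtain ⟨u, hu, hux⟩ := hclosure x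
    have hcase : ∀ y : E, y ⤳ x → y = x ∨
        y = E.fromSpecStalk x ⟨⊥, Ideal.isPrime_bot⟩ := by
      intro y hy
      obtain ⟨q, rfl⟩ : y ∈ Set.range (E.fromSpecStalk x) := by rwa [Scheme.range_fromSpecStalk]
      by_cases hq : q.asIdeal = ⊥
      · exact Or.inr (congrArg _ (PrimeSpectrum.ext hq))
      · left
        have := IsLocalRing.eq_maximalIdeal (Ideal.IsPrime.isMaximal q.isPrime hq)
        rw [show q = IsLocalRing.closedPoint (E.presheaf.stalk x) from PrimeSpectrum.ext this,
          Scheme.fromSpecStalk_closedPoint]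
    have hη : u = E.fromSpecStalk x ⟨⊥, Ideal.isPrime_bot⟩ :=
      (hcase u hux).resolve_left fun h => hxU (h ▸ hu)
    refine ⟨?_, fun y hy hyU => (hcase y hy).resolve_right fun h => hyU ((h.trans hη.symm) ▸ hu)⟩
    have hnf : ¬ IsField (E.presheaf.stalk x) := fun hf => hxU (by
      have hb := (IsLocalRing.isField_iff_maximalIdeal_eq.1 hf)
      rw [show (⟨⊥, Ideal.isPrime_bot⟩ : PrimeSpectrum (E.presheaf.stalk x)) =
        IsLocalRing.closedPoint _ from PrimeSpectrum.ext hb.symm,
        Scheme.fromSpecStalk_closedPoint] at hη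
      exact hη ▸ hu)
    exact IsPrincipalIdealRing.ringKrullDim_eq_one _ hnf
  let T : Set E := {x | x ∉ U ∧ (maximalIdeal (E.presheaf.stalk x)).IsPrincipal}
  have hfin : T.Finite := by
    obtain ⟨S, hSf, hSc, hSi, hSu⟩ :=
      NoetherianSpace.exists_finite_set_isClosed_irreducible U.2.isClosed_compl
    haveI := hSf.to_subtype
    refine (Set.finite_range fun K : S => (hSi K.1 K.2).genericPoint).subset ?_
    rintro x ⟨hxU, hp⟩
    obtain ⟨K, hK, hxK⟩ : ∃ K ∈ S, x ∈ K := Set.mem_sUnion.1 (hSu ▸ hxU)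
    have hgen := (hSi K hK).isGenericPoint_genericPoint_closure
    rw [(hSc K hK).closure_eq] at hgen
    refine ⟨⟨K, hK⟩, (hmax x hxU hp).2 _ (hgen.specializes hxK) ?_⟩
    exact (hSu.superset (Set.mem_sUnion.2 ⟨K, hK, hgen.mem⟩) : _)
  let Z : Closeds E := ⟨closure T, isClosed_closure⟩
  have hZU : closure T ⊆ (U : Set E)ᶜ :=
    closure_minimal (fun x hx => hx.1) U.2.isClosed_compl
  set 𝓘 := Scheme.IdealSheafData.vanishingIdeal Z
  have hsupp : (𝓘.support : Set E) = closure T := Scheme.IdealSheafData.coe_support_vanishingIdeal _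
  haveI := reduced hreg
  have hC : BlowUp.IsEffCartierIdeal 𝓘 := by
    refine IdealSh.CodimOne.isEffCartierIdeal 𝓘 (fun z hz => ?_) (fun z hz => ?_)
      (fun x _ => isUFD hreg x)
    · exact (WeakAssSch.isWeakAssPoint_unit_iff_maximal z).mp
        ((WeakAssSch.isWeakAssPoint_unit_iff_isAssociatedPrime z).mpr hz)
    · have hzT : 𝓘.subschemeι z ∈ closure T := by
        rw [← hsupp, ← Scheme.IdealSheafData.range_subschemeι]
        exact ⟨z, rfl⟩
      rw [← Set.biUnion_of_singleton T, hfin.closure_biUnion, Set.mem_iUnion₂] at hzT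
      obtain ⟨t, ht, htz⟩ := hzT
      rw [← specializes_iff_mem_closure] at htz
      obtain ⟨z', rfl⟩ : t ∈ Set.range 𝓘.subschemeι := by
        rw [Scheme.IdealSheafData.range_subschemeι, hsupp]
        exact subset_closure ht
      rw [hz z' (𝓘.subschemeι.isClosedEmbedding.isInducing.specializes_iff.mp htz)] at ht
      exact (hmax _ ht.1 ht.2).1
  refine ⟨𝓘.support.compl, fun x hxU hx => hZU (hsupp.subset hx) hxU, ?_, fun x hxW hxU => ?_⟩
  · haveI := S8853.result 𝓘 (fun x _ => by
      obtain ⟨V, hxV, f, -, hf⟩ := hC x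
      exact ⟨V, hxV, f, hf⟩)
    haveI : IsAffine (Scheme.Opens.toScheme 𝓘.support.compl) :=
      isAffine_of_isAffineHom (Scheme.Opens.ι 𝓘.support.compl)
    exact ‹IsAffine _›
  · haveI := hreg x
    haveI := (isUFD hreg x).1
    haveI := (isUFD hreg x).2
    exact RegLoc.Serre.two_le_depth fun hp => hxW (hsupp.superset (subset_closure ⟨hxU, hp⟩))

end Groth.Agent.Helper63.EtHullReg
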