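import Groth.Agent.Helper63.SmoothCurve
import Groth.Agent.LimLib.FGSub
import Groth.Agent.LimLib.Proper
import Groth.Agent.FlatDescends.Basic
import Groth.Agent.EtStruct.BaseChangeDescentScheme
import Groth.Agent.ProjProper.Basic
import Mathlib.RingTheory.PowerSeries.Basic

/-!
# From a smoothing over power series to a geometric smoothing
-/

set_option autoImplicit false
set_option linter.style.haveILetI false
set_option backward.isDefEq.respectTransparency false
universe u

open CategoryTheory CategoryTheory.Limits AlgebraicGeometry Opposite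
open Groth.Agent

noncomputable section

namespace Groth.Agent.Helper63.GeomSmoothing

/-- A morphism is smooth on its smooth locus. -/
theorem smooth_smoothLocus {X Y : Scheme.{u}} (f : X ⟶ Y) [LocallyOfFinitePresentation f] :
    Smooth (f.smoothLocus.ι ≫ f) := by
  rw [← Scheme.Hom.smoothLocus_eq_top_iff, ← Scheme.Hom.preimage_smoothLocus_eq]
  exact Scheme.Opens.ι_preimage_self _

/-- A base change landing in the smooth locus is smooth. -/
theorem smooth_of_range_le {F Z X Y : Scheme.{u}} {a : F ⟶ X} {b : F ⟶ Z} {f : X ⟶ Y} {g : Z ⟶ Y}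
    [LocallyOfFinitePresentation f] (sq : IsPullback a b f g) (h : ∀ x, a.base x ∈ f.smoothLocus) :
    Smooth b := by
  have hr : Set.range a.base ⊆ Set.range f.smoothLocus.ι.base := by
    rw [Scheme.Opens.range_ι]
    rintro _ ⟨x, rfl⟩
    exact h x
  let l := IsOpenImmersion.lift f.smoothLocus.ι a hr
  have hl : l ≫ f.smoothLocus.ι = a := IsOpenImmersion.lift_fac _ _ _
  have hsq : IsPullback l (𝟙 F) f.smoothLocus.ι a := by
    refine ⟨⟨by rw [hl, Category.id_comp]⟩, ⟨PullbackCone.IsLimit.mk _ (fun s => s.snd) (fun s => ?_)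
      (fun s => Category.comp_id _) (fun s m _ hm => by simpa using hm)⟩⟩
    rw [← cancel_mono f.smoothLocus.ι, Category.assoc, hl]
    exact s.condition.symm
  have hbig := hsq.paste_vert sq
  rw [Category.id_comp] at hbig
  exact MorphismProperty.of_isPullback (P := @Smooth) hbig (smooth_smoothLocus f)

set_option maxHeartbeats 1600000 in
theorem exists_smoothing (k : Type u) [Field k] [IsAlgClosed k]
    (X : Scheme.{u}) (pX : X ⟶ Spec (CommRingCat.of k))
    (P : Scheme.{u}) (p : P ⟶ Spec (CommRingCat.of (PowerSeries k))) [Flat p]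
    (hproj : ∃ (d : ℕ) (ι : P ⟶ CohB1.ProjSpace d (PowerSeries k)), IsClosedImmersion ι ∧
      ι ≫ CohB1.ProjSpace.toSpec d (PowerSeries k) = p)
    (i : X ⟶ P)
    (hX : IsPullback i pX p (Spec.map (CommRingCat.ofHom (PowerSeries.constantCoeff (R := k)))))
    (hgen : Smooth (pullback.snd p
      (Spec.map (CommRingCat.ofHom (algebraMap (PowerSeries k) (FractionRing (PowerSeries k))))))) :
    ∃ (C : Scheme.{u}) (qC : C ⟶ Spec (CommRingCat.of k)) (c : Spec (CommRingCat.of k) ⟶ C)
      (_ : c ≫ qC = 𝟙 (Spec (CommRingCat.of k))) (_ : IsIntegral C) (_ : IsAffine C) (_ : Smooth qC)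
      (_ : topologicalKrullDim C = 1)
      (Y : Scheme.{u}) (π : Y ⟶ C) (_ : Flat π) (_ : IsProper π) (j : X ⟶ Y)
      (η : C) (_ : closure ({η} : Set C) = Set.univ),
      IsPullback j pX π c ∧ Smooth (π.fiberToSpecResidueField η) := by
  classical
  let A := PowerSeries k
  haveI hp : IsProper p := by
    obtain ⟨d, ι, hι, rfl⟩ := hproj
    haveI := hι
    haveI := ProjProper.Basic.isProper_toSpec d (PowerSeries k)
    infer_instance
  haveI : IsLocallyNoetherian (Spec (CommRingCat.of A)) := inferInstance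
  haveI : LocallyOfFinitePresentation p := inferInstance
  let D := LimLib.fgDiagram k A
  let cn := LimLib.fgCone k A
  have hlim := LimLib.isLimitFgCone k A
  haveI : CompactSpace P := QuasiCompact.compactSpace_of_compactSpace p
  haveI : QuasiSeparatedSpace P := quasiSeparatedSpace_of_quasiSeparated p
  haveI hnoe : ∀ s, IsLocallyNoetherian (D.obj s) := fun s =>
    haveI : Algebra.FiniteType k (Algebra.adjoin k (s.unop : Set A)) :=
      ⟨(Subalgebra.fg_top _).2 ⟨s.unop, rfl⟩⟩
    haveI : IsNoetherianRing (CommRingCat.of (Algebra.adjoin k (s.unop : Set A))) :=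
      Algebra.FiniteType.isNoetherianRing k (Algebra.adjoin k (s.unop : Set A))
    (inferInstance : IsLocallyNoetherian (Spec (CommRingCat.of (Algebra.adjoin k (s.unop : Set A)))))
  have hD : ∀ (a b : (Finset A)ᵒᵖ) (f : a ⟶ b), IsAffineHom (D.map f) := fun a b f =>
    LimLib.isAffineHom_fgDiagram k A f
  have hqc : ∀ a, CompactSpace (D.obj a) := fun a => by
    haveI := LimLib.isAffine_fgDiagram k A a
    infer_instance
  have hqs : ∀ a, QuasiSeparatedSpace (D.obj a) := fun a => by
    haveI := LimLib.isAffine_fgDiagram k A a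
    infer_instance
  obtain ⟨i₀, X₀, f₀, q₀, hf₀, hX₀, hX₀', sq₀⟩ := LimLib.hasModel hlim (X := P) p
  -- pulling back to later stages
  have step : ∀ {a b : (Finset A)ᵒᵖ} (φ : b ⟶ a) {Z : Scheme.{u}} (f : Z ⟶ D.obj a) (q : P ⟶ Z),
      IsPullback q p f (cn.π.app a) →
      ∃ q' : P ⟶ pullback f (D.map φ), IsPullback q' p (pullback.snd f (D.map φ)) (cn.π.app b) := by
    intro a b φ Z f q sq
    refine ⟨pullback.lift q (p ≫ cn.π.app b) (by rw [Category.assoc, cn.w]; exact sq.w), ?_⟩
    refine IsPullback.of_right ?_ (pullback.lift_snd _ _ _) (IsPullback.of_hasPullback f (D.map φ))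
    rw [pullback.lift_fst, cn.w]
    exact sq
  haveI := hf₀
  obtain ⟨i₁, φ₁, hp₁⟩ := LimLib.descends_isProper D cn hlim hD hqc hqs i₀ X₀ f₀ hX₀ hX₀' inferInstance
    P q₀ p sq₀ hp
  obtain ⟨q₁, sq₁⟩ := step φ₁ f₀ q₀ sq₀
  let f₁ := pullback.snd f₀ (D.map φ₁)
  haveI : IsProper f₁ := hp₁
  haveI : CompactSpace (D.obj i₁) := hqc i₁
  haveI : QuasiSeparatedSpace (D.obj i₁) := hqs i₁
  obtain ⟨i₂, φ₂, hf₂⟩ := FlatDescends.descends_flat D cn hlim hD hqc hqs i₁ _ f₁
    (QuasiCompact.compactSpace_of_compactSpace f₁) (quasiSeparatedSpace_of_quasiSeparated f₁)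
    (inferInstanceAs (LocallyOfFinitePresentation (pullback.snd f₀ (D.map φ₁)))) P q₁ p sq₁ ‹Flat p›
  obtain ⟨q₂, sq₂⟩ := step φ₂ f₁ q₁ sq₁
  let f₂ := pullback.snd f₁ (D.map φ₂)
  haveI : Flat f₂ := hf₂
  haveI : IsProper f₂ := inferInstanceAs (IsProper (pullback.snd f₁ (D.map φ₂)))
  -- add the parameter
  let i₃ : (Finset A)ᵒᵖ := op (i₂.unop ∪ {(PowerSeries.X : PowerSeries k)})
  let φ₃ : i₃ ⟶ i₂ := (homOfLE (show i₂.unop ≤ i₂.unop ∪ {(PowerSeries.X : PowerSeries k)} from
    Finset.subset_union_left)).op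
  obtain ⟨q₃, sq₃⟩ := step φ₃ f₂ q₂ sq₂
  let f₃ := pullback.snd f₂ (D.map φ₃)
  haveI : Flat f₃ := inferInstanceAs (Flat (pullback.snd f₂ (D.map φ₃)))
  haveI : IsProper f₃ := inferInstanceAs (IsProper (pullback.snd f₂ (D.map φ₃)))
  haveI : LocallyOfFinitePresentation f₃ := inferInstance
  let R := Algebra.adjoin k (i₃.unop : Set A)
  haveI : Algebra.FiniteType k R := ⟨(Subalgebra.fg_top _).2 ⟨i₃.unop, rfl⟩⟩
  let z : R →ₐ[k] k :=
    { (PowerSeries.constantCoeff (R := k)).comp R.val.toRingHom with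
      commutes' := fun r => PowerSeries.constantCoeff_C r }
  have hz : RingHom.ker z.toRingHom ≠ ⊥ := by
    intro h
    have ht : (⟨PowerSeries.X, Algebra.subset_adjoin (by simp [i₃])⟩ : R) ∈ RingHom.ker z.toRingHom :=
      PowerSeries.constantCoeff_X
    rw [h, Ideal.mem_bot] at ht
    exact PowerSeries.X_ne_zero (congrArg Subtype.val ht)
  -- the open over which the model is smooth
  let W : Set (PrimeSpectrum R) := f₃.base '' ((f₃.smoothLocus : Set _)ᶜ)
  have hW : IsClosed W := f₃.isClosedMap _ f₃.smoothLocus.2.isClosed_compl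
  have hbot : (⟨⊥, Ideal.isPrime_bot⟩ : PrimeSpectrum R) ∈ Wᶜ := by
    rintro ⟨y, hy, hyη⟩
    let g := Spec.map (CommRingCat.ofHom (algebraMap A (FractionRing A))) ≫ cn.π.app i₃
    have sqg : IsPullback (pullback.fst p (Spec.map (CommRingCat.ofHom (algebraMap A (FractionRing A)))) ≫ q₃)
        (pullback.snd p (Spec.map (CommRingCat.ofHom (algebraMap A (FractionRing A))))) f₃ g :=
      (IsPullback.of_hasPullback _ _).paste_horiz sq₃
    let ξ : Spec (CommRingCat.of (FractionRing A)) := ⟨⊥, Ideal.isPrime_bot⟩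
    have hgξ : g.base ξ = f₃.base y := by
      rw [hyη]
      refine PrimeSpectrum.ext ?_
      show Ideal.comap R.val.toRingHom (Ideal.comap (algebraMap A (FractionRing A)) ⊥) = ⊥
      rw [Ideal.comap_bot_of_injective _ (IsFractionRing.injective A (FractionRing A)),
        Ideal.comap_bot_of_injective _ Subtype.val_injective]
    obtain ⟨y', hy', hy''⟩ := Scheme.Pullback.exists_preimage_pullback y ξ hgξ.symm
    let e := sqg.isoPullback
    have he : (pullback.fst p (Spec.map (CommRingCat.ofHom (algebraMap A (FractionRing A)))) ≫ q₃).base (e.inv.base y') = y := by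
      rw [← hy', ← Scheme.Hom.comp_apply, sqg.isoPullback_inv_fst]
    have hflat : ∀ w, (g.stalkMap w).hom.Flat := by
      intro w
      obtain rfl : w = ξ := Subsingleton.elim (α := PrimeSpectrum (FractionRing A)) w ξ
      have hfield : IsField ((D.obj i₃).presheaf.stalk (g.base ξ)) := by
        rw [hgξ, hyη]
        refine MulEquiv.isField ?_ (StructureSheaf.stalkIso R (⟨⊥, Ideal.isPrime_bot⟩ : PrimeSpectrum R)).symm.toMulEquiv
        rw [IsLocalRing.isField_iff_maximalIdeal_eq, ← Localization.AtPrime.map_eq_maximalIdeal, Ideal.map_bot]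
      letI := (g.stalkMap ξ).hom.toAlgebra
      letI := hfield.toField
      show Module.Flat ((D.obj i₃).presheaf.stalk (g.base ξ)) ((Spec (CommRingCat.of (FractionRing A))).presheaf.stalk ξ)
      infer_instance
    obtain ⟨U', hU', hUs⟩ := EtStruct.smooth_nhd_of_baseChange sqg (e.inv.base y') (hflat _)
      ⟨⊤, trivial, by haveI := hgen; infer_instance⟩
    refine hy ?_
    rw [he] at hU'
    exact (EtStruct.smooth_nhd_iff f₃ y).1 ⟨U', hU', hUs⟩
  obtain ⟨E, _, _, _, h, w, hwh, hsm, hdim, hV⟩ :=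
    SmoothCurve.exists_smooth_curve z hz Wᶜ hW.isOpen_compl hbot
  let g₃ : Spec (CommRingCat.of E) ⟶ D.obj i₃ := Spec.map (CommRingCat.ofHom h.toRingHom)
  let c : Spec (CommRingCat.of k) ⟶ Spec (CommRingCat.of E) := Spec.map (CommRingCat.ofHom w.toRingHom)
  have hc : c ≫ Spec.map (CommRingCat.ofHom (algebraMap k E)) = 𝟙 _ := by
    rw [← Spec.map_comp, ← CommRingCat.ofHom_comp, ← Spec.map_id]
    exact congrArg Spec.map (congrArg CommRingCat.ofHom (RingHom.ext fun r => w.commutes r))
  have hsmq : Smooth (Spec.map (CommRingCat.ofHom (algebraMap k E))) :=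
    (HasRingHomProperty.Spec_iff (P := @Smooth)).2 (RingHom.smooth_algebraMap.2 hsm)
  have hd : topologicalKrullDim (Spec (CommRingCat.of E)) = 1 :=
    (PrimeSpectrum.topologicalKrullDim_eq_ringKrullDim E).trans hdim
  let η : Spec (CommRingCat.of E) := ⟨⊥, Ideal.isPrime_bot⟩
  have hη : closure ({η} : Set (Spec (CommRingCat.of E))) = Set.univ := by
    refine Set.eq_univ_of_forall fun y => ?_
    exact (PrimeSpectrum.le_iff_mem_closure η y).1 (bot_le (a := (y : PrimeSpectrum E).asIdeal))
  have sqX : IsPullback (i ≫ q₃) pX f₃ (c ≫ g₃) := by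
    have he : c ≫ g₃ = Spec.map (CommRingCat.ofHom (PowerSeries.constantCoeff (R := k))) ≫ cn.π.app i₃ := by
      rw [← Spec.map_comp, ← CommRingCat.ofHom_comp]
      refine Eq.trans ?_ (Spec.map_comp _ _)
      exact congrArg Spec.map (congrArg CommRingCat.ofHom
        (RingHom.ext fun r => AlgHom.congr_fun hwh r))
    rw [he]
    exact hX.paste_horiz sq₃
  let π := pullback.snd f₃ g₃
  let j : X ⟶ pullback f₃ g₃ := pullback.lift (i ≫ q₃) (pX ≫ c) (by rw [Category.assoc]; exact sqX.w)
  have hj : IsPullback j pX π c := by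
    refine IsPullback.of_right ?_ (pullback.lift_snd _ _ _) (IsPullback.of_hasPullback f₃ g₃)
    rw [pullback.lift_fst]
    exact sqX
  refine ⟨Spec (CommRingCat.of E), Spec.map (CommRingCat.ofHom (algebraMap k E)), c, hc, inferInstance,
    inferInstance, hsmq, hd, _, π, inferInstanceAs (Flat (pullback.snd f₃ g₃)),
    inferInstanceAs (IsProper (pullback.snd f₃ g₃)), j, η, hη, hj, ?_⟩
  have sqf := (IsPullback.of_hasPullback π ((Spec (CommRingCat.of E)).fromSpecResidueField η)).paste_horiz
    (IsPullback.of_hasPullback f₃ g₃)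
  refine smooth_of_range_le sqf fun y => ?_
  by_contra hy
  refine (hV : PrimeSpectrum.comap h.toRingHom η ∈ Wᶜ) ⟨_, hy, ?_⟩
  rw [← Scheme.Hom.comp_apply, sqf.w, Scheme.Hom.comp_apply, Scheme.Hom.comp_apply,
    Scheme.fromSpecResidueField_apply]
  rfl

end Groth.Agent.Helper63.GeomSmoothing
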