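import Groth.Agent.DefSchLib.Aut
import Groth.Agent.HilbLoc.Tangent
import Groth.Agent.HilbLoc.Moduli
import Groth.Agent.HilbLoc.ModuliDim
import Groth.Prelude.Def_ArtFun6

/-!
# First-order deformations of a morphism into a `k`-scheme
-/

set_option autoImplicit false
universe u

open CategoryTheory AlgebraicGeometry TopologicalSpace Opposite Limits IsLocalRing
open Groth.Agent.AffDef Groth.Agent.DefSchLib

noncomputable section

namespace Groth.Agent.Helper63.HomTangent

variable {k : Type u} [Field k] {X Y : Scheme.{u}} {x : X ⟶ Spec (CommRingCat.of k)}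
  {y : Y ⟶ Spec (CommRingCat.of k)} {f : X ⟶ Y} (hf : f ≫ y = x)

/-- Derivations of `O_Y` into `f_* O_X`, vanishing on constants. -/
structure FDer (y : Y ⟶ Spec (CommRingCat.of k)) (f : X ⟶ Y) where
  d : ∀ U : Y.Opens, Γ(Y, U) →+ Γ(X, f ⁻¹ᵁ U)
  mul : ∀ U a b, d U (a * b) = f.app U a * d U b + f.app U b * d U a
  res : ∀ {U V : Y.Opens} (h : V ≤ U) (s : Γ(Y, U)),
    d V (Y.presheaf.map (homOfLE h).op s) = X.presheaf.map (homOfLE (f.preimage_mono h)).op (d U s)
  const : ∀ (U : Y.Opens) (a : k), d U (str y U a) = 0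

/-- The derivation of a map out of the differentials. -/
def FDer.ofHom [QuasiSeparated y]
    (α : Omega.sheaf y ⟶ (Scheme.Modules.pushforward f).obj (Coh.structureModule X)) : FDer y f where
  d U := (OmegaSh.fnSect X (f ⁻¹ᵁ U)).comp ((α.app U).hom.comp ((OmegaSh.dOmega y).app U))
  mul U a b := by
    change OmegaSh.fnSect X (f ⁻¹ᵁ U) (((OmegaSh.dOmega y).postcomp α.val).d (X := op U) (a * b)) = _
    refine (congrArg (OmegaSh.fnSect X (f ⁻¹ᵁ U))
      (((OmegaSh.dOmega y).postcomp α.val).d_mul (X := op U) a b)).trans ?_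
    rfl
  res {U V} h s := ((OmegaSh.dOmega y).postcomp α.val).d_map (homOfLE h).op s
  const U a := by
    have h0 : ((OmegaSh.dOmega y).postcomp α.val).d (X := op (y ⁻¹ᵁ ⊤))
        (y.app ⊤ ((Scheme.ΓSpecIso (CommRingCat.of k)).inv a)) = 0 :=
      ((OmegaSh.dOmega y).postcomp α.val).d_app _
    have h1 := ((OmegaSh.dOmega y).postcomp α.val).d_map (homOfLE (le_top : U ≤ y ⁻¹ᵁ ⊤)).op
      (y.app ⊤ ((Scheme.ΓSpecIso (CommRingCat.of k)).inv a))
    exact h1.trans ((congrArg _ h0).trans (map_zero _))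

lemma FDer.ofHom_add [QuasiSeparated y]
    (α β : Omega.sheaf y ⟶ (Scheme.Modules.pushforward f).obj (Coh.structureModule X)) (U : Y.Opens) (s : Γ(Y, U)) :
    (FDer.ofHom (α + β)).d U s = (FDer.ofHom α).d U s + (FDer.ofHom β).d U s := rfl

lemma FDer.ofHom_injective [QuasiSeparated y]
    {α β : Omega.sheaf y ⟶ (Scheme.Modules.pushforward f).obj (Coh.structureModule X)}
    (h : ∀ U s, (FDer.ofHom α).d U s = (FDer.ofHom β).d U s) : α = β := by
  obtain ⟨γ, -, huniq⟩ := Omega.DiagUniv.isUniversal_dOmega (f := y) _ ((OmegaSh.dOmega y).postcomp β.val)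
  refine (huniq α ?_).trans (huniq β rfl).symm
  ext U s
  exact h U.unop s

theorem FDer.exists_ofHom [QuasiSeparated y] (D : FDer y f) :
    ∃ α : Omega.sheaf y ⟶ (Scheme.Modules.pushforward f).obj (Coh.structureModule X),
      ∀ U s, (FDer.ofHom α).d U s = D.d U s := by
  let D' : OmegaSh.Der y ((Scheme.Modules.pushforward f).obj (Coh.structureModule X)) :=
    { d := fun {U} => (OmegaSh.strSect X (f ⁻¹ᵁ U.unop)).comp (D.d U.unop)
      d_mul := fun {U} a b => D.mul U.unop a b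
      d_map := fun {U V} g a => D.res g.unop.le a
      d_app := fun {V} a => by
        change D.d (y ⁻¹ᵁ V.unop) (y.app V.unop a) = 0
        induction V using Opposite.rec with
        | op V =>
          by_cases h : ∃ z, z ∈ V
          · obtain ⟨z, hz⟩ := h
            obtain rfl : V = ⊤ := top_le_iff.1 fun w _ => (@Subsingleton.elim _ (inferInstanceAs (Subsingleton (PrimeSpectrum k))) z w) ▸ hz
            obtain ⟨b, rfl⟩ := (Scheme.ΓSpecIso (CommRingCat.of k)).symm.commRingCatIsoToRingEquiv.surjective a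
            refine Eq.trans (congrArg _ ?_) (D.const _ b)
            rw [Scheme.Hom.app_eq_appLE]
            rfl
          · have e : (f ⁻¹ᵁ (y ⁻¹ᵁ V) : X.Opens) = ⊥ := by
              ext w
              exact ⟨fun hw => absurd ⟨_, hw⟩ h, fun hw => hw.elim⟩
            haveI : Subsingleton Γ(X, f ⁻¹ᵁ (y ⁻¹ᵁ V)) := by rw [e]; infer_instance
            exact Subsingleton.elim (α := Γ(X, f ⁻¹ᵁ (y ⁻¹ᵁ V))) _ _ }
  obtain ⟨α, hα, -⟩ := Omega.DiagUniv.isUniversal_dOmega (f := y) _ D'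
  exact ⟨α, fun U s => PresheafOfModules.Derivation.congr_d hα (X := op U) s⟩

/-- The sum of two derivations. -/
def FDer.add (D D' : FDer y f) : FDer y f where
  d U := D.d U + D'.d U
  mul U a b := by simp only [AddMonoidHom.add_apply, D.mul, D'.mul]; ring
  res h s := by simp only [AddMonoidHom.add_apply, D.res, D'.res, map_add]
  const U a := by simp only [AddMonoidHom.add_apply, D.const, D'.const, add_zero]

section Pert

variable {Z : Scheme.{u}} {q : Z ⟶ X} {A : ArtFun.Art k k} {g : Z ⟶ Spec (CommRingCat.of A)}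

variable (q g) in
/-- The sections of `q ≫ f + a D + b D'`. -/
def pertFun (a b : A) (haa : a * a = 0) (hab : a * b = 0) (hbb : b * b = 0) (D D' : FDer y f) (U : Y.Opens) :
    Γ(Y, U) →+* Γ(Z, q ⁻¹ᵁ (f ⁻¹ᵁ U)) :=
    { toFun := fun s => q.app (f ⁻¹ᵁ U) (f.app U s) + str g (q ⁻¹ᵁ (f ⁻¹ᵁ U)) a * q.app _ (D.d U s) +
        str g (q ⁻¹ᵁ (f ⁻¹ᵁ U)) b * q.app _ (D'.d U s)
      map_one' := by
        have h : ∀ E : FDer y f, E.d U 1 = 0 := fun E => by simpa using E.mul U 1 1
        simp [h]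
        all_goals rfl
      map_zero' := by
        simp
        all_goals rfl
      map_add' := fun s t => by simp only [map_add, mul_add]; abel
      map_mul' := fun s t => by
        have e1 : str g (q ⁻¹ᵁ (f ⁻¹ᵁ U)) a * str g (q ⁻¹ᵁ (f ⁻¹ᵁ U)) a = 0 := by rw [← map_mul, haa, map_zero]
        have e2 : str g (q ⁻¹ᵁ (f ⁻¹ᵁ U)) a * str g (q ⁻¹ᵁ (f ⁻¹ᵁ U)) b = 0 := by rw [← map_mul, hab, map_zero]
        have e3 : str g (q ⁻¹ᵁ (f ⁻¹ᵁ U)) b * str g (q ⁻¹ᵁ (f ⁻¹ᵁ U)) b = 0 := by rw [← map_mul, hbb, map_zero]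
        simp only [map_mul, D.mul, D'.mul, map_add]
        linear_combination (-(q.app _ (D.d U s) * q.app _ (D.d U t))) * e1 +
          (-(q.app _ (D.d U s) * q.app _ (D'.d U t) + q.app _ (D'.d U s) * q.app _ (D.d U t))) * e2 +
          (-(q.app _ (D'.d U s) * q.app _ (D'.d U t))) * e3 }

variable (q g) in
/-- `q ≫ f + a D + b D'` for square-zero `a, b`. -/
def pert (a b : A) (haa : a * a = 0) (hab : a * b = 0) (hbb : b * b = 0) (D D' : FDer y f) :
    Pert (q ≫ f) where
  δ U := pertFun q g a b haa hab hbb D D' U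
  res U V h s := by
    have hh : q ⁻¹ᵁ (f ⁻¹ᵁ V) ≤ q ⁻¹ᵁ (f ⁻¹ᵁ U) := q.preimage_mono (f.preimage_mono h)
    change _ + _ + _ = Z.presheaf.map (homOfLE hh).op (_ + _ + _)
    simp only [map_add, map_mul, map_str, D.res h, D'.res h, res_q q (f.preimage_mono h),
      app_res f h]
  near U s := ⟨2, by
    have e1 : str g (q ⁻¹ᵁ (f ⁻¹ᵁ U)) a * str g (q ⁻¹ᵁ (f ⁻¹ᵁ U)) a = 0 := by rw [← map_mul, haa, map_zero]
    have e2 : str g (q ⁻¹ᵁ (f ⁻¹ᵁ U)) a * str g (q ⁻¹ᵁ (f ⁻¹ᵁ U)) b = 0 := by rw [← map_mul, hab, map_zero]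
    have e3 : str g (q ⁻¹ᵁ (f ⁻¹ᵁ U)) b * str g (q ⁻¹ᵁ (f ⁻¹ᵁ U)) b = 0 := by rw [← map_mul, hbb, map_zero]
    change (q.app _ (f.app U s) + str g _ a * q.app _ (D.d U s) + str g _ b * q.app _ (D'.d U s) -
      q.app _ (f.app U s)) ^ 2 = 0
    linear_combination (q.app _ (D.d U s) ^ 2) * e1 + (2 * q.app _ (D.d U s) * q.app _ (D'.d U s)) * e2 +
      (q.app _ (D'.d U s) ^ 2) * e3⟩

lemma pert_apply (a b : A) (haa : a * a = 0) (hab : a * b = 0) (hbb : b * b = 0) (D D' : FDer y f)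
    (U : Y.Opens) (s : Γ(Y, U)) :
    (pert q g a b haa hab hbb D D').δ U s = q.app (f ⁻¹ᵁ U) (f.app U s) +
      str g (q ⁻¹ᵁ (f ⁻¹ᵁ U)) a * q.app _ (D.d U s) + str g (q ⁻¹ᵁ (f ⁻¹ᵁ U)) b * q.app _ (D'.d U s) := rfl

lemma pert_comp (a b : A) (haa : a * a = 0) (hab : a * b = 0) (hbb : b * b = 0) (D D' : FDer y f) :
    (pert q g a b haa hab hbb D D').hom ≫ y = q ≫ f ≫ y := by
  refine ext_of_str fun c => ?_
  have h1 := appLE_str (g := y) ((pert q g a b haa hab hbb D D').hom) rfl ⊤ ⊤ (by exact le_top) c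
  have h2 := appLE_str (g := y) (q ≫ f) rfl ⊤ ⊤ (by exact le_top) c
  rw [← Category.assoc q, ← h1, ← h2]
  refine ((pert q g a b haa hab hbb D D').hom_appLE ⊤ ⊤ _ _).trans ?_
  rw [pert_apply, D.const, D'.const, map_zero, mul_zero,
    add_zero, mul_zero, add_zero]
  exact map_app _ _ _ _

lemma pert_appLE_self (a b : A) (haa : a * a = 0) (hab : a * b = 0) (hbb : b * b = 0) (D D' : FDer y f)
    (U : Y.Opens) (h : q ⁻¹ᵁ (f ⁻¹ᵁ U) ≤ (pert q g a b haa hab hbb D D').hom ⁻¹ᵁ U) (s : Γ(Y, U)) :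
    (pert q g a b haa hab hbb D D').hom.appLE U (q ⁻¹ᵁ (f ⁻¹ᵁ U)) h s =
      (pert q g a b haa hab hbb D D').δ U s := (pert q g a b haa hab hbb D D').hom_appLE_self U h s

lemma hom_congr {r : Z ⟶ Y} {P P' : Pert r} (h : ∀ U s, P.δ U s = P'.δ U s) : P.hom = P'.hom := by
  refine hom_ext_of_appLE rfl fun U W e e' s => ?_
  rw [Pert.hom_appLE, Pert.hom_appLE, h]

/-- Pulling back a perturbation. -/
lemma comp_pert {Z' : Scheme.{u}} {q' : Z' ⟶ X} {A' : ArtFun.Art k k} {g' : Z' ⟶ Spec (CommRingCat.of A')}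
    (j : Z' ⟶ Z) (m : (A : Type u) →+* A') (hq : j ≫ q = q')
    (hg : j ≫ g = g' ≫ Spec.map (CommRingCat.ofHom m))
    (a b : A) (haa : a * a = 0) (hab : a * b = 0) (hbb : b * b = 0)
    (a' b' : A') (haa' : a' * a' = 0) (hab' : a' * b' = 0) (hbb' : b' * b' = 0)
    (ha : m a = a') (hb : m b = b') (D D' : FDer y f) :
    j ≫ (pert q g a b haa hab hbb D D').hom = (pert q' g' a' b' haa' hab' hbb' D D').hom := by
  subst hq ha hb
  refine hom_ext_of_appLE ?_ fun U W e e' s => ?_
  · change j.base ≫ (q ≫ f).base = ((j ≫ q) ≫ f).base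
    rw [Category.assoc]; rfl
  have e2 : W ≤ j ⁻¹ᵁ (q ⁻¹ᵁ (f ⁻¹ᵁ U)) := e'
  refine (appLE_comp_apply j (pert q g a b haa hab hbb D D').hom U (q ⁻¹ᵁ (f ⁻¹ᵁ U)) W le_rfl e2 s).trans ?_
  refine (congrArg _ (pert_appLE_self a b haa hab hbb D D' U _ s)).trans ?_
  rw [pert_apply, map_add, map_add, map_mul, map_mul]
  refine Eq.trans ?_ ((pert (j ≫ q) g' (m a) (m b) haa' hab' hbb' D D').hom_appLE U W e' s).symm
  rw [pert_apply]
  change _ = Z'.presheaf.map (homOfLE (show W ≤ (j ≫ q) ⁻¹ᵁ (f ⁻¹ᵁ U) from e2)).op (_ + _ + _)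
  rw [map_add, map_add, map_mul, map_mul, map_str, map_str]
  have hs : ∀ c, j.appLE (q ⁻¹ᵁ (f ⁻¹ᵁ U)) W e2 (str g _ c) = str g' W (m c) := fun c =>
    (appLE_str (g := g) j hg _ W e2 c).trans (str_comp_specMap g' m W c)
  have hq : ∀ w, j.appLE (q ⁻¹ᵁ (f ⁻¹ᵁ U)) W e2 (q.app _ w) =
      Z'.presheaf.map (homOfLE (show W ≤ (j ≫ q) ⁻¹ᵁ (f ⁻¹ᵁ U) from e2)).op ((j ≫ q).app _ w) := fun w => by
    rw [map_app, Scheme.Hom.app_eq_appLE, ← appLE_comp_apply j q _ _ _ le_rfl]
  rw [hs, hs, hq, hq, hq]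

/-- A perturbation restricted to a point where the parameters vanish. -/
lemma comp_pert_eq {Z' : Scheme.{u}} (j : Z' ⟶ Z) {x' : Z' ⟶ Spec (CommRingCat.of k)}
    (hg : j ≫ g = x' ≫ Spec.map (CommRingCat.ofHom A.res.toRingHom))
    (a b : A) (haa : a * a = 0) (hab : a * b = 0) (hbb : b * b = 0) (D D' : FDer y f) :
    j ≫ (pert q g a b haa hab hbb D D').hom = j ≫ q ≫ f := by
  refine hom_ext_of_appLE rfl fun U W e e' s => ?_
  have e2 : W ≤ j ⁻¹ᵁ (q ⁻¹ᵁ (f ⁻¹ᵁ U)) := e'
  refine (appLE_comp_apply j (pert q g a b haa hab hbb D D').hom U (q ⁻¹ᵁ (f ⁻¹ᵁ U)) W le_rfl e2 s).trans ?_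
  have hs : ∀ c : A, c * c = 0 → j.appLE (q ⁻¹ᵁ (f ⁻¹ᵁ U)) W e2 (str g _ c) = 0 := fun c hc => by
    refine (appLE_str (g := g) j hg _ W e2 c).trans ((str_comp_specMap x' _ W c).trans ?_)
    rw [show A.res.toRingHom c = 0 from mul_self_eq_zero.1 (by
      show A.res c * A.res c = 0
      rw [← map_mul, hc, map_zero]), map_zero]
  refine (congrArg _ (pert_appLE_self a b haa hab hbb D D' U _ s)).trans ?_
  rw [pert_apply, map_add, map_add, map_mul, map_mul, hs a haa, hs b hbb, zero_mul,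
    zero_mul, add_zero, add_zero]
  refine Eq.symm ((appLE_comp_apply j (q ≫ f) U (q ⁻¹ᵁ (f ⁻¹ᵁ U)) W le_rfl e2 s).trans (congrArg _ ?_))
  exact (ConcreteCategory.congr_hom (Scheme.Hom.app_eq_appLE (f := q ≫ f) (U := U)).symm s).trans rfl

end Pert

section First

variable {Z : Scheme.{u}} {q : Z ⟶ X} {g : Z ⟶ Spec (CommRingCat.of (D1 k))}
  (hsq : IsPullback q g x (Spec.map (CommRingCat.ofHom (algebraMap k (D1 k)))))
  {i : X ⟶ Z} (hiq : i ≫ q = 𝟙 X) (hig : i ≫ g = x ≫ Spec.map (CommRingCat.ofHom (D1 k).res.toRingHom))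

/-- Restriction to the closed fibre on sections. -/
abbrev toFib (V : X.Opens) (hV : V ≤ i ⁻¹ᵁ (q ⁻¹ᵁ V)) : Γ(Z, q ⁻¹ᵁ V) →+* Γ(X, V) :=
  (i.appLE (q ⁻¹ᵁ V) V hV).hom

include hiq in
lemma le_fib (V : X.Opens) : V ≤ i ⁻¹ᵁ (q ⁻¹ᵁ V) := by rw [← Scheme.Hom.comp_preimage, hiq]; rfl

include hiq in
lemma toFib_q (V : X.Opens) (w : Γ(X, V)) : toFib V (le_fib hiq V) (q.app V w) = w := by
  change i.appLE _ _ _ (q.app V w) = w
  rw [Scheme.Hom.app_eq_appLE, ← appLE_comp_apply i q _ _ _ le_rfl]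
  refine (appLE_congr_hom hiq _ _ _ w).trans ?_
  simp only [Scheme.Hom.appLE, Scheme.Hom.id_app]
  change X.presheaf.map _ w = w
  exact (congrArg (fun h => X.presheaf.map h w) (Subsingleton.elim _ (𝟙 (op V)))).trans
    (ConcreteCategory.congr_hom (X.presheaf.map_id _) w)

include hiq hig hsq in
lemma toFib_eq_zero_iff (V : X.affineOpens) (z : Γ(Z, q ⁻¹ᵁ V.1)) :
    toFib V.1 (le_fib hiq _) z = 0 ↔ z ∈ (maximalIdeal (D1 k)).map (str g (q ⁻¹ᵁ V.1)) := by
  have hk : RingHom.ker (i.app (q ⁻¹ᵁ V.1)).hom = (maximalIdeal (D1 k)).map (str g (q ⁻¹ᵁ V.1)) := by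
    have := (ker_app (D1 k).res_surjective (isPullback_fibre hiq hig hsq) (isAffineOpen_preimage hsq V.2)).2.2
    rw [this, ker_res_eq]
  rw [← hk, RingHom.mem_ker]
  have hU' : i ⁻¹ᵁ (q ⁻¹ᵁ V.1) ≤ V.1 := by rw [← Scheme.Hom.comp_preimage, hiq]; rfl
  constructor
  · intro h0
    have h1 := congrArg (X.presheaf.map (homOfLE hU').op) h0
    rw [map_zero, ← ConcreteCategory.comp_apply, Scheme.Hom.appLE_map] at h1
    rwa [Scheme.Hom.app_eq_appLE]
  · intro h0
    rw [Scheme.Hom.app_eq_appLE] at h0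
    have h1 := congrArg (X.presheaf.map (homOfLE (le_fib hiq V.1)).op) h0
    rw [map_zero, ← ConcreteCategory.comp_apply, Scheme.Hom.appLE_map] at h1
    exact h1

include hiq hig hsq in
lemma toFib_of_eps_mul (V : X.affineOpens) (z : Γ(Z, q ⁻¹ᵁ V.1)) (hz : eY g _ * z = 0) :
    toFib V.1 (le_fib hiq _) z = 0 := by
  haveI := flat_g hsq
  exact (toFib_eq_zero_iff hsq hiq hig V z).2 (cancel _ (flat_str (isAffineOpen_preimage hsq V.2)) (K' := ⊥)
    (c := epsD k) (fun h0 => epsD_ne_zero (Ideal.mem_bot.1 h0)) (by rw [Ideal.map_bot, Ideal.mem_bot]; exact hz))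

lemma eps_sq : epsD k * epsD k = 0 := DualNumber.eps_mul_eps

variable (q g) in
/-- `q ≫ f + ε D`. -/
def pertE (D : FDer y f) : Pert (q ≫ f) :=
  pert q g (epsD k) 0 eps_sq (mul_zero _) (mul_zero _) D D

lemma pertE_apply (D : FDer y f) (U : Y.Opens) (s : Γ(Y, U)) :
    (pertE q g D).δ U s = q.app (f ⁻¹ᵁ U) (f.app U s) + eY g (q ⁻¹ᵁ (f ⁻¹ᵁ U)) * q.app _ (D.d U s) := by
  rw [pertE, pert_apply, map_zero, zero_mul, add_zero]

include hiq hig hsq in
/-- The derivation is determined by the perturbation. -/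
theorem pertE_injective (D D' : FDer y f) (h : (pertE q g D).hom = (pertE q g D').hom) (U : Y.Opens)
    (s : Γ(Y, U)) : D.d U s = D'.d U s := by
  have h1 := appLE_congr_hom h U (q ⁻¹ᵁ (f ⁻¹ᵁ U)) le_rfl s
  replace h1 : (pertE q g D).δ U s = (pertE q g D').δ U s :=
    ((pertE q g D).hom_appLE_self U _ s).symm.trans (h1.trans ((pertE q g D').hom_appLE_self U _ s))
  rw [pertE_apply, pertE_apply] at h1
  replace h1 : q.app (f ⁻¹ᵁ U) (f.app U s) + eY g (q ⁻¹ᵁ (f ⁻¹ᵁ U)) * q.app (f ⁻¹ᵁ U) (D.d U s) =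
    q.app (f ⁻¹ᵁ U) (f.app U s) + eY g (q ⁻¹ᵁ (f ⁻¹ᵁ U)) * q.app (f ⁻¹ᵁ U) (D'.d U s) := h1
  have h2 := add_left_cancel h1
  refine eq_of_affine fun V => ?_
  have h3 := congrArg (Z.presheaf.map (homOfLE (q.preimage_mono V.2)).op) h2
  rw [map_mul, map_mul, map_str, res_q q V.2, res_q q V.2, ← sub_eq_zero, ← mul_sub, ← map_sub] at h3
  have h4 := toFib_of_eps_mul hsq hiq hig V.1 _ h3
  rw [toFib_q hiq, sub_eq_zero] at h4
  exact h4

include hiq hig hsq in
/-- Every first-order deformation of `f` comes from a derivation. -/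
theorem exists_pertE_eq (hf : f ≫ y = x) (F : Z ⟶ Y) (hFy : F ≫ y = q ≫ x) (hiF : i ≫ F = f) :
    ∃ D : FDer y f, (pertE q g D).hom = F := by
  classical
  haveI := surjective_i hsq hiq hig
  haveI := flat_g hsq
  have hb : F.base = (q ≫ f).base := by
    ext z
    obtain ⟨w, rfl⟩ := i.surjective z
    change (i ≫ F) w = (i ≫ q ≫ f) w
    rw [hiF, reassoc_of% hiq]
  have hW : ∀ U : Y.Opens, q ⁻¹ᵁ (f ⁻¹ᵁ U) ≤ F ⁻¹ᵁ U := fun U z hz => by
    change F z ∈ U
    rw [show F z = (q ≫ f) z from congrArg (fun b : (Z : TopCat) ⟶ Y => b z) hb]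
    exact hz
  let δ : ∀ (U : Y.Opens) (V : AffIn (f ⁻¹ᵁ U)), Γ(Y, U) →+* Γ(Z, q ⁻¹ᵁ V.1.1) := fun U V =>
    (F.appLE U (q ⁻¹ᵁ V.1.1) ((q.preimage_mono V.2).trans (hW U))).hom
  let fq : ∀ (U : Y.Opens) (V : AffIn (f ⁻¹ᵁ U)), Γ(Y, U) →+* Γ(Z, q ⁻¹ᵁ V.1.1) := fun U V =>
    (q.app V.1.1).hom.comp (f.appLE U V.1.1 V.2).hom
  let π : ∀ V : X.Opens, Γ(Z, q ⁻¹ᵁ V) →+* Γ(X, V) := fun V => toFib V (le_fib hiq V)
  have hπδ : ∀ U V s, π _ (δ U V s) = f.appLE U V.1.1 V.2 s := fun U V s =>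
    (appLE_comp_apply i F U (q ⁻¹ᵁ V.1.1) V.1.1 _ (le_fib hiq _) s).symm.trans
      (appLE_congr_hom hiF _ _ _ s)
  have hπq : ∀ (V : X.Opens) (w : Γ(X, V)), π V (q.app V w) = w := toFib_q hiq
  have hey : ∀ (U : Y.Opens) (V : AffIn (f ⁻¹ᵁ U)) (s : Γ(Y, U)),
      ∃ z : Γ(Z, q ⁻¹ᵁ V.1.1), δ U V s - fq U V s = eY g (q ⁻¹ᵁ V.1.1) * z := by
    intro U V s
    obtain ⟨z, hz⟩ := split_mem (str g _) (maximalIdeal_D1 (k := k))
      ((toFib_eq_zero_iff hsq hiq hig V.1 (δ U V s - fq U V s)).1 (by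
        change π _ _ = 0
        rw [map_sub, hπδ, show fq U V s = q.app V.1.1 (f.appLE U V.1.1 V.2 s) from rfl, hπq, sub_self]))
    rw [Ideal.map_bot, Ideal.mem_bot, sub_eq_zero] at hz
    exact ⟨z, hz⟩
  choose z hz using hey
  have hspec : ∀ U V (s : Γ(Y, U)) w, δ U V s - fq U V s = eY g _ * w → π _ w = π _ (z U V s) := by
    intro U V s w hw
    rw [← sub_eq_zero, ← map_sub]
    refine toFib_of_eps_mul hsq hiq hig V.1 _ ?_
    rw [mul_sub, ← hw, ← hz, sub_self]
  have hres : ∀ (U U' : Y.Opens) (hU : U' ≤ U) (V : AffIn (f ⁻¹ᵁ U)) (V' : AffIn (f ⁻¹ᵁ U'))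
      (hV : V'.1.1 ≤ V.1.1) (s : Γ(Y, U)),
      π _ (z U' V' (Y.presheaf.map (homOfLE hU).op s)) = X.presheaf.map (homOfLE hV).op (π _ (z U V s)) := by
    intro U U' hU V V' hV s
    refine (hspec U' V' _ (Z.presheaf.map (homOfLE (q.preimage_mono hV)).op (z U V s)) ?_).symm.trans ?_
    · rw [show eY g (q ⁻¹ᵁ V'.1.1) = Z.presheaf.map (homOfLE (q.preimage_mono hV)).op (eY g (q ⁻¹ᵁ V.1.1))
          from (map_str g _ _).symm, ← map_mul, ← hz, map_sub]
      refine congrArg₂ (· - ·) ?_ ?_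
      · change (F.appLE U' _ _) (Y.presheaf.map (homOfLE hU).op s) = Z.presheaf.map _ (F.appLE U _ _ s)
        rw [← ConcreteCategory.comp_apply, ← ConcreteCategory.comp_apply, Scheme.Hom.map_appLE,
          Scheme.Hom.appLE_map]
      · change q.app _ (f.appLE U' _ _ (Y.presheaf.map (homOfLE hU).op s)) =
          Z.presheaf.map _ (q.app _ (f.appLE U _ _ s))
        rw [res_q q hV]
        refine congrArg _ ?_
        rw [← ConcreteCategory.comp_apply, ← ConcreteCategory.comp_apply, Scheme.Hom.map_appLE,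
          Scheme.Hom.appLE_map]
    · change i.appLE _ _ _ (Z.presheaf.map _ _) = X.presheaf.map _ (i.appLE _ _ _ _)
      rw [← ConcreteCategory.comp_apply, ← ConcreteCategory.comp_apply, Scheme.Hom.map_appLE,
        Scheme.Hom.appLE_map]
  have hid : ∀ (U : Y.Opens) (s : Γ(Y, U)), Y.presheaf.map (homOfLE (le_refl U)).op s = s := fun U s =>
    (congrArg (fun h => Y.presheaf.map h s) (Subsingleton.elim _ (𝟙 (op U)))).trans
      (ConcreteCategory.congr_hom (Y.presheaf.map_id _) s)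
  have hglue : ∀ (U : Y.Opens) (s : Γ(Y, U)), ∃ w : Γ(X, f ⁻¹ᵁ U),
      ∀ V : AffIn (f ⁻¹ᵁ U), X.presheaf.map (homOfLE V.2).op w = π _ (z U V s) := fun U s =>
    exists_glue (f ⁻¹ᵁ U) (fun V => π _ (z U V s)) fun V V' h => by
      conv_rhs => rw [← hid U s]
      exact (hres U U le_rfl V V' h s).symm
  choose dd hdd using hglue
  have hmul : ∀ U V (a b : Γ(Y, U)), π _ (z U V (a * b)) =
      f.appLE U V.1.1 V.2 a * π _ (z U V b) + f.appLE U V.1.1 V.2 b * π _ (z U V a) := by
    intro U V a b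
    refine (hspec U V (a * b) (δ U V a * z U V b + fq U V b * z U V a) ?_).symm.trans ?_
    · rw [map_mul, map_mul]
      linear_combination δ U V a * hz U V b + fq U V b * hz U V a
    · rw [map_add, map_mul, map_mul, hπδ, show fq U V b = q.app V.1.1 (f.appLE U V.1.1 V.2 b) from rfl, hπq]
  let D : FDer y f :=
    { d := fun U => AddMonoidHom.mk' (dd U) fun a b => eq_of_affine fun V => by
        rw [map_add, hdd, hdd, hdd, ← map_add]
        exact (hspec U V (a + b) _ (by rw [map_add, map_add, mul_add, ← hz, ← hz]; ring)).symm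
      mul := fun U a b => eq_of_affine fun V => by
        change X.presheaf.map _ (dd U (a * b)) = X.presheaf.map _ (f.app U a * dd U b + f.app U b * dd U a)
        rw [map_add, map_mul, map_mul, hdd, hdd, hdd, map_app f U V.2, map_app f U V.2, hmul]
      res := fun {U U'} hU s => eq_of_affine fun V' => by
        let V : AffIn (f ⁻¹ᵁ U) := ⟨V'.1, V'.2.trans (f.preimage_mono hU)⟩
        change X.presheaf.map _ (dd U' _) = X.presheaf.map _ (X.presheaf.map _ (dd U s))
        rw [hdd, res_res _ _ (homOfLE V.2), hdd U s V, hres U U' hU V V' le_rfl s]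
        exact (congrArg (fun h => X.presheaf.map h (π _ (z U V s))) (Subsingleton.elim _ (𝟙 _))).trans
          (ConcreteCategory.congr_hom (X.presheaf.map_id _) _)
      const := fun U a => eq_of_affine fun V => by
        change X.presheaf.map _ (dd U (str y U a)) = X.presheaf.map _ 0
        rw [hdd, map_zero]
        refine (hspec U V _ 0 ?_).symm.trans (map_zero _)
        rw [mul_zero, sub_eq_zero]
        change F.appLE _ _ _ (str y _ a) = q.app _ (f.appLE _ _ _ (str y _ a))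
        rw [appLE_str F hFy, appLE_str f hf, Scheme.Hom.app_eq_appLE, appLE_str q rfl] }
  refine ⟨D, hom_ext_of_appLE hb.symm fun U W e e' s => ?_⟩
  suffices H : (pertE q g D).δ U s = F.appLE U (q ⁻¹ᵁ (f ⁻¹ᵁ U)) (hW U) s by
    refine ((pertE q g D).hom_appLE U W e s).trans ((congrArg _ H).trans ?_)
    change Z.presheaf.map (homOfLE (show W ≤ q ⁻¹ᵁ (f ⁻¹ᵁ U) from e)).op (F.appLE U _ (hW U) s) = F.appLE U W e' s
    rw [← ConcreteCategory.comp_apply, Scheme.Hom.appLE_map]
  refine (pertE_apply D U s).trans ?_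
  refine eq_of_affine_pre q fun V => ?_
  rw [map_add, map_mul, map_str, res_q q V.2, res_q q V.2, map_app f U V.2,
    show X.presheaf.map (homOfLE V.2).op (D.d U s) = π _ (z U V s) from hdd U s V]
  rw [show Z.presheaf.map (homOfLE (q.preimage_mono V.2)).op (F.appLE U _ (hW U) s) = δ U V s from by
    change _ = F.appLE U _ _ s
    rw [← ConcreteCategory.comp_apply, Scheme.Hom.appLE_map]]
  rw [← eq_sub_iff_add_eq', show δ U V s - q.app V.1.1 (f.appLE U V.1.1 V.2 s) = eY g _ * z U V s from hz U V s,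
    ← sub_eq_zero, ← mul_sub]
  have hmem := (toFib_eq_zero_iff hsq hiq hig V.1 (q.app _ (π _ (z U V s)) - z U V s)).1
    (by change π _ _ = 0; rw [map_sub, hπq, sub_self])
  have h2 := Ideal.mul_mem_mul (Ideal.mem_map_of_mem (str g _) (Ideal.mem_span_singleton_self (epsD k))) hmem
  rw [← Ideal.map_mul] at h2
  have h3 : Ideal.span {epsD k} * maximalIdeal (D1 k) = ⊥ := by
    rw [eq_bot_iff, Ideal.mul_le]
    intro r hr m hm
    obtain ⟨r', rfl⟩ := Ideal.mem_span_singleton'.1 hr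
    rw [Ideal.mem_bot, mul_assoc, mul_comm (epsD k), mul_epsD hm, mul_zero]
  rwa [h3, Ideal.map_bot, Ideal.mem_bot] at h2

end First

end Groth.Agent.Helper63.HomTangent

namespace Groth.Agent.Helper63.HomTangent

section Main

open MonoidalCategory CartesianMonoidalCategory ArtFun ArtFun.Art HilbLoc

variable {k : Type u} [Field k] {X Y : Scheme.{u}} [X.Over (Spec (CommRingCat.of k))]
  {yY : Y ⟶ Spec (CommRingCat.of k)} {f : X ⟶ Y} (hf : f ≫ yY = X ↘ Spec (CommRingCat.of k))
  {M : Over (Spec (CommRingCat.of k))}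
  {υ : Over.mk (X ↘ Spec (CommRingCat.of k)) ⊗ M ⟶ Over.mk yY}
  (hM : ∀ (T : Over (Spec (CommRingCat.of k)))
    (φ : Over.mk (X ↘ Spec (CommRingCat.of k)) ⊗ T ⟶ Over.mk yY),
      ∃! a : T ⟶ M, (Over.mk (X ↘ Spec (CommRingCat.of k)) ◁ a) ≫ υ = φ)
  (h : Over.mk (𝟙 (Spec (CommRingCat.of k))) ⟶ M)
  (hh : (Over.mk (X ↘ Spec (CommRingCat.of k)) ◁ (show 𝟙_ (Over (Spec (CommRingCat.of k))) ⟶ M from h)) ≫ υ =
    (ρ_ (Over.mk (X ↘ Spec (CommRingCat.of k)))).hom ≫
      (Over.homMk f hf : Over.mk (X ↘ Spec (CommRingCat.of k)) ⟶ Over.mk yY))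

attribute [local instance] Groth.Agent.HilbLoc.Moduli.algO

open Groth.Agent.HilbLoc.Moduli

/-- `X` over `k`. -/
abbrev Xo (X : Scheme.{u}) [X.Over (Spec (CommRingCat.of k))] : Over (Spec (CommRingCat.of k)) :=
  Over.mk (X ↘ Spec (CommRingCat.of k))

/-- The perturbed morphism over `A`. -/
def phi {A : Art k k} (a b : A) (haa : a * a = 0) (hab : a * b = 0) (hbb : b * b = 0) (D D' : FDer yY f) :
    Xo (k := k) X ⊗ aSpec A ⟶ Over.mk yY :=
  Over.homMk (pert (pullback.fst (X ↘ Spec (CommRingCat.of k)) (specOver A))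
      (pullback.snd (X ↘ Spec (CommRingCat.of k)) (specOver A)) a b haa hab hbb D D').hom
    ((pert_comp a b haa hab hbb D D').trans (congrArg (_ ≫ ·) hf))

include hh in
lemma aRes_choose {A : Art k k} (a b : A) (haa : a * a = 0) (hab : a * b = 0) (hbb : b * b = 0)
    (D D' : FDer yY f) : aRes A ≫ (hM _ (phi hf a b haa hab hbb D D')).choose = h := by
  refine (hM (𝟙_ (Over (Spec (CommRingCat.of k))))
    ((ρ_ (Xo (k := k) X)).hom ≫ (Over.homMk f hf : Xo (k := k) X ⟶ Over.mk yY))).unique ?_ hh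
  let e : 𝟙_ (Over (Spec (CommRingCat.of k))) ⟶ aSpec A := aRes A
  show (Xo (k := k) X ◁ (e ≫ (hM _ (phi hf a b haa hab hbb D D')).choose)) ≫ υ = _
  rw [MonoidalCategory.whiskerLeft_comp, Category.assoc, (hM _ (phi hf a b haa hab hbb D D')).choose_spec.1]
  apply Over.OverMorphism.ext
  have h1 : (Xo (k := k) X ◁ e).left ≫ pullback.fst (X ↘ Spec (CommRingCat.of k)) (specOver A) =
      (ρ_ (Xo (k := k) X)).hom.left := by
    rw [rightUnitor_hom]
    exact congrArg CommaMorphism.left (whiskerLeft_fst (Xo (k := k) X) e)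
  have h2 := congrArg CommaMorphism.left (whiskerLeft_snd (Xo (k := k) X) e)
  refine (comp_pert_eq (Xo (k := k) X ◁ e).left (x' := (snd (Xo (k := k) X) (𝟙_ _)).left) h2
    a b haa hab hbb D D').trans ?_
  rw [← Category.assoc, h1]
  rfl

/-- The point of the parameter space. -/
def theta {A : Art k k} (a b : A) (haa : a * a = 0) (hab : a * b = 0) (hbb : b * b = 0)
    (D D' : FDer yY f) : HomSet (O h) (resO h) A :=
  (exists_pt h _ (aRes_choose hf hM h hh a b haa hab hbb D D')).choose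

lemma theta_eq {A : Art k k} (a b : A) (haa : a * a = 0) (hab : a * b = 0) (hbb : b * b = 0)
    (D D' : FDer yY f) (φ : HomSet (O h) (resO h) A)
    (hφ : (Xo (k := k) X ◁ pt h φ) ≫ υ = phi hf a b haa hab hbb D D') :
    theta hf hM h hh a b haa hab hbb D D' = φ :=
  pt_injective h ((exists_pt h _ (aRes_choose hf hM h hh a b haa hab hbb D D')).choose_spec.trans
    ((hM _ _).choose_spec.2 _ hφ).symm)

lemma theta_spec {A : Art k k} (a b : A) (haa : a * a = 0) (hab : a * b = 0) (hbb : b * b = 0)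
    (D D' : FDer yY f) :
    (Xo (k := k) X ◁ pt h (theta hf hM h hh a b haa hab hbb D D')) ≫ υ = phi hf a b haa hab hbb D D' := by
  rw [show pt h (theta hf hM h hh a b haa hab hbb D D') = _ from
    (exists_pt h _ (aRes_choose hf hM h hh a b haa hab hbb D D')).choose_spec]
  exact (hM _ _).choose_spec.1

lemma map_theta {A B : Art k k} (m : A ⟶ B) (a b : A) (haa : a * a = 0) (hab : a * b = 0) (hbb : b * b = 0)
    (a' b' : B) (haa' : a' * a' = 0) (hab' : a' * b' = 0) (hbb' : b' * b' = 0) (ha : m a = a') (hb : m b = b')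
    (D D' : FDer yY f) :
    ((hR (O h) (resO h)).map m (theta hf hM h hh a b haa hab hbb D D') : HomSet (O h) (resO h) B) =
      theta hf hM h hh a' b' haa' hab' hbb' D D' := by
  refine (theta_eq hf hM h hh a' b' haa' hab' hbb' D D' _ ?_).symm
  rw [← aMap_pt, MonoidalCategory.whiskerLeft_comp, Category.assoc, theta_spec]
  apply Over.OverMorphism.ext
  exact comp_pert (Xo (k := k) X ◁ aMap m).left m.toAlgHom.toRingHom
    (congrArg CommaMorphism.left (whiskerLeft_fst (Xo (k := k) X) (aMap m)))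
    (congrArg CommaMorphism.left (whiskerLeft_snd (Xo (k := k) X) (aMap m)))
    a b haa hab hbb a' b' haa' hab' hbb' ha hb D D'

lemma theta_congr {A : Art k k} {a b a' b' : A} {haa : a * a = 0} {hab : a * b = 0} {hbb : b * b = 0}
    {haa' : a' * a' = 0} {hab' : a' * b' = 0} {hbb' : b' * b' = 0} {D D' E E' : FDer yY f}
    (hδ : ∀ U s,
      (pert (pullback.fst (X ↘ Spec (CommRingCat.of k)) (specOver A))
        (pullback.snd (X ↘ Spec (CommRingCat.of k)) (specOver A)) a b haa hab hbb D D').δ U s =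
      (pert (pullback.fst (X ↘ Spec (CommRingCat.of k)) (specOver A))
        (pullback.snd (X ↘ Spec (CommRingCat.of k)) (specOver A)) a' b' haa' hab' hbb' E E').δ U s) :
    theta hf hM h hh a b haa hab hbb D D' = theta hf hM h hh a' b' haa' hab' hbb' E E' := by
  refine theta_eq hf hM h hh a b haa hab hbb D D' _ ?_
  rw [theta_spec]
  exact Over.OverMorphism.ext (hom_congr hδ).symm

/-- The tangent vector of a derivation. -/
def tv (D : FDer yY f) : TangentSpace (hR (O h) (resO h)) :=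
  theta hf hM h hh (epsD k) 0 eps_sq (mul_zero _) (mul_zero _) D D

variable [T : TangentStr (hR (O h) (resO h))]

lemma tv_add (D D' E : FDer yY f) (hE : ∀ U s, E.d U s = D.d U s + D'.d U s) :
    tv hf hM h hh E = tv hf hM h hh D + tv hf hM h hh D' := by
  let e₁ : dual2 k k := (TrivSqZeroExt.inr ((1, 0) : k × k) : TrivSqZeroExt k (k × k))
  let e₂ : dual2 k k := (TrivSqZeroExt.inr ((0, 1) : k × k) : TrivSqZeroExt k (k × k))
  have h11 : e₁ * e₁ = 0 := TrivSqZeroExt.inr_mul_inr _ _ _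
  have h12 : e₁ * e₂ = 0 := TrivSqZeroExt.inr_mul_inr _ _ _
  have h22 : e₂ * e₂ = 0 := TrivSqZeroExt.inr_mul_inr _ _ _
  let z := theta hf hM h hh e₁ e₂ h11 h12 h22 D D'
  have hp₁ : (hR (O h) (resO h)).map pr₁ z = tv hf hM h hh D := by
    refine (map_theta hf hM h hh pr₁ e₁ e₂ h11 h12 h22 (epsD k) 0 eps_sq (mul_zero _) (mul_zero _)
      (TrivSqZeroExt.ext rfl rfl) (TrivSqZeroExt.ext rfl rfl) D D').trans (theta_congr hf hM h hh fun U s => ?_)
    rw [pert_apply, pert_apply, map_zero, zero_mul, zero_mul]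
  have hp₂ : (hR (O h) (resO h)).map pr₂ z = tv hf hM h hh D' := by
    refine (map_theta hf hM h hh pr₂ e₁ e₂ h11 h12 h22 0 (epsD k) (mul_zero _) (zero_mul _) eps_sq
      (TrivSqZeroExt.ext rfl rfl) (TrivSqZeroExt.ext rfl rfl) D D').trans (theta_congr hf hM h hh fun U s => ?_)
    rw [pert_apply, pert_apply, map_zero, zero_mul, zero_mul, add_zero, add_zero]
  have hp : (hR (O h) (resO h)).map plus z = tv hf hM h hh E := by
    refine (map_theta hf hM h hh plus e₁ e₂ h11 h12 h22 (epsD k) (epsD k) eps_sq eps_sq eps_sq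
      (TrivSqZeroExt.ext rfl (add_zero (1 : k))) (TrivSqZeroExt.ext rfl (zero_add (1 : k))) D D').trans
      (theta_congr hf hM h hh fun U s => ?_)
    rw [pert_apply, pert_apply, map_zero, zero_mul, add_zero, hE, map_add, mul_add, add_assoc]
  rw [← hp₁, ← hp₂, ← hp]
  exact (T.add_eq z).symm

lemma tv_smul (c : k) (D E : FDer yY f)
    (hE : ∀ U s, E.d U s = str (X ↘ Spec (CommRingCat.of k)) (f ⁻¹ᵁ U) c * D.d U s) :
    tv hf hM h hh E = c • tv hf hM h hh D := by
  refine Eq.trans ?_ (T.smul_eq c (tv hf hM h hh D)).symm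
  refine Eq.symm ((map_theta hf hM h hh (scale c) (epsD k) 0 eps_sq (mul_zero _) (mul_zero _)
    (algebraMap k (dual k k) c * epsD k) 0 (by rw [mul_mul_mul_comm, eps_sq, mul_zero]) (mul_zero _) (mul_zero _)
    (TrivSqZeroExt.ext (mul_zero c).symm (by
      show c * (1 : k) = c * (1 : k) + 0 * (0 : k)
      rw [zero_mul, add_zero]))
    (map_zero (scale c).toAlgHom) D D).trans (theta_congr hf hM h hh fun U s => ?_))
  have hc : str (pullback.snd (X ↘ Spec (CommRingCat.of k)) (specOver (dual k k)))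
        (pullback.fst (X ↘ Spec (CommRingCat.of k)) (specOver (dual k k)) ⁻¹ᵁ (f ⁻¹ᵁ U))
        (algebraMap k (dual k k) c) =
      (pullback.fst (X ↘ Spec (CommRingCat.of k)) (specOver (dual k k))).app (f ⁻¹ᵁ U)
        (str (X ↘ Spec (CommRingCat.of k)) (f ⁻¹ᵁ U) c) := by
    rw [Scheme.Hom.app_eq_appLE, appLE_str (pullback.fst (X ↘ Spec (CommRingCat.of k)) (specOver (dual k k)))
      (pullback.condition)]
    exact (str_comp_specMap _ (algebraMap k (dual k k)) _ c).symm
  rw [pert_apply, pert_apply, map_zero, zero_mul, map_mul, hE, map_mul, hc]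
  ring_nf

omit T in
lemma tv_injective {D D' : FDer yY f} (e : tv hf hM h hh D = tv hf hM h hh D') (U : Y.Opens) (s : Γ(Y, U)) :
    D.d U s = D'.d U s := by
  have h1 := theta_spec hf hM h hh (epsD k) 0 eps_sq (mul_zero _) (mul_zero _) D D
  rw [show theta hf hM h hh (epsD k) 0 eps_sq (mul_zero _) (mul_zero _) D D =
    theta hf hM h hh (epsD k) 0 eps_sq (mul_zero _) (mul_zero _) D' D' from e, theta_spec] at h1
  let j : X ⟶ pullback (X ↘ Spec (CommRingCat.of k)) (specOver (dual k k)) :=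
    pullback.lift (𝟙 X) ((X ↘ Spec (CommRingCat.of k)) ≫ specRes (dual k k)) (by
      show _ = _ ≫ specMap (ofBase (dual k k))
      rw [Category.id_comp, Category.assoc, specRes_comp]
      exact (comp_specRes_base _).symm)
  exact pertE_injective (IsPullback.of_hasPullback _ (specOver (dual k k)))
    (pullback.lift_fst _ _ _ : j ≫ _ = _) (pullback.lift_snd _ _ _ : j ≫ _ = _)
    D D' (congrArg CommaMorphism.left h1).symm U s

omit T in
lemma tv_surjective (t : TangentSpace (hR (O h) (resO h))) : ∃ D : FDer yY f, tv hf hM h hh D = t := by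
  let φ : HomSet (O h) (resO h) (dual k k) := t
  let F := (Xo (k := k) X ◁ pt h φ) ≫ υ
  let e : 𝟙_ (Over (Spec (CommRingCat.of k))) ⟶ aSpec (dual k k) := aRes (dual k k)
  let jo := (ρ_ (Xo (k := k) X)).inv ≫ (Xo (k := k) X ◁ e)
  have hjq : jo ≫ fst _ _ = 𝟙 _ := by
    rw [Category.assoc, whiskerLeft_fst, ← rightUnitor_hom, Iso.inv_hom_id]
  have hjg : jo ≫ snd _ _ = toUnit _ ≫ e := by
    rw [Category.assoc, whiskerLeft_snd, ← Category.assoc]
    exact congrArg (· ≫ e) (toUnit_unique _ _)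
  have hjF : jo ≫ F = Over.homMk f hf := by
    show ((ρ_ (Xo (k := k) X)).inv ≫ (Xo (k := k) X ◁ e)) ≫ (Xo (k := k) X ◁ pt h φ) ≫ υ = _
    rw [Category.assoc, ← MonoidalCategory.whiskerLeft_comp_assoc,
      show e ≫ pt h φ = (show 𝟙_ (Over (Spec (CommRingCat.of k))) ⟶ M from h) from aRes_pt h φ, hh,
      Iso.inv_hom_id_assoc]
  obtain ⟨D, hD⟩ := exists_pertE_eq (IsPullback.of_hasPullback _ (specOver (dual k k)))
    (congrArg CommaMorphism.left hjq : jo.left ≫ _ = _)
    (congrArg CommaMorphism.left hjg : jo.left ≫ _ = _)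
    hf F.left (Over.w F) (congrArg CommaMorphism.left hjF : jo.left ≫ _ = _)
  exact ⟨D, theta_eq hf hM h hh _ _ _ _ _ D D φ (Over.OverMorphism.ext hD.symm)⟩

include hf hM hh in
theorem finrank_eq [QuasiSeparated yY]
    [DCoh.HasSheafHom ((Scheme.Modules.pullback f).obj (Omega.sheaf yY))] :
    Module.finrank k (TangentSpace (hR (O h) (resO h))) = Module.finrank k (Coh.HH X
      ((DCoh.sheafHom ((Scheme.Modules.pullback f).obj (Omega.sheaf yY))).obj (Coh.structureModule X)) 0) := by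
  let C := (Scheme.Modules.pullback f).obj (Omega.sheaf yY)
  let adj := Scheme.Modules.pullbackPushforwardAdjunction f
  let E : (C ⟶ Coh.structureModule X) → TangentSpace (hR (O h) (resO h)) := fun γ =>
    tv hf hM h hh (FDer.ofHom (adj.homEquiv _ _ γ))
  have hsymm_add : ∀ a b, (homHH C).symm (a + b) = (homHH C).symm a + (homHH C).symm b := fun a b =>
    (homHH C).injective (by rw [homHH_add, Equiv.apply_symm_apply, Equiv.apply_symm_apply, Equiv.apply_symm_apply])
  have hsymm_smul : ∀ (c : k) a, (homHH C).symm (c • a) = (homHH C).symm a ≫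
      Formal.smulModΓ (Coh.structureModule X) (Coh.toGlobal (X ↘ Spec (CommRingCat.of k)) c) := fun c a =>
    (homHH C).injective (by rw [homHH_smul, Equiv.apply_symm_apply, Equiv.apply_symm_apply]; rfl)
  let L : Coh.HH X ((DCoh.sheafHom C).obj (Coh.structureModule X)) 0 →ₗ[k]
      TangentSpace (hR (O h) (resO h)) :=
    { toFun := fun a => E ((homHH C).symm a)
      map_add' := fun a b => by
        rw [hsymm_add]
        refine tv_add hf hM h hh _ _ _ fun U s => ?_
        rw [show adj.homEquiv _ _ ((homHH C).symm a + (homHH C).symm b) =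
          adj.homEquiv _ _ ((homHH C).symm a) + adj.homEquiv _ _ ((homHH C).symm b) from
            map_add (adj.homAddEquiv _ _) _ _]
        exact FDer.ofHom_add _ _ U s
      map_smul' := fun c a => by
        rw [hsymm_smul, RingHom.id_apply]
        refine tv_smul hf hM h hh c _ _ fun U s => ?_
        rw [Adjunction.homEquiv_naturality_right]
        refine (KLin.smulModΓ_app_apply (Coh.structureModule X)
          (Coh.toGlobal (X ↘ Spec (CommRingCat.of k)) c) (f ⁻¹ᵁ U) _).trans ?_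
        rfl }
  refine (LinearEquiv.ofBijective L ⟨fun a b e => (homHH C).symm.injective ((adj.homEquiv _ _).injective
    (FDer.ofHom_injective fun U s => tv_injective hf hM h hh e U s)), fun t => ?_⟩).finrank_eq.symm
  obtain ⟨D, rfl⟩ := tv_surjective hf hM h hh t
  obtain ⟨β, hβ⟩ := FDer.exists_ofHom D
  refine ⟨homHH C ((adj.homEquiv _ _).symm β), ?_⟩
  show tv hf hM h hh (FDer.ofHom (adj.homEquiv _ _ ((homHH C).symm (homHH C ((adj.homEquiv _ _).symm β))))) = _
  rw [Equiv.symm_apply_apply, Equiv.apply_symm_apply]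
  refine theta_congr hf hM h hh fun U s => ?_
  rw [pert_apply, pert_apply, hβ]

end Main

end Groth.Agent.Helper63.HomTangent

namespace Groth.Agent.Helper63.HomTangent

open ArtFun ArtFun.Art Groth.Agent.ArtFunLib

section Cotangent

/-! The tangent space of `h_O` for a possibly non-Noetherian local algebra with rational point. -/

variable {k : Type u} [Field k] {R : Type u} [CommRing R] [IsLocalRing R] [Algebra k R]
  (res : R →ₐ[k] k) (hm : ∀ a, a ∈ maximalIdeal R ↔ res a = 0)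

include hm in
lemma residue_eq (a : R) : residue R a = algebraMap k (ResidueField R) (res a) := by
  rw [IsScalarTower.algebraMap_apply k R (ResidueField R), ← sub_eq_zero]
  change residue R a - residue R (algebraMap k R (res a)) = 0
  rw [← map_sub, residue_eq_zero_iff, hm, map_sub, AlgHom.commutes, Algebra.algebraMap_self,
    RingHom.id_apply, sub_self]

include hm in
lemma algebraMap_residue_bijective : Function.Bijective (algebraMap k (ResidueField R)) :=
  ⟨RingHom.injective _, fun x => by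
    obtain ⟨a, rfl⟩ := residue_surjective x
    exact ⟨res a, (residue_eq res hm a).symm⟩⟩

include hm in
theorem finrank_tangentSpace [TangentStr (hR R res)] :
    Module.finrank k (TangentSpace (hR R res)) = Module.finrank (ResidueField R) (CotangentSpace R) := by
  let L : TangentSpace (hR R res) →ₗ[k] (maximalIdeal R → k) :=
    (LinearMap.funLeft k k (fun a : maximalIdeal R => (a : R))).comp sndLin
  let tc : CotangentSpace R → maximalIdeal R :=
    fun z => ((maximalIdeal R).toCotangent_surjective z).choose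
  have htc : ∀ z, (maximalIdeal R).toCotangent (tc z) = z :=
    fun z => ((maximalIdeal R).toCotangent_surjective z).choose_spec
  have hwd : ∀ (θ : TangentSpace (hR R res)) (a b : maximalIdeal R),
      (maximalIdeal R).toCotangent a = (maximalIdeal R).toCotangent b → sndFun θ a = sndFun θ b := by
    intro θ a b e
    rw [Ideal.toCotangent_eq, pow_two] at e
    have hz : ∀ c ∈ maximalIdeal R * maximalIdeal R, sndFun θ c = 0 := fun c hc =>
      Submodule.mul_induction_on hc
        (fun p hp q hq => by rw [sndFun_mul, (hm p).1 hp, (hm q).1 hq]; ring)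
        (fun p q hp hq => by rw [sndFun_add_apply, hp, hq, add_zero])
    have h1 := sndFun_add_apply θ ((a : R) - b) (b : R)
    rw [sub_add_cancel, hz _ e, zero_add] at h1
    exact h1
  let E : TangentSpace (hR R res) →ₗ[k] Module.Dual k (CotangentSpace R) :=
    { toFun := fun θ =>
        { toFun := fun z => sndFun θ (tc z)
          map_add' := fun z w => by
            refine (hwd θ _ (tc z + tc w) ?_).trans (sndFun_add_apply θ _ _)
            rw [map_add, htc, htc, htc]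
          map_smul' := fun c z => by
            refine (hwd θ _ (algebraMap k R c • tc z) ?_).trans ?_
            · rw [map_smul, htc, htc, ← IsScalarTower.algebraMap_smul R c z]
            · change sndFun θ (algebraMap k R c * (tc z : R)) = c * _
              rw [sndFun_mul, sndFun_algebraMap, res.commutes, mul_zero, add_zero]
              rfl }
      map_add' := fun θ θ' => LinearMap.ext fun z => congrFun (sndLin.map_add θ θ') _
      map_smul' := fun c θ => LinearMap.ext fun z => congrFun (sndLin.map_smul c θ) _ }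
  have hb : Function.Bijective E := by
    refine ⟨fun θ θ' e => sndFun_injective (funext fun x => ?_), fun ℓ => ?_⟩
    · have hx : x - algebraMap k R (res x) ∈ maximalIdeal R := by
        rw [hm, map_sub, res.commutes, Algebra.algebraMap_self, RingHom.id_apply, sub_self]
      have key : ∀ η : TangentSpace (hR R res), sndFun η x = E η ((maximalIdeal R).toCotangent ⟨_, hx⟩) := by
        intro η
        refine Eq.trans ?_ (hwd η ⟨_, hx⟩ _ (htc _).symm)
        have h1 := sndFun_add_apply η (x - algebraMap k R (res x)) (algebraMap k R (res x))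
        rw [sub_add_cancel, sndFun_algebraMap, add_zero] at h1
        exact h1
      rw [key, key, e]
    · obtain ⟨φ, ⟨hφ1, hφ2⟩, -⟩ := Groth.Agent.S12644.result k R (algebraMap_residue_bijective res hm).2 ℓ
      let θ : HomSet R res (dual k k) := ⟨φ, AlgHom.ext fun a => (algebraMap_residue_bijective res hm).1
        ((hφ1 a).trans (residue_eq res hm a))⟩
      refine ⟨TangentSpace.mk (F := hR R res) θ, LinearMap.ext fun z => ?_⟩
      exact (hφ2 (tc z)).trans (congrArg ℓ (htc z))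
  rw [(LinearEquiv.ofBijective E hb).finrank_eq, Subspace.dual_finrank_eq]
  haveI : Module.Finite k (ResidueField R) :=
    Module.Finite.of_surjective (Algebra.linearMap k _) (algebraMap_residue_bijective res hm).2
  haveI : IsScalarTower k (ResidueField R) (CotangentSpace R) :=
    IsScalarTower.of_algebraMap_smul fun c z => (IsScalarTower.algebraMap_smul R c z : _)
  rw [← Module.finrank_mul_finrank k (ResidueField R) (CotangentSpace R),
    ← (AlgEquiv.ofBijective (Algebra.ofId k (ResidueField R)) (algebraMap_residue_bijective res hm)).toLinearEquiv.finrank_eq,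
    Module.finrank_self, one_mul]

end Cotangent

end Groth.Agent.Helper63.HomTangent
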