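import Mathlib.Algebra.Homology.DerivedCategory.RightDerivedFunctorPlus
import Mathlib.Algebra.Homology.DerivedCategory.Plus

set_option linter.style.haveILetI false

/-!
# Objects of finite injective amplitude in `D⁺`
-/

universe w v u

open CategoryTheory CategoryTheory.Limits

namespace Groth.Agent.Helper63.InjAmpPlus

variable {C : Type u} [Category.{v} C] [Abelian C]

/-- Maps into a complex that is contractible in degrees `> m` from a complex concentrated in degrees
`> m` are null-homotopic. -/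
theorem homotopy_zero (I K : CochainComplex C ℤ) (m i : ℤ) (hi : m < i) [K.IsStrictlyGE i]
    (hI : ∀ (p q : ℤ), p + 1 = q → m < q → ∀ (M : C) (z : M ⟶ I.X q),
      z ≫ I.d q (q + 1) = 0 → ∃ y : M ⟶ I.X p, y ≫ I.d p q = z) (φ : K ⟶ I) :
    Nonempty (Homotopy φ 0) := by
  choose y hy using hI
  let s : ∀ p q, p + 1 = q → m < q → (kernel (I.d q (q + 1)) ⟶ I.X p) :=
    fun p q e hq => y p q e hq _ (kernel.ι _) (kernel.condition _)
  have hs : ∀ p q (e : p + 1 = q) (hq : m < q), s p q e hq ≫ I.d p q = kernel.ι _ :=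
    fun p q e hq => hy p q e hq _ (kernel.ι _) (kernel.condition _)
  let l : ∀ q, I.X q ⟶ kernel (I.d (q + 1) (q + 1 + 1)) :=
    fun q => kernel.lift _ (I.d q (q + 1)) (I.d_comp_d _ _ _)
  let e : ∀ q, m < q → (I.X q ⟶ kernel (I.d q (q + 1))) := fun q hq =>
    kernel.lift _ (𝟙 _ - l q ≫ s q (q + 1) rfl (by omega)) (by
      rw [Preadditive.sub_comp, Category.id_comp, Category.assoc, hs, kernel.lift_ι, sub_self])
  let h : ∀ q p : ℤ, K.X q ⟶ I.X p := fun q p =>
    if hqp : p + 1 = q ∧ m < q then φ.f q ≫ e q hqp.2 ≫ s p q hqp.1 hqp.2 else 0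
  refine ⟨⟨h, fun q p hqp => dif_neg (fun H => hqp H.1), fun q => ?_⟩⟩
  rw [HomologicalComplex.zero_f, add_zero]
  by_cases hq : m < q
  · rw [dNext_eq _ (show (ComplexShape.up ℤ).Rel q (q + 1) from rfl),
      prevD_eq _ (show (ComplexShape.up ℤ).Rel (q - 1) q from sub_add_cancel q 1)]
    have h1 : h q (q - 1) = φ.f q ≫ e q hq ≫ s (q - 1) q (sub_add_cancel q 1) hq :=
      dif_pos ⟨sub_add_cancel q 1, hq⟩
    have h2 : h (q + 1) q = φ.f (q + 1) ≫ e (q + 1) (by omega) ≫ s q (q + 1) rfl (by omega) :=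
      dif_pos ⟨rfl, by omega⟩
    have h3 : I.d q (q + 1) ≫ e (q + 1) (by omega) = l q := by
      rw [← cancel_mono (kernel.ι _)]
      simp only [e, l, Category.assoc, kernel.lift_ι, Preadditive.comp_sub, Category.comp_id]
      rw [← Category.assoc, show I.d q (q + 1) ≫ kernel.lift (I.d (q + 1 + 1) (q + 1 + 1 + 1))
        (I.d (q + 1) (q + 1 + 1)) (I.d_comp_d _ _ _) = 0 by
          rw [← cancel_mono (kernel.ι _), Category.assoc, kernel.lift_ι, zero_comp]
          exact I.d_comp_d _ _ _, zero_comp, sub_zero]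
    rw [h1, h2, ← φ.comm_assoc, reassoc_of% h3]
    simp only [Category.assoc, hs]
    rw [← Preadditive.comp_add]
    simp only [e, kernel.lift_ι, add_sub_cancel, Category.comp_id]
  · exact (K.isZero_of_isStrictlyGE i q (by omega)).eq_of_src _ _

variable [HasDerivedCategory.{w} C]

/-- If `Hom(M[-n], L) = 0` for all objects `M` and all `n > m`, then `Hom(K, L) = 0` for every `K`
in degrees `> m`. -/
theorem subsingleton_hom [EnoughInjectives C] (L : DerivedCategory.Plus C) (a m : ℤ) [L.IsGE a]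
    (hL : ∀ (M : C) (n : ℤ), m < n →
      Subsingleton ((DerivedCategory.Plus.singleFunctor C 0).obj M ⟶ L⟦n⟧))
    (K : DerivedCategory.Plus C) (i : ℤ) [K.IsGE i] (hi : m < i) : Subsingleton (K ⟶ L) := by
  obtain ⟨I, _, ⟨eI⟩⟩ := DerivedCategory.Plus.exists_injective_nonempty_iso L a
  obtain ⟨J, hJ, ⟨eJ⟩⟩ := DerivedCategory.Plus.exists_injective_nonempty_iso K i
  let I' : CochainComplex C ℤ :=
    ((InjectiveObject.ι C).mapHomologicalComplex (.up ℤ)).obj I.obj
  let J' : CochainComplex C ℤ :=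
    ((InjectiveObject.ι C).mapHomologicalComplex (.up ℤ)).obj J.obj
  haveI : J.obj.IsStrictlyGE i := hJ
  haveI : J'.IsStrictlyGE i := by
    rw [CochainComplex.isStrictlyGE_iff]
    exact fun j hj => (InjectiveObject.ι C).map_isZero (J.obj.isZero_of_isStrictlyGE i j hj)
  haveI hkI : I'.IsKInjective := by
    exact inferInstanceAs (CochainComplex.IsKInjective (((InjectiveObject.ι C).mapHomologicalComplex (.up ℤ)).obj I.obj))
  let qI : DerivedCategory.Plus.ι.obj L ≅ DerivedCategory.Q.obj I' :=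
    DerivedCategory.Plus.ι.mapIso eI.symm ≪≫ (DerivedCategory.quotientCompQhIso C).app I'
  let qJ : DerivedCategory.Plus.ι.obj K ≅ DerivedCategory.Q.obj J' :=
    DerivedCategory.Plus.ι.mapIso eJ.symm ≪≫ (DerivedCategory.quotientCompQhIso C).app J'
  have hbij : ∀ (A : CochainComplex C ℤ) (f : DerivedCategory.Q.obj A ⟶ DerivedCategory.Q.obj I'),
      ∃ φ : A ⟶ I', DerivedCategory.Q.map φ = f := fun A f => by
    obtain ⟨g, hg⟩ := (CochainComplex.IsKInjective.Qh_map_bijective _ I').2
      ((DerivedCategory.quotientCompQhIso C).hom.app A ≫ f ≫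
        (DerivedCategory.quotientCompQhIso C).inv.app I')
    obtain ⟨φ, rfl⟩ := (HomotopyCategory.quotient C (.up ℤ)).map_surjective g
    refine ⟨φ, ?_⟩
    have := (DerivedCategory.quotientCompQhIso C).hom.naturality φ
    simp only [Functor.comp_map] at this
    rw [hg] at this
    simpa using this.symm
  have hzero : ∀ (A : CochainComplex C ℤ) (φ : A ⟶ I'), DerivedCategory.Q.map φ = 0 →
      Nonempty (Homotopy φ 0) := fun A φ h => by
    refine ⟨HomotopyCategory.homotopyOfEq _ _ ?_⟩
    apply (CochainComplex.IsKInjective.Qh_map_bijective _ I').1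
    rw [← cancel_mono ((DerivedCategory.quotientCompQhIso C).hom.app I'), Functor.map_zero,
      Functor.map_zero, zero_comp]
    exact ((DerivedCategory.quotientCompQhIso C).hom.naturality φ).trans (by rw [h, comp_zero])
  refine subsingleton_of_forall_eq 0 fun f => DerivedCategory.Plus.ι.map_injective ?_
  rw [Functor.map_zero, ← cancel_mono qI.hom, ← cancel_epi qJ.inv, zero_comp, comp_zero]
  obtain ⟨φ, hφ⟩ := hbij J' (qJ.inv ≫ DerivedCategory.Plus.ι.map f ≫ qI.hom)
  rw [← hφ]
  suffices hI' : ∀ (p q : ℤ), p + 1 = q → m < q → ∀ (M : C) (z : M ⟶ I'.X q),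
      z ≫ I'.d q (q + 1) = 0 → ∃ y : M ⟶ I'.X p, y ≫ I'.d p q = z by
    obtain ⟨hφ0⟩ := homotopy_zero I' J' m i hi hI' φ
    rw [← DerivedCategory.Q.map_zero]
    exact DerivedCategory.Q_map_eq_of_homotopy C hφ0
  intro p q hpq hq M z hz
  obtain rfl : p = q - 1 := by omega
  let z' : (CochainComplex.singleFunctor C q).obj M ⟶ I' :=
    HomologicalComplex.mkHomFromSingle z (fun j hj => by
      obtain rfl : q + 1 = j := hj
      exact hz)
  have hsub : Subsingleton ((DerivedCategory.singleFunctor C q).obj M ⟶ DerivedCategory.Plus.ι.obj L) := by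
    have h0 := hL M q hq
    let e := ((DerivedCategory.Plus.singleFunctors C).shiftIso q 0 q (add_zero q)).app M
    refine subsingleton_of_forall_eq 0 fun g => ?_
    obtain ⟨g', rfl⟩ := DerivedCategory.Plus.ι.map_surjective
      (X := (DerivedCategory.Plus.singleFunctor C q).obj M) (Y := L) g
    rw [show g' = 0 from (shiftFunctor (DerivedCategory.Plus C) q).map_injective
      ((cancel_epi e.inv).1 (Subsingleton.elim _ _)), Functor.map_zero]
    rfl
  have hz' : DerivedCategory.Q.map z' = 0 := by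
    let eq' := (DerivedCategory.singleFunctorIsoCompQ C q).app M
    exact (cancel_epi eq'.hom).1 ((cancel_mono qI.inv).1 (Subsingleton.elim _ _))
  obtain ⟨H⟩ := hzero _ z' hz'
  have hc := H.comm q
  rw [dNext_eq _ (show (ComplexShape.up ℤ).Rel q (q + 1) from rfl),
    prevD_eq _ (show (ComplexShape.up ℤ).Rel (q - 1) q from sub_add_cancel q 1)] at hc
  refine ⟨(HomologicalComplex.singleObjXSelf (.up ℤ) q M).inv ≫ H.hom q (q - 1), ?_⟩
  simp [z'] at hc
  exact (Category.assoc _ _ _).trans ((congrArg _ hc.symm).trans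
    ((HomologicalComplex.singleObjXSelf (.up ℤ) q M).inv_hom_id_assoc z))

end Groth.Agent.Helper63.InjAmpPlus
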