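import Groth.Agent.Helper63.QuotStage
import Groth.Agent.LimLib.FGSub

/-!
# The Quot scheme is locally of finite type
-/

set_option autoImplicit false
set_option linter.style.haveILetI false
set_option backward.isDefEq.respectTransparency false
universe u

open CategoryTheory CategoryTheory.Limits AlgebraicGeometry Opposite
open Groth.Agent

noncomputable section

namespace Groth.Agent.Helper63.QuotFT

/-- A representing object of the Quot functor is locally of finite type over the base. -/
theorem locallyOfFiniteType {S X : Scheme.{u}} [IsLocallyNoetherian S] (x : X ⟶ S)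
    [LocallyOfFiniteType x] [QuasiCompact x] [QuasiSeparated x] {H : X.Modules} (hH : Coh.IsCoh H)
    (Q : Over S) (Ku : FGA.QuotSet x H Q) (hQ : FGA.QuotRepresentedBy x H Q Ku) :
    LocallyOfFiniteType Q.hom := by
  haveI : IsLocallyNoetherian Q.left := hQ.1
  refine ⟨fun {U} hU {V} hV e => ?_⟩
  algebraize [(Q.hom.appLE U V e).hom]
  let R := Γ(S, U)
  let A := Γ(Q.left, V)
  haveI : IsNoetherianRing R := IsLocallyNoetherian.component_noetherian ⟨U, hU⟩
  haveI : IsNoetherianRing A := IsLocallyNoetherian.component_noetherian ⟨V, hV⟩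
  have hν : Spec.map (CommRingCat.ofHom (algebraMap R A)) ≫ hU.fromSpec = hV.fromSpec ≫ Q.hom :=
    hU.SpecMap_appLE_fromSpec Q.hom hV e
  let st : ∀ s : (Finset A)ᵒᵖ, (LimLib.fgDiagram R A).obj s ⟶ S := fun s =>
    Spec.map (CommRingCat.ofHom (algebraMap R (Algebra.adjoin R (s.unop : Set A)))) ≫ hU.fromSpec
  have hst : ∀ {s s' : (Finset A)ᵒᵖ} (f : s ⟶ s'), (LimLib.fgDiagram R A).map f ≫ st s' = st s :=
    fun {s s'} f => by
      refine (Category.assoc _ _ _).symm.trans (congrArg (· ≫ hU.fromSpec) ?_)
      refine (Spec.map_comp _ _).symm.trans (congrArg Spec.map ?_)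
      ext r
      rfl
  let D : (Finset A)ᵒᵖ ⥤ Over S :=
    { obj := fun s => Over.mk (st s)
      map := fun {s s'} f => Over.homMk ((LimLib.fgDiagram R A).map f) (hst f)
      map_id := fun s => Over.OverMorphism.ext ((LimLib.fgDiagram R A).map_id s)
      map_comp := fun f g => Over.OverMorphism.ext ((LimLib.fgDiagram R A).map_comp f g) }
  have hc : ∀ s, (LimLib.fgCone R A).π.app s ≫ st s = hV.fromSpec ≫ Q.hom := fun s => by
    refine ((Category.assoc _ _ _).symm.trans (congrArg (· ≫ hU.fromSpec) ?_)).trans hν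
    refine (Spec.map_comp _ _).symm.trans (congrArg Spec.map ?_)
    ext r
    rfl
  let c : Cone D :=
    { pt := Over.mk (hV.fromSpec ≫ Q.hom)
      π :=
        { app := fun s => Over.homMk ((LimLib.fgCone R A).π.app s) (hc s)
          naturality := fun s s' f => Over.OverMorphism.ext (by
            exact (Category.id_comp _).trans ((LimLib.fgCone R A).w f).symm) } }
  have hlim : IsLimit ((Over.forget S).mapCone c) :=
    IsLimit.ofIsoLimit (LimLib.isLimitFgCone R A)
      (Cone.ext (Iso.refl _) (fun s => by exact (Category.id_comp _).symm))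
  haveI : ∀ i, IsAffine (D.obj i).left := fun i => inferInstanceAs (IsAffine (Spec _))
  haveI hft : ∀ i : (Finset A)ᵒᵖ, Algebra.FiniteType R (Algebra.adjoin R (i.unop : Set A)) := fun i =>
    ⟨(Subalgebra.fg_top _).2 ⟨i.unop, rfl⟩⟩
  haveI : ∀ i, IsLocallyNoetherian (D.obj i).left := fun i =>
    haveI : IsNoetherianRing (CommRingCat.of (Algebra.adjoin R (i.unop : Set A))) :=
      Algebra.FiniteType.isNoetherianRing R (Algebra.adjoin R (i.unop : Set A))
    (inferInstance : IsLocallyNoetherian (Spec (CommRingCat.of (Algebra.adjoin R (i.unop : Set A)))))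
  haveI : IsAffine c.pt.left := inferInstanceAs (IsAffine (Spec _))
  haveI : IsLocallyNoetherian c.pt.left := inferInstanceAs (IsLocallyNoetherian (Spec _))
  let v : c.pt ⟶ Q := Over.homMk hV.fromSpec rfl
  let K : FGA.QuotSet x H c.pt := ⟨_, QuotComp.quotPull_mem x H v Ku⟩
  obtain ⟨i, K', hK'⟩ := QuotStage.exists_stage D c x hlim hH K
  obtain ⟨h, hh, -⟩ := hQ.2 (D.obj i) K'
  obtain ⟨t, -, hu⟩ := hQ.2 c.pt K
  have heq : c.π.app i ≫ h = v := by
    rw [hu v rfl]
    refine hu _ ?_
    beta_reduce
    rw [← QuotComp.quotPull_comp, hh]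
    exact hK'
  have hv : (c.π.app i).left ≫ h.left = hV.fromSpec := congrArg CommaMorphism.left heq
  haveI : LocallyOfFiniteType ((c.π.app i).left ≫ h.left) := by
    rw [hv]
    infer_instance
  haveI : LocallyOfFiniteType (c.π.app i).left := locallyOfFiniteType_of_comp _ h.left
  have h1 : (CommRingCat.ofHom (Algebra.adjoin R (i.unop : Set A)).val.toRingHom).hom.FiniteType :=
    (HasRingHomProperty.Spec_iff (P := @LocallyOfFiniteType)).1 ‹LocallyOfFiniteType (c.π.app i).left›
  exact RingHom.finiteType_algebraMap.2 (by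
    haveI := RingHom.finiteType_algebraMap.1 (h1 :
      (algebraMap (Algebra.adjoin R (i.unop : Set A)) A).FiniteType)
    exact Algebra.FiniteType.trans (hft i) this)

end Groth.Agent.Helper63.QuotFT
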