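import Groth.Agent.Helper63.QuotLiftRel

/-!
# Submodules with flat quotient and their restrictions
-/

set_option autoImplicit false
set_option linter.style.haveILetI false
universe u

open CategoryTheory CategoryTheory.Limits AlgebraicGeometry
open ArtFun
open Groth.Agent Groth.Agent.Helper63.QuotStalk Groth.Agent.Helper63.QuotLiftRel

noncomputable section

namespace Groth.Agent.Helper63.QuotFinalRel

theorem le_of_arrow_comp {D : Type*} [Category D] [Abelian D] {Y : D} {P P' : Subobject Y}
    (h : P.arrow ≫ cokernel.π P'.arrow = 0) : P ≤ P' :=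
  Subobject.le_of_comm (Abelian.monoLift _ _ h) (Abelian.monoLift_comp _ _ h)

/-- A subobject is the image of any map having the same cokernel. -/
theorem imageSubobject_eq {D : Type*} [Category D] [Abelian D] {W Y Q : D} (f : W ⟶ Y)
    (P : Subobject Y) (g : Y ⟶ Q) (hfg : f ≫ g = 0) (hg : IsColimit (CokernelCofork.ofπ g hfg))
    (e : Q ≅ cokernel P.arrow) (he : g ≫ e.hom = cokernel.π P.arrow) :
    imageSubobject f = P := by
  apply le_antisymm
  · have h : f ≫ cokernel.π P.arrow = 0 := by rw [← he, reassoc_of% hfg, zero_comp]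
    exact imageSubobject_le f (Abelian.monoLift _ f h) (Abelian.monoLift_comp _ f h)
  · apply le_of_arrow_comp
    have h : f ≫ cokernel.π (imageSubobject f).arrow = 0 := by
      exact (imageSubobject_arrow_comp_assoc f _).symm.trans (by rw [cokernel.condition, comp_zero])
    obtain ⟨d, hd⟩ := CokernelCofork.IsColimit.desc' hg _ h
    have hd' : g ≫ d = cokernel.π (imageSubobject f).arrow := hd
    have hg' : g = cokernel.π P.arrow ≫ e.inv := by rw [← he, Category.assoc, e.hom_inv_id,
      Category.comp_id]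
    rw [← hd', hg', Category.assoc, cokernel.condition_assoc, zero_comp]

theorem kernelπ_iso {D : Type*} [Category D] [Abelian D] {W Y : D} (f : W ⟶ Y) [Mono f] :
    Nonempty (kernel (cokernel.π f) ≅ W) :=
  ⟨(asIso (Abelian.factorThruImage f)).symm⟩

variable {Λ k : Type u} [CommRing Λ] [IsNoetherianRing Λ] [Field k] [Algebra Λ k] [Module.Finite Λ k] {X : Scheme.{u}} (x : QuotLiftRel.Rel Λ X) (E : X.Modules)

theorem isCoh_ET [LocallyOfFiniteType x.hom] (hE : Coh.IsCoh E) (B : Art Λ k) :
    Coh.IsCoh (FGA.ET x.hom E (T x B)) :=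
  ZClosLib.CohDescent.isCoh_pullback _ E hE

theorem flat_ET (hEf : FlatMod.IsFlatOver x.hom E) (B : Art Λ k) :
    FlatMod.IsFlatOver (XA x B ↘ Spec (CommRingCat.of B)) (FGA.ET x.hom E (T x B)) := fun z =>
  FDesc.BaseChangeStalk.flatOverAt_baseChange
    (IsPullback.of_hasPullback x.hom (T x B).hom) z E (hEf _)

/-- Restriction of a monomorphism with flat cokernel to the closed fibre is a monomorphism. -/
theorem mono_restrict {B : Art Λ k} (f : B ⟶ Art.base Λ k) (hf : Function.Surjective f)
    {M G : (XA x B).Modules} (ι : M ⟶ G) [Mono ι]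
    (hG : FlatMod.IsFlatOver (XA x B ↘ Spec (CommRingCat.of B)) G)
    (hQ : FlatMod.IsFlatOver (XA x B ↘ Spec (CommRingCat.of B)) (cokernel ι)) :
    Mono ((PB x f).map ι) := by
  haveI := isClosedImmersion_jA x f hf
  let adj := Scheme.Modules.pullbackPushforwardAdjunction (jA x f)
  haveI : (PF x f).Faithful := adj.fullyFaithfulROfIsIsoCounit.faithful
  refine (PF x f).mono_of_mono_map (Omega.Stalks.mono_of_stalk fun z => ?_)
  refine (injective_iff_map_eq_zero (lin B ((PF x f).map ((PB x f).map ι)) z)).2 fun s hs => ?_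
  haveI := epi_unit x f hf M
  obtain ⟨t, rfl⟩ := lin_surjective (B := B) (U x f M) z s
  rw [← lin_comp, ← U_naturality, lin_comp] at hs
  obtain ⟨z', rfl⟩ := exists_point x f hf z
  rw [unit_eq_zero_iff x f hf, ker_toBase] at hs ⊢
  haveI := (flat_stalk_iff G _).1 (hG ((jA x f).base z'))
  haveI := (flat_stalk_iff (cokernel ι) _).1 (hQ ((jA x f).base z'))
  have hS : (ShortComplex.mk ι (cokernel.π ι) (cokernel.condition ι)).ShortExact :=
    { exact := ShortComplex.exact_of_g_is_cokernel _ (cokernelIsCokernel ι) }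
  exact (QuotAlg.inter_le (lin_injective (B := B) ι _) (lin_surjective (B := B) (cokernel.π ι) _)
    (lin_exact (B := B) hS _)).2 t hs

variable {B A : Art Λ k} (p : B ⟶ A)
  (K : Subobject (FGA.ET x.hom E (T x A)))
  (K₀ : Subobject (FGA.ET x.hom E (T x (Art.base Λ k))))
  (hK₀ : FGA.quotPull x.hom E (gA x (Art.toBase A)) K = K₀)

/-- Identification of the twice restricted module. -/
def θ₀ : (PB x (p ≫ Art.toBase A)).obj (FGA.ET x.hom E (T x B)) ≅ FGA.ET x.hom E (T x (Art.base Λ k)) :=
  ((pbComp x p (Art.toBase A)).app _).symm ≪≫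
    (PB x (Art.toBase A)).mapIso (FGA.ETiso x.hom E (gA x p)) ≪≫ FGA.ETiso x.hom E (gA x (Art.toBase A))

include hK₀ in
theorem exists_fac (L : Subobject (FGA.ET x.hom E (T x B))) (hL : FGA.quotPull x.hom E (gA x p) L = K) :
    ∃ e : (PB x (p ≫ Art.toBase A)).obj (L : (XA x B).Modules) ⟶ (K₀ : _),
      Epi e ∧ (PB x (p ≫ Art.toBase A)).map L.arrow ≫ (θ₀ x E p).hom = e ≫ K₀.arrow := by
  subst hL hK₀
  let adj := Scheme.Modules.pullbackPushforwardAdjunction (jA x (Art.toBase A))
  haveI : PreservesFiniteColimits (PB x (Art.toBase A)) := by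
    haveI := adj.leftAdjoint_preservesColimits
    exact PreservesColimitsOfSize.preservesFiniteColimits _
  let f₁ := (PB x p).map L.arrow ≫ (FGA.ETiso x.hom E (gA x p)).hom
  let f₂ := (PB x (Art.toBase A)).map (imageSubobject f₁).arrow ≫
    (FGA.ETiso x.hom E (gA x (Art.toBase A))).hom
  have key : (PB x (p ≫ Art.toBase A)).map L.arrow ≫ (θ₀ x E p).hom =
      ((pbComp x p (Art.toBase A)).inv.app _ ≫
        (PB x (Art.toBase A)).map (factorThruImageSubobject f₁) ≫ factorThruImageSubobject f₂) ≫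
        (imageSubobject f₂).arrow := by
    simp only [Category.assoc, imageSubobject_arrow_comp]
    show (PB x (p ≫ Art.toBase A)).map L.arrow ≫ (pbComp x p (Art.toBase A)).inv.app _ ≫
        (PB x (Art.toBase A)).map (FGA.ETiso x.hom E (gA x p)).hom ≫
          (FGA.ETiso x.hom E (gA x (Art.toBase A))).hom =
      (pbComp x p (Art.toBase A)).inv.app _ ≫
        (PB x (Art.toBase A)).map (factorThruImageSubobject f₁) ≫
          (PB x (Art.toBase A)).map (imageSubobject f₁).arrow ≫
            (FGA.ETiso x.hom E (gA x (Art.toBase A))).hom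
    rw [← Functor.map_comp_assoc, imageSubobject_arrow_comp, Functor.map_comp_assoc,
      ← Category.assoc, (pbComp x p (Art.toBase A)).inv.naturality L.arrow, Category.assoc]
    rfl
  haveI : Epi ((PB x (Art.toBase A)).map (factorThruImageSubobject f₁)) := Functor.map_epi _ _
  have h2 : Epi ((PB x (Art.toBase A)).map (factorThruImageSubobject f₁) ≫
      factorThruImageSubobject f₂) := epi_comp _ _
  exact ⟨(pbComp x p (Art.toBase A)).inv.app _ ≫
    (PB x (Art.toBase A)).map (factorThruImageSubobject f₁) ≫ factorThruImageSubobject f₂,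
    @epi_comp _ _ _ _ _ _ _ _ h2, key⟩

include hK₀ in
/-- Two extensions are comparable. -/
theorem le_of_subsingleton (hEf : FlatMod.IsFlatOver x.hom E)
    (h : Subsingleton ((K₀ : (XA x (Art.base Λ k)).Modules) ⟶ cokernel K₀.arrow))
    (L L' : Subobject (FGA.ET x.hom E (T x B)))
    (hLf : FlatMod.IsFlatOver (XA x B ↘ Spec (CommRingCat.of B)) (cokernel L.arrow))
    (hLf' : FlatMod.IsFlatOver (XA x B ↘ Spec (CommRingCat.of B)) (cokernel L'.arrow))
    (hL : FGA.quotPull x.hom E (gA x p) L = K) (hL' : FGA.quotPull x.hom E (gA x p) L' = K) : L ≤ L' := by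
  let f := p ≫ Art.toBase A
  have hf : Function.Surjective f := by
    rw [show f = Art.toBase B from Art.eq_toBase f]
    exact B.res_surjective
  let adj := Scheme.Modules.pullbackPushforwardAdjunction (jA x f)
  haveI : PreservesFiniteColimits (PB x f) := by
    haveI := adj.leftAdjoint_preservesColimits
    exact PreservesColimitsOfSize.preservesFiniteColimits _
  obtain ⟨e, he, hef⟩ := exists_fac x E p K K₀ hK₀ L hL
  obtain ⟨e', he', hef'⟩ := exists_fac x E p K K₀ hK₀ L' hL'
  haveI : Mono ((PB x f).map L.arrow) := mono_restrict x f hf L.arrow (flat_ET x E hEf B) hLf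
  haveI : Mono (e ≫ K₀.arrow) := by rw [← hef]; exact mono_comp _ _
  haveI : Mono e := mono_of_mono e K₀.arrow
  haveI : IsIso e := isIso_of_mono_of_epi e
  let σ : (PB x f).obj (cokernel L'.arrow) ≅ cokernel K₀.arrow :=
    PreservesCokernel.iso (PB x f) L'.arrow ≪≫
      cokernel.mapIso _ (e' ≫ K₀.arrow) (Iso.refl _) (θ₀ x E p) (by
        simp only [Iso.refl_hom, Category.id_comp]; exact hef') ≪≫ cokernelEpiComp e' K₀.arrow
  have h0 : Subsingleton ((PB x (Art.toBase B)).obj (L : (XA x B).Modules) ⟶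
      (PB x (Art.toBase B)).obj (cokernel L'.arrow)) := by
    rw [← show f = Art.toBase B from Art.eq_toBase f]
    exact ((asIso e).homCongr σ).subsingleton
  exact le_of_arrow_comp ((hom_subsingleton x B _ _ hLf' h0).elim _ _)

include hK₀ in
/-- Existence of an extension. -/
theorem exists_extension [LocallyOfFiniteType x.hom] (hEf : FlatMod.IsFlatOver x.hom E) (hE : Coh.IsCoh E) (hp : Function.Surjective p)
    (hK : Coh.IsCoh (cokernel K.arrow) ∧
      FlatMod.IsFlatOver (XA x A ↘ Spec (CommRingCat.of A)) (cokernel K.arrow))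
    [HasExt.{u} (XA x (Art.base Λ k)).Modules]
    (h : Subsingleton (Abelian.Ext.{u} (K₀ : (XA x (Art.base Λ k)).Modules)
      (cokernel K₀.arrow) 1)) :
    ∃ L : Subobject (FGA.ET x.hom E (T x B)), (Coh.IsCoh (cokernel L.arrow) ∧
      FlatMod.IsFlatOver (XA x B ↘ Spec (CommRingCat.of B)) (cokernel L.arrow)) ∧
      FGA.quotPull x.hom E (gA x p) L = K := by
  subst hK₀
  let adj := Scheme.Modules.pullbackPushforwardAdjunction (jA x (Art.toBase A))
  haveI : PreservesFiniteColimits (PB x (Art.toBase A)) := by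
    haveI := adj.leftAdjoint_preservesColimits
    exact PreservesColimitsOfSize.preservesFiniteColimits _
  haveI : PreservesFiniteColimits (PB x p) := by
    haveI := (Scheme.Modules.pullbackPushforwardAdjunction (jA x p)).leftAdjoint_preservesColimits
    exact PreservesColimitsOfSize.preservesFiniteColimits _
  let θ := FGA.ETiso x.hom E (gA x p)
  let φ : (PB x p).obj (FGA.ET x.hom E (T x B)) ⟶ cokernel K.arrow := θ.hom ≫ cokernel.π K.arrow
  let θq := FGA.ETiso x.hom E (gA x (Art.toBase A))
  let f₂ := (PB x (Art.toBase A)).map K.arrow ≫ θq.hom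
  let σ : (PB x (Art.toBase A)).obj (cokernel K.arrow) ≅ cokernel (imageSubobject f₂).arrow :=
    PreservesCokernel.iso (PB x (Art.toBase A)) K.arrow ≪≫
      cokernel.mapIso _ (factorThruImageSubobject f₂ ≫ (imageSubobject f₂).arrow) (Iso.refl _) θq
        (by simp only [Iso.refl_hom, Category.id_comp, imageSubobject_arrow_comp]; rfl) ≪≫
      cokernelEpiComp _ _
  obtain ⟨κ⟩ := kernelπ_iso (imageSubobject f₂).arrow
  have hExt : Subsingleton (Abelian.Ext.{u} (kernel ((PB x (Art.toBase A)).map φ))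
      ((PB x (Art.toBase A)).obj (cokernel K.arrow)) 1) := by
    refine subsingleton_ext_of_iso ((kernel.mapIso _ (cokernel.π (imageSubobject f₂).arrow)
      ((PB x (Art.toBase A)).mapIso θ ≪≫ θq) σ ?_) ≪≫ κ).symm σ.symm h
    simp only [φ, σ, Functor.map_comp, Iso.trans_hom, Functor.mapIso_hom, Category.assoc]
    rw [← Category.assoc ((PB x (Art.toBase A)).map (cokernel.π K.arrow)),
      PreservesCokernel.π_iso_hom]
    simp [cokernelEpiComp]
  obtain ⟨Q', Φ, hΦ, hQc, hQf, e, he⟩ := exists_lift x p hp _ (isCoh_ET x E hE B) (flat_ET x E hEf B)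
    (cokernel K.arrow) φ hK.1 hK.2 hExt
  let L := kernelSubobject Φ
  let S := ShortComplex.mk L.arrow Φ (kernelSubobject_arrow_comp Φ)
  have hS : S.Exact := by
    refine S.exact_of_f_is_kernel ?_
    exact IsKernel.isoKernel _ L.arrow (kernelIsKernel Φ) (kernelSubobjectIso Φ) (kernelSubobject_arrow Φ)
  haveI : Epi S.g := hΦ
  have hcol := hS.gIsCokernel
  let τ : cokernel L.arrow ≅ Q' := (cokernelIsCokernel L.arrow).coconePointUniqueUpToIso hcol
  refine ⟨L, ⟨?_, flatOver_of_iso τ.symm hQf⟩, ?_⟩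
  · haveI : (kernel Φ).IsQuasicoherent := (CohDev.isCoh_kernel Φ (isCoh_ET x E hE B) hQc.1).1
    exact CohDev.isCoh_cokernel L.arrow (QCoh.isQuasicoherent_of_iso (kernelSubobjectIso Φ).symm)
      (isCoh_ET x E hE B)
  have hcol' := CokernelCofork.mapIsColimit _ hcol (PB x p)
  have hz : ((PB x p).map L.arrow ≫ θ.hom) ≫ θ.inv ≫ (PB x p).map Φ = 0 := by
    rw [Category.assoc, Iso.hom_inv_id_assoc, ← Functor.map_comp]
    show (PB x p).map (L.arrow ≫ Φ) = 0
    rw [kernelSubobject_arrow_comp, Functor.map_zero]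
  refine imageSubobject_eq _ K (θ.inv ≫ (PB x p).map Φ) hz ?_ e ?_
  · refine Cofork.isColimitOfIsos _ hcol' _ (Iso.refl _) θ (Iso.refl _) ?_ ?_ ?_
    · exact Category.id_comp _
    · simp only [comp_zero, zero_comp]
    · show θ.inv ≫ (PB x p).map Φ ≫ 𝟙 _ = _
      rw [Category.comp_id]
      rfl
  · rw [Category.assoc, he, Iso.inv_hom_id_assoc]

end Groth.Agent.Helper63.QuotFinalRel
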