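import Groth.Agent.Helper63.QuotAlg
import Groth.Agent.Helper63.QuotStalk
import Groth.Agent.ArtFunLib.Basic
import Groth.Agent.HilbLib.Basic
import Groth.Agent.CMReg.FieldBC
import Groth.Prelude.Def_ArtFun6
import Groth.Prelude.Def_FGA

/-!
# Homomorphisms and quotients along surjections of Artinian algebras
-/

set_option autoImplicit false
set_option linter.style.haveILetI false
universe u

open CategoryTheory CategoryTheory.Limits AlgebraicGeometry
open ArtFun
open Groth.Agent Groth.Agent.Helper63.QuotStalk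
open Groth.Agent.PullStalk.Sky Groth.Agent.PullStalk.Exact

noncomputable section

namespace Groth.Agent.Helper63.QuotLiftRel

/-- A morphism of schemes together with a `Λ`-valued point of its target. -/
structure Rel (Λ : Type u) [CommRing Λ] (X : Scheme.{u}) where
  /-- The target. -/
  S : Scheme.{u}
  /-- The morphism. -/
  hom : X ⟶ S
  /-- The point. -/
  pt : Spec (CommRingCat.of Λ) ⟶ S

variable {Λ k : Type u} [CommRing Λ] [IsNoetherianRing Λ] [Field k] [Algebra Λ k] [Module.Finite Λ k] {X : Scheme.{u}} (x : Rel Λ X)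

/-- The structure morphism `Spec A ⟶ Spec Λ`. -/
abbrev sA (A : Art Λ k) : Spec (CommRingCat.of A) ⟶ Spec (CommRingCat.of Λ) :=
  Spec.map (CommRingCat.ofHom (algebraMap Λ A))

omit [IsNoetherianRing Λ] [Module.Finite Λ k] in
theorem sA_comp {B A : Art Λ k} (f : B ⟶ A) : Art.specMap f ≫ sA B = sA A := by
  rw [← Spec.map_comp, ← CommRingCat.ofHom_comp]
  exact congrArg Spec.map (congrArg CommRingCat.ofHom (RingHom.ext fun c => f.toAlgHom.commutes c))

/-- `Spec A` over the target. -/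
abbrev T (A : Art Λ k) : Over x.S := Over.mk (sA A ≫ x.pt)

/-- `X_A`. -/
abbrev XA (A : Art Λ k) : Scheme.{u} := PicF.XT x.hom (T x A)

instance overA (A : Art Λ k) : (XA x A).Over (Spec (CommRingCat.of A)) := ⟨PicF.XTproj x.hom (T x A)⟩

/-- The morphism `Spec A ⟶ Spec B`. -/
abbrev gA {B A : Art Λ k} (f : B ⟶ A) : T x A ⟶ T x B :=
  Over.homMk (Art.specMap f)
    ((Category.assoc _ _ _).symm.trans (congrArg (· ≫ x.pt) (sA_comp f)))

/-- The closed immersion `X_A ⟶ X_B`. -/
abbrev jA {B A : Art Λ k} (f : B ⟶ A) : XA x A ⟶ XA x B := PicF.XTmap x.hom (gA x f)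

/-- Restriction of modules. -/
abbrev PB {B A : Art Λ k} (f : B ⟶ A) : (XA x B).Modules ⥤ (XA x A).Modules :=
  Scheme.Modules.pullback (jA x f)

/-- Push forward of modules. -/
abbrev PF {B A : Art Λ k} (f : B ⟶ A) : (XA x A).Modules ⥤ (XA x B).Modules :=
  Scheme.Modules.pushforward (jA x f)

theorem sq {B A : Art Λ k} (f : B ⟶ A) :
    IsPullback (jA x f) (XA x A ↘ Spec (CommRingCat.of A)) (XA x B ↘ Spec (CommRingCat.of B))
      (Spec.map (CommRingCat.ofHom f.toAlgHom.toRingHom)) :=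
  HilbLib.isPullback_XTmap x.hom (gA x f)

theorem jA_comp {B C A : Art Λ k} (p : B ⟶ C) (q : C ⟶ A) :
    jA x (p ≫ q) = jA x q ≫ jA x p := by
  have hg : gA x (p ≫ q) = gA x q ≫ gA x p := by
    ext1
    exact Art.specMap_comp p q
  rw [jA, hg]
  apply pullback.hom_ext
  · simp only [PicF.XTmap, pullback.map, Over.comp_left, Over.homMk_left, pullback.lift_fst,
      pullback.lift_fst_assoc, Category.assoc, Category.comp_id]
  · simp only [PicF.XTmap, pullback.map, Over.comp_left, Over.homMk_left, pullback.lift_snd,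
      pullback.lift_snd_assoc, Category.assoc, Category.comp_id]

/-- Transitivity of restriction. -/
def pbComp {B C A : Art Λ k} (p : B ⟶ C) (q : C ⟶ A) : PB x p ⋙ PB x q ≅ PB x (p ≫ q) :=
  Scheme.Modules.pullbackComp (jA x q) (jA x p) ≪≫
    Scheme.Modules.pullbackCongr (jA_comp x p q).symm

/-- The unit, with its source and target spelled out. -/
abbrev U {B A : Art Λ k} (f : B ⟶ A) (M : (XA x B).Modules) :
    M ⟶ (PF x f).obj ((PB x f).obj M) :=
  (Scheme.Modules.pullbackPushforwardAdjunction (jA x f)).unit.app M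

theorem U_naturality {B A : Art Λ k} (f : B ⟶ A) {M N : (XA x B).Modules} (a : M ⟶ N) :
    a ≫ U x f N = U x f M ≫ (PF x f).map ((PB x f).map a) :=
  (Scheme.Modules.pullbackPushforwardAdjunction (jA x f)).unit.naturality a

instance isLocallyNoetherian_XA [LocallyOfFiniteType x.hom] (A : Art Λ k) :
    IsLocallyNoetherian (XA x A) :=
  haveI : IsNoetherianRing A := inferInstance
  haveI : IsLocallyNoetherian (Spec (CommRingCat.of A)) := inferInstance
  haveI : LocallyOfFiniteType (XA x A ↘ Spec (CommRingCat.of A)) :=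
    inferInstanceAs (LocallyOfFiniteType (pullback.snd x.hom (T x A).hom))
  LocallyOfFiniteType.isLocallyNoetherian (XA x A ↘ Spec (CommRingCat.of A))

theorem ker_toBase {B : Art Λ k} (f : B ⟶ Art.base Λ k) :
    RingHom.ker f.toAlgHom.toRingHom = IsLocalRing.maximalIdeal B := by
  ext b
  rw [RingHom.mem_ker, B.mem_maximalIdeal_iff, ← Art.res_app f b]
  rfl

theorem small_data {B C : Art Λ k} {p : B ⟶ C} (hp : Art.IsSmallExt p) :
    ∃ ε : B, ε ≠ 0 ∧ RingHom.ker p.toAlgHom.toRingHom = Ideal.span {ε} ∧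
      (∀ a ∈ IsLocalRing.maximalIdeal B, a * ε = 0) ∧ ε ∈ IsLocalRing.maximalIdeal B := by
  obtain ⟨hs, hne, ⟨ε, hε⟩, hm⟩ := hp
  have hker : RingHom.ker p.toAlgHom.toRingHom = Ideal.span {ε} := hε
  refine ⟨ε, fun h => hne ?_, hker, fun a ha => ?_, ?_⟩
  · rw [hε, h, Ideal.submodule_span_eq]
    exact Ideal.span_singleton_eq_bot.2 rfl
  · have : a * ε ∈ IsLocalRing.maximalIdeal B * RingHom.ker p.toAlgHom :=
      Ideal.mul_mem_mul ha (by rw [hε]; exact Submodule.mem_span_singleton_self ε)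
    rw [hm] at this
    exact this
  · rw [B.mem_maximalIdeal_iff, ← Art.res_app p ε]
    have : ε ∈ RingHom.ker p.toAlgHom.toRingHom := hker ▸ Ideal.mem_span_singleton_self ε
    rw [RingHom.mem_ker] at this
    change C.res (p.toAlgHom.toRingHom ε) = 0
    rw [this, map_zero]

section Jay

variable {B C : Art Λ k} (f : B ⟶ C) (hf : Function.Surjective f)
include hf

theorem isClosedImmersion_jA : IsClosedImmersion (jA x f) :=
  isClosedImmersion (sq x f) hf

theorem exists_point (z : XA x B) : ∃ z', (jA x f).base z' = z :=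
  surjective_base (sq x f) z

/-- The stalk of the unit. -/
theorem unit_eq_zero_iff (M : (XA x B).Modules) (z' : XA x C)
    (t : M.presheaf.stalk ((jA x f).base z')) :
    lin B (U x f M) _ t = 0 ↔
      t ∈ RingHom.ker f.toAlgHom.toRingHom •
        (⊤ : Submodule B (M.presheaf.stalk ((jA x f).base z'))) := by
  haveI := isClosedImmersion_jA x f hf
  exact lin_unit_eq_zero_iff (sq x f) hf M z' t

theorem epi_unit (M : (XA x B).Modules) :
    Epi (U x f M) := by
  haveI := isClosedImmersion_jA x f hf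
  exact Omega.Stalks.epi_of_stalk (CycLib.Dev.ClosedK0.unit_stalk_surjective (jA x f) M)

theorem mono_unit (hinj : Function.Injective f) (M : (XA x B).Modules) :
    Mono (U x f M) := by
  refine Omega.Stalks.mono_of_stalk fun z => ?_
  obtain ⟨z', rfl⟩ := exists_point x f hf z
  refine (injective_iff_map_eq_zero (lin B
    (U x f M)
    ((jA x f).base z'))).2 fun t ht => ?_
  have h := (unit_eq_zero_iff x f hf M z' t).1 ht
  rw [(RingHom.injective_iff_ker_eq_bot f.toAlgHom.toRingHom).1 hinj, Submodule.bot_smul] at h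
  exact h

theorem mulB_unit {b : B} (hb : f b = 0) (M : (XA x B).Modules) :
    mulB b M ≫ U x f M = 0 := by
  refine Omega.Stalks.hom_ext_stalk fun z => LinearMap.ext fun t => ?_
  obtain ⟨z', rfl⟩ := exists_point x f hf z
  change lin B (mulB b M ≫ _) _ t = lin B 0 _ t
  rw [lin_comp, lin_zero, lin_mulB, unit_eq_zero_iff x f hf]
  exact Submodule.smul_mem_smul (RingHom.mem_ker.2 hb) Submodule.mem_top

end Jay

theorem lin_stalk_ext {B : Art Λ k} {M N : (XA x B).Modules} {φ ψ : M ⟶ N}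
    (h : ∀ z t, lin B φ z t = lin B ψ z t) : φ = ψ :=
  Omega.Stalks.hom_ext_stalk fun z => LinearMap.ext (h z)

/-! ### Homomorphisms -/

section HomSmall

variable {B C : Art Λ k}

theorem hom_eq_zero_small {p : B ⟶ C} (hp : Art.IsSmallExt p) (F Q : (XA x B).Modules)
    (hQ : FlatMod.IsFlatOver (XA x B ↘ Spec (CommRingCat.of B)) Q)
    (h0 : Subsingleton ((PB x (Art.toBase B)).obj F ⟶ (PB x (Art.toBase B)).obj Q))
    (a : F ⟶ Q) (ha : (PB x p).map a = 0) : a = 0 := by
  obtain ⟨ε, hε, hker, hεm, hεmem⟩ := small_data hp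
  let f0 := Art.toBase B
  have hf0 : Function.Surjective f0 := B.res_surjective
  let u0 : Q ⟶ (PF x f0).obj ((PB x f0).obj Q) := U x f0 Q
  haveI : Epi u0 := epi_unit x f0 hf0 Q
  have hk : kernel.ι u0 ≫ mulB ε Q = 0 := lin_stalk_ext x fun z t => by
    obtain ⟨z', rfl⟩ := exists_point x f0 hf0 z
    rw [lin_comp, lin_zero, lin_mulB]
    have h1 : lin B u0 _ (lin B (kernel.ι u0) _ t) = 0 := by
      rw [← lin_comp, kernel.condition, lin_zero]
    rw [unit_eq_zero_iff x f0 hf0, ker_toBase] at h1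
    refine Submodule.smul_induction_on h1 (fun c hc n _ => ?_) fun n n' h h' => ?_
    · rw [smul_smul, mul_comm, hεm c hc, zero_smul]
    · rw [smul_add, h, h', add_zero]
  let ē := Abelian.epiDesc u0 (mulB ε Q) hk
  have hē : u0 ≫ ē = mulB ε Q := Abelian.comp_epiDesc _ _ _
  haveI : Mono ē := Omega.Stalks.mono_of_stalk fun z => by
    obtain ⟨z', rfl⟩ := exists_point x f0 hf0 z
    refine (injective_iff_map_eq_zero (lin B ē ((jA x f0).base z'))).2 fun s hs => ?_
    obtain ⟨q, rfl⟩ := lin_surjective (B := B) u0 _ s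
    rw [← lin_comp, hē, lin_mulB] at hs
    haveI := (flat_stalk_iff Q _).1 (hQ ((jA x f0).base z'))
    rw [unit_eq_zero_iff x f0 hf0, ker_toBase]
    exact QuotAlg.mem_smul_top_of_smul_eq_zero hε hs
  have hau : a ≫ U x p Q = 0 := by
    rw [U_naturality, ha, Functor.map_zero, comp_zero]
  have hac : a ≫ cokernel.π ē = 0 := lin_stalk_ext x fun z t => by
    obtain ⟨z', rfl⟩ := exists_point x p hp.1 z
    have h1 : lin B (U x p Q) _ (lin B a _ t) = 0 := by rw [← lin_comp, hau, lin_zero]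
    rw [unit_eq_zero_iff x p hp.1, hker] at h1
    obtain ⟨q, -, hq⟩ := QuotAlg.mem_span_singleton_smul h1
    rw [lin_comp, lin_zero, hq, ← lin_mulB, ← lin_comp, ← hē, Category.assoc, cokernel.condition,
      comp_zero, lin_zero]
  let b := Abelian.monoLift ē a hac
  have hb : b = 0 :=
    ((Scheme.Modules.pullbackPushforwardAdjunction (jA x f0)).homEquiv F _).symm.injective
      (Subsingleton.elim _ _)
  rw [← Abelian.monoLift_comp ē a hac]
  show b ≫ ē = 0
  rw [hb, zero_comp]

end HomSmall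

theorem flat_PB {B C : Art Λ k} (p : B ⟶ C) (Q : (XA x B).Modules)
    (hQ : FlatMod.IsFlatOver (XA x B ↘ Spec (CommRingCat.of B)) Q) :
    FlatMod.IsFlatOver (XA x C ↘ Spec (CommRingCat.of C)) ((PB x p).obj Q) :=
  fun z => FDesc.BaseChangeStalk.flatOverAt_baseChange (sq x p) z Q (hQ _)

/-- Maps to a flat module vanish if all maps between the closed fibres do. -/
theorem hom_subsingleton (B : Art Λ k) (F Q : (XA x B).Modules)
    (hQ : FlatMod.IsFlatOver (XA x B ↘ Spec (CommRingCat.of B)) Q)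
    (h0 : Subsingleton ((PB x (Art.toBase B)).obj F ⟶ (PB x (Art.toBase B)).obj Q)) :
    Subsingleton (F ⟶ Q) := by
  suffices H : ∀ {B A : Art Λ k} (f : B ⟶ A), Function.Surjective f → ∀ F Q : (XA x B).Modules,
      FlatMod.IsFlatOver (XA x B ↘ Spec (CommRingCat.of B)) Q →
      Subsingleton ((PB x (Art.toBase B)).obj F ⟶ (PB x (Art.toBase B)).obj Q) →
      Subsingleton ((PB x f).obj F ⟶ (PB x f).obj Q) → Subsingleton (F ⟶ Q) from
    H (Art.toBase B) B.res_surjective F Q hQ h0 h0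
  intro B A f hf
  refine ArtFunLib.surjective_induction (P := fun B A (f : B ⟶ A) => ∀ F Q : (XA x B).Modules,
      FlatMod.IsFlatOver (XA x B ↘ Spec (CommRingCat.of B)) Q →
      Subsingleton ((PB x (Art.toBase B)).obj F ⟶ (PB x (Art.toBase B)).obj Q) →
      Subsingleton ((PB x f).obj F ⟶ (PB x f).obj Q) → Subsingleton (F ⟶ Q)) ?_ ?_ f hf
  · intro B A e he F Q _ _ h
    haveI := mono_unit x e he.2 he.1 Q
    refine subsingleton_of_forall_eq 0 fun a => ?_
    rw [← cancel_mono (U x e Q)]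
    rw [U_naturality, Subsingleton.elim ((PB x e).map a) 0, Functor.map_zero, comp_zero, zero_comp]
  · intro B C A p q hp _ ih F Q hQ h0 h
    haveI hC : Subsingleton ((PB x p).obj F ⟶ (PB x p).obj Q) := by
      refine ih _ _ (flat_PB x p Q hQ) ?_ ?_
      · rw [← Art.eq_toBase (p ≫ Art.toBase C)] at h0
        exact (((pbComp x p (Art.toBase C)).app F).homCongr
          ((pbComp x p (Art.toBase C)).app Q)).subsingleton
      · exact (((pbComp x p q).app F).homCongr ((pbComp x p q).app Q)).subsingleton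
    exact subsingleton_of_forall_eq 0 fun a =>
      hom_eq_zero_small x hp F Q hQ h0 a (Subsingleton.elim _ _)

/-! ### Quotients -/

theorem stalkPushforward_smul {Z Y : Scheme.{u}} (i : Z ⟶ Y) (M : Z.Modules) (z : Z)
    (r : Y.presheaf.stalk (i z))
    (t : ((Scheme.Modules.pushforward i).obj M).presheaf.stalk (i z)) :
    (show M.presheaf.stalk z from
      TopCat.Presheaf.stalkPushforward AddCommGrpCat i.base M.presheaf z (r • t)) =
    i.stalkMap z r • (show M.presheaf.stalk z from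
      TopCat.Presheaf.stalkPushforward AddCommGrpCat i.base M.presheaf z t) := by
  obtain ⟨U, hU, m, rfl⟩ := exists_germM_eq ((Scheme.Modules.pushforward i).obj M) (i z) t
  obtain ⟨V, hV, a, rfl⟩ := Y.presheaf.exists_germ_eq r
  let W := U ⊓ V
  have hW : i z ∈ W := ⟨hU, hV⟩
  rw [show germM ((Scheme.Modules.pushforward i).obj M) U (i z) hU m =
      germM ((Scheme.Modules.pushforward i).obj M) W (i z) hW
        (((Scheme.Modules.pushforward i).obj M).presheaf.map
          (homOfLE (inf_le_left : W ≤ U)).op m) from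
      (((Scheme.Modules.pushforward i).obj M).presheaf.germ_res_apply
        (homOfLE (inf_le_left : W ≤ U)) (i z) hW m).symm,
    ← TopCat.Presheaf.germ_res_apply Y.presheaf (homOfLE (inf_le_right : W ≤ V)) (i z) hW a]
  erw [← germM_smul]
  erw [TopCat.Presheaf.stalkPushforward_germ_apply, TopCat.Presheaf.stalkPushforward_germ_apply,
    Scheme.Hom.germ_stalkMap_apply]
  exact germM_smul M (i ⁻¹ᵁ W) z hW _ _

theorem push_semilinear {B C : Art Λ k} (f : B ⟶ C) (M : (XA x C).Modules) (z : XA x C) (b : B)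
    (t : ((PF x f).obj M).presheaf.stalk ((jA x f).base z)) :
    (show M.presheaf.stalk z from
      TopCat.Presheaf.stalkPushforward AddCommGrpCat (jA x f).base M.presheaf z (b • t)) =
    f b • (show M.presheaf.stalk z from
      TopCat.Presheaf.stalkPushforward AddCommGrpCat (jA x f).base M.presheaf z t) :=
  (stalkPushforward_smul (jA x f) M z (β ((jA x f).base z) b) t).trans
    (congrArg (fun a : (XA x C).presheaf.stalk z =>
      a • (show M.presheaf.stalk z from
        TopCat.Presheaf.stalkPushforward AddCommGrpCat (jA x f).base M.presheaf z t))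
      (comm_β (sq x f) z b))

theorem subsingleton_ext_of_iso {D : Type*} [Category D] [Abelian D] [HasExt.{u} D] {A A' B B' : D}
    (e : A ≅ A') (e' : B ≅ B') (h : Subsingleton (Abelian.Ext.{u} A B 1)) :
    Subsingleton (Abelian.Ext.{u} A' B' 1) := by
  refine subsingleton_of_forall_eq 0 fun α => ?_
  have h1 : (Abelian.Ext.mk₀ e.hom).comp (α.comp (Abelian.Ext.mk₀ e'.inv) (add_zero 1))
      (zero_add 1) = 0 := Subsingleton.elim _ _
  have h2 := congrArg (fun γ : Abelian.Ext.{u} A B 1 =>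
    (Abelian.Ext.mk₀ e.inv).comp (γ.comp (Abelian.Ext.mk₀ e'.hom) (add_zero 1)) (zero_add 1)) h1
  simpa using h2

theorem comp_preimage_eq {D E : Type*} [Category D] [Category E] {L : D ⥤ E} {R : E ⥤ D}
    (adj : L ⊣ R) {X' : D} {Y : E} (g : L.obj X' ⟶ Y) :
    adj.unit.app X' ≫ R.map g = adj.homEquiv X' Y g := (adj.homEquiv_unit X' Y g).symm

set_option maxHeartbeats 2000000 in
/-- Lifting a quotient along a small extension. -/
theorem exists_lift_small [LocallyOfFiniteType x.hom] {B C : Art Λ k} {p : B ⟶ C}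
    (hp : Art.IsSmallExt p) (G : (XA x B).Modules) (hG : Coh.IsCoh G)
    (hGf : FlatMod.IsFlatOver (XA x B ↘ Spec (CommRingCat.of B)) G)
    (Q : (XA x C).Modules) (φ : (PB x p).obj G ⟶ Q) [Epi φ] (hQ : Coh.IsCoh Q)
    (hQf : FlatMod.IsFlatOver (XA x C ↘ Spec (CommRingCat.of C)) Q)
    [HasExt.{u} (XA x (Art.base Λ k)).Modules]
    (hExt : Subsingleton (Abelian.Ext.{u} (kernel ((PB x (Art.toBase C)).map φ))
      ((PB x (Art.toBase C)).obj Q) 1)) :
    ∃ (Q' : (XA x B).Modules) (Φ : G ⟶ Q'), Epi Φ ∧ Coh.IsCoh Q' ∧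
      FlatMod.IsFlatOver (XA x B ↘ Spec (CommRingCat.of B)) Q' ∧
      ∃ e : (PB x p).obj Q' ≅ Q, (PB x p).map Φ ≫ e.hom = φ := by
  obtain ⟨ε, hε, hker, hεm, hεmem⟩ := small_data hp
  let f0 : B ⟶ Art.base Λ k := p ≫ Art.toBase C
  have hf0 : Function.Surjective f0 := (C.res_surjective).comp hp.1
  haveI := isClosedImmersion_jA x p hp.1
  haveI := isClosedImmersion_jA x f0 hf0
  let adjp := Scheme.Modules.pullbackPushforwardAdjunction (jA x p)
  let adj0 := Scheme.Modules.pullbackPushforwardAdjunction (jA x f0)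
  let L0 := PB x f0
  let R0 := PF x f0
  haveI : PreservesFiniteColimits R0 :=
    PreservesColimitsOfSize.preservesFiniteColimits R0
  haveI : PreservesFiniteColimits (PF x p) :=
    PreservesColimitsOfSize.preservesFiniteColimits (PF x p)
  haveI : PreservesFiniteLimits R0 := by
    haveI := adj0.rightAdjoint_preservesLimits
    exact PreservesLimitsOfSize.preservesFiniteLimits R0
  haveI : R0.Faithful := adj0.fullyFaithfulROfIsIsoCounit.faithful
  haveI : (PF x p).Faithful := adjp.fullyFaithfulROfIsIsoCounit.faithful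
  -- the composite `ψ : G → j_* Q`
  let ψ : G ⟶ (PF x p).obj Q := adjp.homEquiv G Q φ
  have hψ : ψ = U x p G ≫ (PF x p).map φ := adjp.homEquiv_unit G Q φ
  haveI : Epi (U x p G) := epi_unit x p hp.1 G
  haveI : Epi ((PF x p).map φ) := Functor.map_epi _ φ
  haveI : Epi ψ := by rw [hψ]; exact epi_comp _ _
  have hψε : ∀ M, mulB ε M ≫ U x p M = 0 := fun M => mulB_unit x p hp.1
    (show p ε = 0 from RingHom.mem_ker.1 (hker ▸ Ideal.mem_span_singleton_self ε)) M
  have hεψ : mulB ε G ≫ ψ = 0 := by rw [hψ, reassoc_of% (hψε G), zero_comp]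
  let L := kernel ψ
  let ι : L ⟶ G := kernel.ι ψ
  -- `θ : G → i_* Q₀`
  let q0 : L0.obj G ⟶ L0.obj ((PF x p).obj Q) := L0.map ψ
  haveI : PreservesFiniteColimits L0 := by
    haveI := adj0.leftAdjoint_preservesColimits
    exact PreservesColimitsOfSize.preservesFiniteColimits L0
  haveI : Epi q0 := Functor.map_epi _ ψ
  let θ : G ⟶ R0.obj (L0.obj ((PF x p).obj Q)) := U x f0 G ≫ R0.map q0
  have hθ : θ = ψ ≫ U x f0 ((PF x p).obj Q) := (adj0.unit.naturality ψ).symm
  haveI : Epi θ := by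
    haveI := epi_unit x f0 hf0 ((PF x p).obj Q)
    rw [hθ]; exact epi_comp _ _
  let Kt := kernel θ
  let κ : Kt ⟶ G := kernel.ι θ
  let a' : G ⟶ L := kernel.lift ψ (mulB ε G) hεψ
  have ha' : a' ≫ ι = mulB ε G := kernel.lift_ι _ _ _
  let ε' : Kt ⟶ L := κ ≫ a'
  let N := cokernel ε'
  let P := L0.obj N
  let πP : L ⟶ R0.obj P := cokernel.π ε' ≫ U x f0 N
  haveI : Epi πP := by
    haveI := epi_unit x f0 hf0 N
    exact epi_comp _ _
  -- the stalk algebra
  let K : ∀ z, Submodule B (G.presheaf.stalk z) := fun z => LinearMap.range (lin B ι z)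
  let Θ : ∀ z, Submodule B (G.presheaf.stalk z) :=
    fun z => K z ⊔ IsLocalRing.maximalIdeal B • ⊤
  have hK : ∀ z e, e ∈ K z ↔ lin B ψ z e = 0 := fun z e =>
    (mem_ker_iff ψ z e).symm
  have hθz : ∀ z e, lin B θ z e = 0 ↔ e ∈ Θ z := by
    intro z e
    obtain ⟨z', rfl⟩ := exists_point x f0 hf0 z
    rw [hθ, lin_comp, unit_eq_zero_iff x f0 hf0, ker_toBase]
    have hmap : (IsLocalRing.maximalIdeal B • ⊤ : Submodule B (G.presheaf.stalk _)).map
        (lin B ψ ((jA x f0).base z')) = IsLocalRing.maximalIdeal B • ⊤ := by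
      rw [Submodule.map_smul'', Submodule.map_top,
        LinearMap.range_eq_top.2 (lin_surjective ψ _)]
    constructor
    · intro h
      rw [← hmap] at h
      obtain ⟨m, hm, hme⟩ := h
      refine Submodule.mem_sup.2 ⟨e - m, (hK _ _).2 (by rw [map_sub, hme, sub_self]), m, hm,
        sub_add_cancel e m⟩
    · intro h
      obtain ⟨a, ha, m, hm, rfl⟩ := Submodule.mem_sup.1 h
      rw [map_add, (hK _ _).1 ha, zero_add, ← hmap]
      exact Submodule.mem_map_of_mem hm
  have hκz : ∀ z e, e ∈ LinearMap.range (lin B κ z) ↔ e ∈ Θ z := fun z e =>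
    (mem_ker_iff θ z e).symm.trans (hθz z e)
  have halg : ∀ z : XA x B,
      (∀ t ∈ K z, t ∈ IsLocalRing.maximalIdeal B • (⊤ : Submodule B (G.presheaf.stalk z)) →
          t ∈ IsLocalRing.maximalIdeal B • K z ⊔ Ideal.span {ε} • ⊤) ∧
        ∀ e, ε • e ∈ IsLocalRing.maximalIdeal B • K z → e ∈ Θ z := by
    intro z
    obtain ⟨z', rfl⟩ := exists_point x p hp.1 z
    haveI := (flat_stalk_iff G _).1 (hGf ((jA x p).base z'))
    haveI := (flat_stalk_iff Q _).1 (hQf z')
    let sp := TopCat.Presheaf.stalkPushforward AddCommGrpCat (jA x p).base Q.presheaf z'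
    have hb := ClUnit.stalkPushforward_bijective (jA x p) Q
      (jA x p).isClosedEmbedding.isInducing z'
    let g : G.presheaf.stalk ((jA x p).base z') →+ Q.presheaf.stalk z' :=
      sp.hom.comp (lin B ψ ((jA x p).base z')).toAddMonoidHom
    exact QuotAlg.small_step (Q := Q.presheaf.stalk z') p.toAlgHom.toRingHom hp.1 hε hker hεm g
      (hb.2.comp (lin_surjective (B := B) ψ _))
      (fun b e => (congrArg sp ((lin B ψ _).map_smul b e)).trans (push_semilinear x p Q z' b _))
      (K _) fun e => (hK _ e).trans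
        ⟨fun h => (congrArg sp h).trans (map_zero _), fun h => hb.1 (h.trans (map_zero _).symm)⟩
  -- the kernel of `π_P`
  have hεK : ∀ z t, t ∈ IsLocalRing.maximalIdeal B • (⊤ : Submodule B (G.presheaf.stalk z)) →
      ε • t = 0 := fun z t ht => by
    refine Submodule.smul_induction_on ht (fun c hc n _ => ?_) fun n n' h h' => ?_
    · rw [smul_smul, mul_comm, hεm c hc, zero_smul]
    · rw [smul_add, h, h', add_zero]
  have hπP : ∀ z (t : L.presheaf.stalk z), lin B πP z t = 0 →
      ∃ t₁ ∈ IsLocalRing.maximalIdeal B • K z, ∃ e ∈ K z, lin B ι z t = t₁ + ε • e := by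
    intro z t ht
    obtain ⟨z', rfl⟩ := exists_point x f0 hf0 z
    rw [lin_comp, unit_eq_zero_iff x f0 hf0, ker_toBase] at ht
    have hmap : (IsLocalRing.maximalIdeal B • ⊤ : Submodule B (L.presheaf.stalk _)).map
        (lin B (cokernel.π ε') ((jA x f0).base z')) = IsLocalRing.maximalIdeal B • ⊤ := by
      rw [Submodule.map_smul'', Submodule.map_top,
        LinearMap.range_eq_top.2 (lin_surjective _ _)]
    rw [← hmap] at ht
    obtain ⟨m, hm, hmt⟩ := ht
    have h1 : lin B (cokernel.π ε') _ (t - m) = 0 := by rw [map_sub, hmt, sub_self]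
    obtain ⟨w, hw⟩ := (mem_ker_iff (cokernel.π ε') _ (t - m)).1 h1
    obtain ⟨v, hv⟩ := lin_surjective (B := B) (Abelian.factorThruImage ε') _ w
    have hv' : lin B ε' _ v = t - m := by
      rw [← hw, ← hv, ← lin_comp]
      congr 1
      exact congrArg (fun g => lin B g _) (Abelian.image.fac ε').symm
    have hkv : lin B κ _ v ∈ Θ ((jA x f0).base z') := (hκz _ _).1 ⟨v, rfl⟩
    obtain ⟨e, he, r, hr, her⟩ := Submodule.mem_sup.1 hkv
    refine ⟨lin B ι _ m, ?_, e, he, ?_⟩
    · have := Submodule.mem_map_of_mem (f := lin B ι ((jA x f0).base z')) hm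
      rwa [Submodule.map_smul'', Submodule.map_top] at this
    · have h2 : lin B ι _ (t - m) = ε • e := by
        rw [← hv', ← lin_comp, show ε' ≫ ι = κ ≫ mulB ε G from by rw [Category.assoc, ha'],
          lin_comp, lin_mulB, ← her, smul_add, hεK _ r hr, add_zero]
      rw [map_sub, sub_eq_iff_eq_add] at h2
      rw [h2, add_comm]
  -- `a : Q₀ → P`
  have hkã : κ ≫ a' ≫ πP = 0 := by
    rw [← Category.assoc]
    show ε' ≫ cokernel.π ε' ≫ _ = 0
    rw [cokernel.condition_assoc, zero_comp]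
  let aR : R0.obj (L0.obj ((PF x p).obj Q)) ⟶ R0.obj P := Abelian.epiDesc θ (a' ≫ πP) hkã
  have haR : θ ≫ aR = a' ≫ πP := Abelian.comp_epiDesc _ _ _
  let a : L0.obj ((PF x p).obj Q) ⟶ P := adj0.fullyFaithfulROfIsIsoCounit.preimage aR
  have hRa : R0.map a = aR := adj0.fullyFaithfulROfIsIsoCounit.map_preimage aR
  -- `b : P → K₀`
  have hc : ε' ≫ ι ≫ U x f0 G = 0 := by
    show (κ ≫ a') ≫ ι ≫ U x f0 G = 0
    rw [Category.assoc, reassoc_of% ha', mulB_unit x f0 hf0 ?_ G, comp_zero]
    exact RingHom.mem_ker.1 ((ker_toBase f0).symm ▸ hεmem)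
  let c : N ⟶ R0.obj (L0.obj G) := cokernel.desc ε' (ι ≫ U x f0 G) hc
  let b : P ⟶ L0.obj G := (adj0.homEquiv N (L0.obj G)).symm c
  have hπb : πP ≫ R0.map b = ι ≫ U x f0 G := by
    show (cokernel.π ε' ≫ U x f0 N) ≫ R0.map b = _
    rw [Category.assoc, comp_preimage_eq adj0 b]
    exact (congrArg (cokernel.π ε' ≫ ·) (Equiv.apply_symm_apply _ c)).trans
      (cokernel.π_desc _ _ _)
  have hbq : b ≫ q0 = 0 := by
    apply R0.map_injective
    rw [R0.map_comp, R0.map_zero, ← cancel_epi πP, comp_zero, reassoc_of% hπb]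
    show ι ≫ θ = 0
    rw [hθ, kernel.condition_assoc, zero_comp]
  let b0 : P ⟶ kernel q0 := kernel.lift q0 b hbq
  have hab : a ≫ b0 = 0 := by
    rw [← cancel_mono (kernel.ι q0), Category.assoc, kernel.lift_ι, zero_comp]
    apply R0.map_injective
    rw [R0.map_comp, R0.map_zero, hRa, ← cancel_epi θ, comp_zero, reassoc_of% haR, hπb,
      reassoc_of% ha']
    exact mulB_unit x f0 hf0 (RingHom.mem_ker.1 ((ker_toBase f0).symm ▸ hεmem)) G
  let S := ShortComplex.mk a b0 hab
  have hmonoaR : Mono (R0.map a) := by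
    refine Omega.Stalks.mono_of_stalk fun z => ?_
    refine (injective_iff_map_eq_zero (lin B (R0.map a) z)).2 fun s hs => ?_
    obtain ⟨e, rfl⟩ := lin_surjective (B := B) θ z s
    rw [← lin_comp, hRa, haR, lin_comp] at hs
    obtain ⟨t₁, ht₁, e', he', hte⟩ := hπP z _ hs
    rw [← lin_comp, ha', lin_mulB] at hte
    rw [hθz]
    have h2 : ε • (e - e') ∈ IsLocalRing.maximalIdeal B • K z := by
      rw [smul_sub, hte, add_sub_cancel_right]
      exact ht₁
    have : e = (e - e') + e' := (sub_add_cancel e e').symm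
    rw [this]
    exact Submodule.add_mem _ ((halg z).2 _ h2) (Submodule.mem_sup_left he')
  haveI : Mono S.f := R0.mono_of_mono_map hmonoaR
  haveI : Mono (R0.map (kernel.ι q0)) := inferInstance
  haveI : Epi S.g := by
    refine R0.epi_of_epi_map (Omega.Stalks.epi_of_stalk fun z s => ?_)
    haveI := epi_unit x f0 hf0 G
    obtain ⟨e, he⟩ := lin_surjective (B := B) (U x f0 G) z (lin B (R0.map (kernel.ι q0)) z s)
    have h1 : lin B θ z e = 0 := by
      rw [lin_comp, he, ← lin_comp, ← R0.map_comp, kernel.condition, R0.map_zero, lin_zero]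
    obtain ⟨k', ⟨t, ht⟩, m, hm, hkm⟩ := Submodule.mem_sup.1 ((hθz z e).1 h1)
    refine ⟨lin B πP z t, lin_injective (B := B) (R0.map (kernel.ι q0)) z ?_⟩
    show lin B (R0.map (kernel.ι q0)) z (lin B (R0.map b0) z (lin B πP z t)) = _
    rw [← lin_comp, ← R0.map_comp, kernel.lift_ι, ← lin_comp, hπb, lin_comp, ht, ← he, ← hkm,
      map_add]
    have h2 : lin B (U x f0 G) z m = 0 := by
      obtain ⟨z', rfl⟩ := exists_point x f0 hf0 z
      rw [unit_eq_zero_iff x f0 hf0, ker_toBase]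
      exact hm
    rw [h2, add_zero]
  have hS : S.ShortExact := by
    refine ⟨(S.exact_map_iff_of_faithful R0).1 (Omega.Stalks.exact_of_stalk _ fun z => ?_)⟩
    intro s hs
    obtain ⟨t, rfl⟩ := lin_surjective (B := B) πP z s
    have hs0 : lin B (R0.map b0) z (lin B πP z t) = 0 := hs
    have hs' : lin B (U x f0 G) z (lin B ι z t) = 0 := by
      rw [← lin_comp, ← hπb, ← kernel.lift_ι q0 b hbq, R0.map_comp, lin_comp, lin_comp]
      exact (congrArg _ hs0).trans (map_zero _)
    have h3 : lin B ι z t ∈ IsLocalRing.maximalIdeal B • (⊤ : Submodule B (G.presheaf.stalk z)) := by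
      obtain ⟨z', rfl⟩ := exists_point x f0 hf0 z
      rwa [unit_eq_zero_iff x f0 hf0, ker_toBase] at hs'
    obtain ⟨m', hm', r, hr, hmr⟩ := Submodule.mem_sup.1 ((halg z).1 _ ⟨t, rfl⟩ h3)
    obtain ⟨e, -, rfl⟩ := QuotAlg.mem_span_singleton_smul hr
    refine ⟨lin B θ z e, ?_⟩
    show lin B (R0.map a) z (lin B θ z e) = lin B πP z t
    rw [← lin_comp, hRa, haR, lin_comp]
    have h4 : lin B ι z (t - lin B a' z e) = m' := by
      rw [map_sub, ← lin_comp, ha', lin_mulB, ← hmr, add_sub_cancel_right]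
    have h5 : ∃ m ∈ IsLocalRing.maximalIdeal B • (⊤ : Submodule B (L.presheaf.stalk z)),
        lin B ι z m = m' := by
      have : m' ∈ (IsLocalRing.maximalIdeal B • ⊤ : Submodule B (L.presheaf.stalk z)).map
          (lin B ι z) := by
        rwa [Submodule.map_smul'', Submodule.map_top]
      exact this
    obtain ⟨m, hm, hm2⟩ := h5
    have h6 : t - lin B a' z e = m := lin_injective (B := B) ι z (h4.trans hm2.symm)
    have h7 : lin B πP z m = 0 := by
      obtain ⟨z', rfl⟩ := exists_point x f0 hf0 z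
      rw [lin_comp, unit_eq_zero_iff x f0 hf0, ker_toBase]
      have := Submodule.mem_map_of_mem (f := lin B (cokernel.π ε') ((jA x f0).base z')) hm
      rw [Submodule.map_smul''] at this
      exact Submodule.smul_mono le_rfl le_top this
    rw [← sub_eq_zero, ← map_sub, ← neg_sub, map_neg, h6, h7, neg_zero]
  -- the splitting
  have hExt0 : Subsingleton (Abelian.Ext.{u} S.X₃ S.X₁ 1) := by
    have hψφ : (PB x p).map ψ ≫ adjp.counit.app Q = φ :=
      (adjp.homEquiv_counit G ((PF x p).obj Q |> fun _ => Q) ψ).symm.trans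
        (Equiv.symm_apply_apply _ φ)
    let α : L0.obj ((PF x p).obj Q) ≅ (PB x (Art.toBase C)).obj Q :=
      ((pbComp x p (Art.toBase C)).app _).symm ≪≫
        (PB x (Art.toBase C)).mapIso (asIso (adjp.counit.app Q))
    let αG : L0.obj G ≅ (PB x (Art.toBase C)).obj ((PB x p).obj G) :=
      ((pbComp x p (Art.toBase C)).app G).symm
    refine subsingleton_ext_of_iso (kernel.mapIso q0 ((PB x (Art.toBase C)).map φ) αG α ?_).symm
      α.symm hExt
    show L0.map ψ ≫ (pbComp x p (Art.toBase C)).inv.app _ ≫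
        (PB x (Art.toBase C)).map (adjp.counit.app Q) =
      (pbComp x p (Art.toBase C)).inv.app G ≫ (PB x (Art.toBase C)).map φ
    rw [← hψφ, Functor.map_comp, ← Category.assoc, ← Category.assoc]
    exact congrArg (· ≫ _) ((pbComp x p (Art.toBase C)).inv.naturality ψ)
  obtain ⟨r0, hr0⟩ := Abelian.Ext.contravariant_sequence_exact₁ hS S.X₁
    (Abelian.Ext.mk₀ (𝟙 S.X₁)) (n₁ := 1) rfl (Subsingleton.elim _ _)
  obtain ⟨r, rfl⟩ := Abelian.Ext.mk₀_bijective _ _ |>.2 r0
  rw [Abelian.Ext.mk₀_comp_mk₀] at hr0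
  have har : a ≫ r = 𝟙 _ := (Abelian.Ext.mk₀_bijective _ _).1 hr0
  let s : L ⟶ R0.obj (L0.obj ((PF x p).obj Q)) := πP ≫ R0.map r
  have has : a' ≫ s = θ := by
    show a' ≫ πP ≫ R0.map r = θ
    rw [← Category.assoc, ← haR, Category.assoc, ← hRa, ← R0.map_comp, har, R0.map_id,
      Category.comp_id]
  let ι' : kernel s ⟶ G := kernel.ι s ≫ ι
  let Φ : G ⟶ cokernel ι' := cokernel.π ι'
  let K' : ∀ z, Submodule B (G.presheaf.stalk z) := fun z => LinearMap.range (lin B ι' z)
  have hK'K : ∀ z, ∀ t ∈ K z, ∃ k₁ ∈ K' z, ∃ e, t = k₁ + ε • e := by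
    rintro z _ ⟨l, rfl⟩
    obtain ⟨e, he⟩ := lin_surjective (B := B) θ z (lin B s z l)
    have h1 : lin B s z (l - lin B a' z e) = 0 := by
      rw [map_sub, ← lin_comp, has, he, sub_self]
    obtain ⟨w, hw⟩ := (mem_ker_iff s z _).1 h1
    refine ⟨lin B ι' z w, ⟨w, rfl⟩, e, ?_⟩
    rw [lin_comp, hw, map_sub, ← lin_comp (f := a'), ha', lin_mulB, sub_add_cancel]
  have hK'le : ∀ z, K' z ≤ K z := fun z => by
    rintro _ ⟨w, rfl⟩
    exact ⟨lin B (kernel.ι s) z w, (lin_comp _ _ _ _).symm⟩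
  have hεK' : ∀ z e, ε • e ∈ K' z → ∃ k₁ ∈ K' z, ε • e = ε • k₁ := by
    intro z e he
    obtain ⟨w, hw⟩ := he
    have h1 : lin B (kernel.ι s) z w = lin B a' z e := by
      apply lin_injective (B := B) ι z
      rw [← lin_comp, ← lin_comp, ha', lin_mulB]
      exact hw
    have h2 : lin B θ z e = 0 := by
      rw [← has, lin_comp, ← h1, ← lin_comp, kernel.condition, lin_zero]
    obtain ⟨k₀, hk₀, m, hm, rfl⟩ := Submodule.mem_sup.1 ((hθz z e).1 h2)
    obtain ⟨k₁, hk₁, e₁, rfl⟩ := hK'K z k₀ hk₀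
    refine ⟨k₁, hk₁, ?_⟩
    rw [smul_add, hεK z m hm, add_zero, smul_add, smul_smul, hεm ε hεmem, zero_smul, add_zero]
  haveI : Mono ι' := mono_comp _ _
  have hflat : FlatMod.IsFlatOver (XA x B ↘ Spec (CommRingCat.of B)) (cokernel ι') := by
    intro z
    rw [flat_stalk_iff]
    haveI := (flat_stalk_iff G z).1 (hGf z)
    have hSS : (ShortComplex.mk ι' (cokernel.π ι') (cokernel.condition ι')).ShortExact :=
      { exact := ShortComplex.exact_of_g_is_cokernel _ (cokernelIsCokernel ι') }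
    refine QuotAlg.flat_of_inter_le (lin_injective (B := B) ι' z)
      (lin_surjective (B := B) (cokernel.π ι') z) (lin_exact (B := B) hSS z) fun w hw => ?_
    obtain ⟨m', hm', r', hr', hsum⟩ := Submodule.mem_sup.1
      ((halg z).1 _ (hK'le z ⟨w, rfl⟩) hw)
    have h1 : IsLocalRing.maximalIdeal B • K z ≤ IsLocalRing.maximalIdeal B • K' z := by
      refine Submodule.smul_le.2 fun c hc t ht => ?_
      obtain ⟨k₁, hk₁, e, rfl⟩ := hK'K z t ht
      rw [smul_add, smul_smul, hεm c hc, zero_smul, add_zero]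
      exact Submodule.smul_mem_smul hc hk₁
    obtain ⟨e, -, rfl⟩ := QuotAlg.mem_span_singleton_smul hr'
    have h2 : ε • e ∈ K' z := by
      have : ε • e = lin B ι' z w - m' := by rw [← hsum, add_sub_cancel_left]
      rw [this]
      exact Submodule.sub_mem _ ⟨w, rfl⟩ (Submodule.smul_le_right (h1 hm'))
    obtain ⟨k₁, hk₁, hek⟩ := hεK' z e h2
    have h3 : lin B ι' z w ∈
        (IsLocalRing.maximalIdeal B • ⊤ : Submodule B ((kernel s).presheaf.stalk z)).map
          (lin B ι' z) := by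
      rw [Submodule.map_smul'', Submodule.map_top, ← hsum, hek]
      exact Submodule.add_mem _ (h1 hm') (Submodule.smul_mem_smul hεmem hk₁)
    obtain ⟨w', hw', hww⟩ := h3
    rwa [← lin_injective (B := B) ι' z hww]
  have hcoh : Coh.IsCoh (cokernel ι') := by
    have hL : Coh.IsCoh L :=
      CohDev.isCoh_kernel ψ hG (CycLib.Dev.ClosedK0.good_push (jA x p) hQ).1.1
    exact CohDev.isCoh_cokernel ι' (CohDev.isCoh_kernel s hL
      (CycLib.Dev.ClosedK0.good_push (jA x f0) (CycLib.Dev.ClosedK0.coh_pull (jA x f0)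
        (CycLib.Dev.ClosedK0.good_push (jA x p) hQ).1)).1.1).1 hG
  -- compatibility
  have hι'ψ : ι' ≫ ψ = 0 := by
    show (kernel.ι s ≫ ι) ≫ ψ = 0
    rw [Category.assoc, kernel.condition, comp_zero]
  let d : cokernel ι' ⟶ (PF x p).obj Q := cokernel.desc ι' ψ hι'ψ
  let e0 : (PB x p).obj (cokernel ι') ⟶ Q := (adjp.homEquiv _ _).symm d
  have hd : U x p _ ≫ (PF x p).map e0 = d :=
    (comp_preimage_eq adjp e0).trans (Equiv.apply_symm_apply _ d)
  haveI : IsIso e0 := by
    haveI : Epi d := epi_of_epi_fac (cokernel.π_desc ι' ψ hι'ψ)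
    haveI : Epi ((PF x p).map e0) := epi_of_epi_fac hd
    haveI : Mono ((PF x p).map e0) := by
      refine Omega.Stalks.mono_of_stalk fun z => ?_
      refine (injective_iff_map_eq_zero (lin B ((PF x p).map e0) z)).2 fun s' hs' => ?_
      haveI := epi_unit x p hp.1 (cokernel ι')
      obtain ⟨q, rfl⟩ := lin_surjective (B := B) (U x p (cokernel ι')) z s'
      obtain ⟨g, rfl⟩ := lin_surjective (B := B) (cokernel.π ι') z q
      have h1 : lin B ψ z g = 0 := by
        rw [← cokernel.π_desc ι' ψ hι'ψ, lin_comp]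
        show lin B d z _ = 0
        rw [← hd, lin_comp]
        exact hs'
      obtain ⟨k₁, ⟨w, rfl⟩, e, rfl⟩ := hK'K z g ((hK z g).2 h1)
      rw [map_add, ← lin_comp ι', cokernel.condition, lin_zero, zero_add, map_smul, ← lin_mulB,
        ← lin_comp (f := mulB ε _), hψε, lin_zero]
    haveI : Mono e0 := (PF x p).mono_of_mono_map inferInstance
    haveI : Epi e0 := (PF x p).epi_of_epi_map inferInstance
    exact isIso_of_mono_of_epi e0
  refine ⟨cokernel ι', cokernel.π ι', inferInstance, hcoh, hflat, asIso e0, ?_⟩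
  show (PB x p).map (cokernel.π ι') ≫ e0 = φ
  rw [← Adjunction.homEquiv_naturality_left_symm]
  exact (congrArg _ (cokernel.π_desc ι' ψ hι'ψ)).trans (Equiv.symm_apply_apply _ φ)

theorem exists_lift_iso [LocallyOfFiniteType x.hom] {B A : Art Λ k} (f : B ⟶ A)
    (hf : Function.Bijective f) (G : (XA x B).Modules) (Q : (XA x A).Modules)
    (φ : (PB x f).obj G ⟶ Q) [Epi φ] (hQ : Coh.IsCoh Q)
    (hQf : FlatMod.IsFlatOver (XA x A ↘ Spec (CommRingCat.of A)) Q) :
    ∃ (Q' : (XA x B).Modules) (Φ : G ⟶ Q'), Epi Φ ∧ Coh.IsCoh Q' ∧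
      FlatMod.IsFlatOver (XA x B ↘ Spec (CommRingCat.of B)) Q' ∧
      ∃ e : (PB x f).obj Q' ≅ Q, (PB x f).map Φ ≫ e.hom = φ := by
  haveI := isClosedImmersion_jA x f hf.2
  let adj := Scheme.Modules.pullbackPushforwardAdjunction (jA x f)
  haveI : PreservesFiniteColimits (PF x f) :=
    PreservesColimitsOfSize.preservesFiniteColimits (PF x f)
  haveI := epi_unit x f hf.2 G
  haveI : Epi ((PF x f).map φ) := Functor.map_epi _ φ
  refine ⟨(PF x f).obj Q, U x f G ≫ (PF x f).map φ, epi_comp _ _,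
    (CycLib.Dev.ClosedK0.good_push (jA x f) hQ).1, fun z => ?_, asIso (adj.counit.app Q), ?_⟩
  · obtain ⟨z', rfl⟩ := exists_point x f hf.2 z
    rw [flat_stalk_iff]
    haveI := (flat_stalk_iff Q _).1 (hQf z')
    letI : Algebra B A := f.toAlgHom.toRingHom.toAlgebra
    letI : Module B (Q.presheaf.stalk z') := Module.compHom _ f.toAlgHom.toRingHom
    haveI : IsScalarTower B A (Q.presheaf.stalk z') :=
      IsScalarTower.of_algebraMap_smul fun _ _ => rfl
    haveI : Module.Flat B A :=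
      RingHom.Flat.of_bijective (f := f.toAlgHom.toRingHom) hf
    haveI : Module.Flat B (Q.presheaf.stalk z') := Module.Flat.trans B A _
    let sp := TopCat.Presheaf.stalkPushforward AddCommGrpCat (jA x f).base Q.presheaf z'
    exact Module.Flat.of_linearEquiv (LinearEquiv.ofBijective
      ({ toFun := sp, map_add' := map_add sp.hom,
         map_smul' := fun b t => push_semilinear x f Q z' b t } :
        ((PF x f).obj Q).presheaf.stalk ((jA x f).base z') →ₗ[B] Q.presheaf.stalk z')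
      (ClUnit.stalkPushforward_bijective (jA x f) Q
        (jA x f).isClosedEmbedding.isInducing z'))
  · show (PB x f).map _ ≫ adj.counit.app Q = φ
    exact ((adj.homEquiv_counit _ _ _).symm.trans (congrArg _ (adj.homEquiv_unit G Q φ).symm)).trans
      (Equiv.symm_apply_apply _ φ)

/-- Lifting of quotients along a surjection. -/
theorem exists_lift [LocallyOfFiniteType x.hom] [HasExt.{u} (XA x (Art.base Λ k)).Modules]
    {B A : Art Λ k} (f : B ⟶ A) (hf : Function.Surjective f) (G : (XA x B).Modules)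
    (hG : Coh.IsCoh G) (hGf : FlatMod.IsFlatOver (XA x B ↘ Spec (CommRingCat.of B)) G)
    (Q : (XA x A).Modules) (φ : (PB x f).obj G ⟶ Q) [Epi φ] (hQ : Coh.IsCoh Q)
    (hQf : FlatMod.IsFlatOver (XA x A ↘ Spec (CommRingCat.of A)) Q)
    (hExt : Subsingleton (Abelian.Ext.{u} (kernel ((PB x (Art.toBase A)).map φ))
      ((PB x (Art.toBase A)).obj Q) 1)) :
    ∃ (Q' : (XA x B).Modules) (Φ : G ⟶ Q'), Epi Φ ∧ Coh.IsCoh Q' ∧
      FlatMod.IsFlatOver (XA x B ↘ Spec (CommRingCat.of B)) Q' ∧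
      ∃ e : (PB x f).obj Q' ≅ Q, (PB x f).map Φ ≫ e.hom = φ := by
  suffices H : ∀ {B A : Art Λ k} (f : B ⟶ A), Function.Surjective f → ∀ (G : (XA x B).Modules),
      Coh.IsCoh G → FlatMod.IsFlatOver (XA x B ↘ Spec (CommRingCat.of B)) G →
      ∀ (Q : (XA x A).Modules) (φ : (PB x f).obj G ⟶ Q), Epi φ → Coh.IsCoh Q →
      FlatMod.IsFlatOver (XA x A ↘ Spec (CommRingCat.of A)) Q →
      Subsingleton (Abelian.Ext.{u} (kernel ((PB x (Art.toBase A)).map φ))
        ((PB x (Art.toBase A)).obj Q) 1) →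
      ∃ (Q' : (XA x B).Modules) (Φ : G ⟶ Q'), Epi Φ ∧ Coh.IsCoh Q' ∧
        FlatMod.IsFlatOver (XA x B ↘ Spec (CommRingCat.of B)) Q' ∧
        ∃ e : (PB x f).obj Q' ≅ Q, (PB x f).map Φ ≫ e.hom = φ from
    H f hf G hG hGf Q φ inferInstance hQ hQf hExt
  intro B A f hf
  refine ArtFunLib.surjective_induction (P := fun B A (f : B ⟶ A) => ∀ (G : (XA x B).Modules),
      Coh.IsCoh G → FlatMod.IsFlatOver (XA x B ↘ Spec (CommRingCat.of B)) G →
      ∀ (Q : (XA x A).Modules) (φ : (PB x f).obj G ⟶ Q), Epi φ → Coh.IsCoh Q →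
      FlatMod.IsFlatOver (XA x A ↘ Spec (CommRingCat.of A)) Q →
      Subsingleton (Abelian.Ext.{u} (kernel ((PB x (Art.toBase A)).map φ))
        ((PB x (Art.toBase A)).obj Q) 1) →
      ∃ (Q' : (XA x B).Modules) (Φ : G ⟶ Q'), Epi Φ ∧ Coh.IsCoh Q' ∧
        FlatMod.IsFlatOver (XA x B ↘ Spec (CommRingCat.of B)) Q' ∧
        ∃ e : (PB x f).obj Q' ≅ Q, (PB x f).map Φ ≫ e.hom = φ) ?_ ?_ f hf
  · intro B A e he G _ _ Q φ hφ hQ hQf _
    exact exists_lift_iso x e he G Q φ hQ hQf
  · intro B C A p q hp hq ih G hG hGf Q φ hφ hQ hQf hExt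
    haveI := isClosedImmersion_jA x p hp.1
    let φ' : (PB x q).obj ((PB x p).obj G) ⟶ Q := (pbComp x p q).hom.app G ≫ φ
    haveI : Epi φ' := epi_comp _ _
    obtain ⟨QC, ΦC, hΦC, hQCc, hQCf, eC, heC⟩ := ih ((PB x p).obj G)
      (CycLib.Dev.ClosedK0.coh_pull (jA x p) hG) (flat_PB x p G hGf) Q φ' inferInstance hQ hQf
      (subsingleton_ext_of_iso (kernel.mapIso _ _
        ((PB x (Art.toBase A)).mapIso ((pbComp x p q).app G)).symm (Iso.refl _)
        (by
          show _ ≫ 𝟙 _ = (PB x (Art.toBase A)).map ((pbComp x p q).inv.app G) ≫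
            (PB x (Art.toBase A)).map φ'
          rw [Category.comp_id, ← Functor.map_comp]
          congr 1
          show φ = (pbComp x p q).inv.app G ≫ (pbComp x p q).hom.app G ≫ φ
          rw [Iso.inv_hom_id_app_assoc]))
        (Iso.refl _) hExt)
    have hExtC : Subsingleton (Abelian.Ext.{u} (kernel ((PB x (Art.toBase C)).map ΦC))
        ((PB x (Art.toBase C)).obj QC) 1) := by
      rw [← Art.eq_toBase (q ≫ Art.toBase A)]
      let c := pbComp x q (Art.toBase A)
      let α : (PB x (q ≫ Art.toBase A)).obj QC ≅ (PB x (Art.toBase A)).obj Q :=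
        (c.app QC).symm ≪≫ (PB x (Art.toBase A)).mapIso eC
      let αG : (PB x (q ≫ Art.toBase A)).obj ((PB x p).obj G) ≅
          (PB x (Art.toBase A)).obj ((PB x (p ≫ q)).obj G) :=
        (c.app _).symm ≪≫ (PB x (Art.toBase A)).mapIso ((pbComp x p q).app G)
      refine subsingleton_ext_of_iso (kernel.mapIso _ _ αG α ?_).symm α.symm hExt
      show (PB x (q ≫ Art.toBase A)).map ΦC ≫ c.inv.app QC ≫
          (PB x (Art.toBase A)).map eC.hom =
        (c.inv.app _ ≫ (PB x (Art.toBase A)).map ((pbComp x p q).hom.app G)) ≫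
          (PB x (Art.toBase A)).map φ
      rw [Category.assoc, ← Functor.map_comp]
      show _ = c.inv.app _ ≫ (PB x (Art.toBase A)).map φ'
      rw [← heC, Functor.map_comp, ← Category.assoc, ← Category.assoc]
      exact congrArg (· ≫ _) (c.inv.naturality ΦC)
    obtain ⟨QB, ΦB, hΦB, hQBc, hQBf, eB, heB⟩ :=
      exists_lift_small x hp G hG hGf QC ΦC hQCc hQCf hExtC
    refine ⟨QB, ΦB, hΦB, hQBc, hQBf,
      ((pbComp x p q).app QB).symm ≪≫ (PB x q).mapIso eB ≪≫ eC, ?_⟩
    show (PB x (p ≫ q)).map ΦB ≫ (pbComp x p q).inv.app QB ≫ (PB x q).map eB.hom ≫ eC.hom = φ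
    rw [← Category.assoc, (pbComp x p q).inv.naturality ΦB]
    show ((pbComp x p q).inv.app G ≫ (PB x q).map ((PB x p).map ΦB)) ≫
      (PB x q).map eB.hom ≫ eC.hom = φ
    rw [Category.assoc, ← Functor.map_comp_assoc, heB, heC, Iso.inv_hom_id_app_assoc]

end Groth.Agent.Helper63.QuotLiftRel
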