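import Groth.Agent.FlatMisc.FibreDimScheme
import Groth.Agent.S2768
import Groth.Agent.CurveDVR.Stalk
import Mathlib.AlgebraicGeometry.AlgClosed.Basic

/-!
# Relative dimension and the Zariski tangent space at a rational point
-/

set_option autoImplicit false
set_option linter.style.haveILetI false
universe u

open CategoryTheory CategoryTheory.Limits AlgebraicGeometry
open Groth.Agent

noncomputable section

namespace Groth.Agent.Helper63.QuotRelDim

theorem ringKrullDim_stalk_smooth (k : Type u) [Field k] {X : Scheme.{u}} [X.Over (Spec (CommRingCat.of k))]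
    {n : ℕ} [SmoothOfRelativeDimension n (X ↘ Spec (CommRingCat.of k))]
    (x : X) : ∃ a b : ℕ, ringKrullDim (X.presheaf.stalk x) = a ∧ Order.height x = b ∧ a + b = n := by
  let f := X ↘ Spec (CommRingCat.of k)
  have h := S2768.result n f x
  rw [FlatMisc.FibreDimScheme.fibreDimAt_eq] at h
  have hu : (f ⁻¹' {f x}) = Set.univ := Set.eq_univ_of_forall fun y =>
    show f y = f x from Subsingleton.elim (α := PrimeSpectrum k) _ _
  let e : ↥(f ⁻¹' {f x}) ≃ₜ X := (Homeomorph.setCongr hu).trans (Homeomorph.Set.univ X)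
  have hl : FlatMor.localDim X x = (n : WithBot ℕ∞) := le_antisymm
    ((FlatMisc.FibreDimScheme.localDim_homeo e ⟨x, rfl⟩).trans_eq h)
    (h.symm.trans_le (FlatMisc.FibreDimScheme.localDim_homeo e.symm x))
  haveI : Smooth (X ↘ Spec (CommRingCat.of k)) :=
    SmoothOfRelativeDimension.smooth (n := n) (X ↘ Spec (CommRingCat.of k))
  obtain ⟨c, hc, hld⟩ := VarDim.localDim_eq_coheight_add k x
  rw [hl] at hld
  refine ⟨c, VarDim.dimPt k X x, ?_, VarDim.height_eq_dimPt k x, by exact_mod_cast hld.symm⟩
  rw [ringKrullDim_stalk_eq_coheight, hc]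
  rfl

/-- A smooth morphism has a constant relative dimension near each point. -/
theorem exists_relDim_nhd {X Y : Scheme.{u}} (f : X ⟶ Y) [Smooth f] (y : X) :
    ∃ (n : ℕ) (V : X.Opens), y ∈ V ∧ SmoothOfRelativeDimension n (V.ι ≫ f) := by
  obtain ⟨U, hU, V, hV, hy, e, hf⟩ := Smooth.exists_isStandardSmooth f y
  algebraize [(f.appLE U V e).hom]
  haveI : Algebra.IsStandardSmooth Γ(Y, U) Γ(X, V) := hf
  obtain ⟨_, _, _, _, ⟨P⟩⟩ := (inferInstance : Algebra.IsStandardSmooth Γ(Y, U) Γ(X, V))
  have hn : RingHom.IsStandardSmoothOfRelativeDimension P.dimension (f.appLE U V e).hom :=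
    P.isStandardSmoothOfRelativeDimension rfl
  refine ⟨P.dimension, V, hy, ?_⟩
  haveI : IsAffine (V : Scheme.{u}) := hV
  haveI : IsAffine (U : Scheme.{u}) := hU
  haveI : SmoothOfRelativeDimension P.dimension (f.resLE U V e) := by
    rw [HasRingHomProperty.iff_of_isAffine (P := @SmoothOfRelativeDimension P.dimension)]
    refine ((RingHom.locally_respectsIso
      RingHom.isStandardSmoothOfRelativeDimension_respectsIso).arrow_mk_iso_iff
        (arrowResLEAppIso f U V e)).mpr ?_
    exact RingHom.locally_of RingHom.isStandardSmoothOfRelativeDimension_respectsIso _ hn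
  have h0 : SmoothOfRelativeDimension (P.dimension + 0) (f.resLE U V e ≫ U.ι) := inferInstance
  rw [Scheme.Hom.resLE_comp_ι] at h0
  exact h0

/-- At a rational point of a smooth scheme of dimension `n`, the tangent space has dimension `n`. -/
theorem finrank_cotangent {k : Type u} [Field k] [IsAlgClosed k] {P : Scheme.{u}}
    (f : P ⟶ Spec (CommRingCat.of k)) (n : ℕ) [SmoothOfRelativeDimension n f]
    (p : Spec (CommRingCat.of k) ⟶ P) (hp : p ≫ f = 𝟙 _) :
    Module.finrank (IsLocalRing.ResidueField (P.presheaf.stalk (p.base (IsLocalRing.closedPoint k))))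
      (IsLocalRing.CotangentSpace (P.presheaf.stalk (p.base (IsLocalRing.closedPoint k)))) = n := by
  letI : P.Over (Spec (CommRingCat.of k)) := ⟨f⟩
  haveI : SmoothOfRelativeDimension n (P ↘ Spec (CommRingCat.of k)) := ‹SmoothOfRelativeDimension n f›
  haveI : Smooth f := SmoothOfRelativeDimension.smooth n f
  let y := p.base (IsLocalRing.closedPoint k)
  obtain ⟨a, b, ha, hb, hab⟩ := ringKrullDim_stalk_smooth k (n := n) y
  have hcl : IsClosed ({y} : Set P) := ((pointEquivClosedPoint f) ⟨p, hp⟩).2
  have hmin : IsMin y := fun z (hz : z ≤ y) => by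
    have h1 := hcl.closure_eq ▸ specializes_iff_mem_closure.1 hz
    exact (Set.mem_singleton_iff.1 h1).ge
  rw [Order.height_eq_zero.2 hmin] at hb
  have hb0 : b = 0 := by exact_mod_cast hb.symm
  haveI hreg : IsRegularLocalRing (P.presheaf.stalk y) := CurveDVR.isRegularLocalRing_stalk f y
  have h2 := (IsRegularLocalRing.iff_finrank_cotangentSpace _).1 hreg
  rw [ha] at h2
  have h3 : Module.finrank (IsLocalRing.ResidueField (P.presheaf.stalk y))
      (IsLocalRing.CotangentSpace (P.presheaf.stalk y)) = a := by exact_mod_cast h2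
  exact h3.trans (by omega)

end Groth.Agent.Helper63.QuotRelDim
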