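import Groth.Agent.Helper63.QuotSmooth
import Groth.Agent.Helper63.QuotFT
import Groth.Agent.TwistFlat.RelAmpleClosed

/-!
# An open smooth neighbourhood
-/

set_option autoImplicit false
set_option linter.style.haveILetI false
universe u

open CategoryTheory CategoryTheory.Limits AlgebraicGeometry
open Groth.Agent

noncomputable section

namespace Groth.Agent.Helper63.QuotSmooth

theorem exists_open_smooth {k : Type u} [Field k] {S : Scheme.{u}} (σ : S ⟶ Spec (CommRingCat.of k))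
    [LocallyOfFiniteType σ] {X : Scheme.{u}} (x : X ⟶ S)
    (hproj : ∃ (n : ℕ) (c : X ⟶ CohB1.ProjSpaceOver n S), IsClosedImmersion c ∧ c ≫ CohB1.ProjSpaceOver.toBase n S = x)
    {H : X.Modules} (hH : Coh.IsCoh H) (hHflat : FlatMod.IsFlatOver x H)
    (Q : Over S) (Ku : FGA.QuotSet x H Q) (hQ : FGA.QuotRepresentedBy x H Q Ku)
    (s : Spec (CommRingCat.of k) ⟶ S) (hs : s ≫ σ = 𝟙 _)
    (K₀ : FGA.QuotSet x H (Over.mk s)) (g : Over.mk s ⟶ Q) (hg : FGA.quotPull x H g Ku.1 = K₀.1)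
    [HasExt.{u} (PicF.XT x (Over.mk s)).Modules]
    (hExt : Subsingleton (Abelian.Ext.{u} (Subobject.underlying.obj K₀.1) (cokernel K₀.1.arrow) 1)) :
    ∃ U : Q.left.Opens, g.left.base (IsLocalRing.closedPoint k) ∈ U ∧ Smooth (U.ι ≫ Q.hom) := by
  haveI : IsLocallyNoetherian Q.left := hQ.1
  haveI : IsLocallyNoetherian S := LocallyOfFiniteType.isLocallyNoetherian σ
  obtain ⟨n, c, hc, hcx⟩ := hproj
  haveI := hc
  haveI : IsProper x := by
    rw [← hcx]
    exact TwistFlat.isProper_projSub n c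
  haveI := QuotFT.locallyOfFiniteType x hH Q Ku hQ
  haveI : LocallyOfFinitePresentation Q.hom := inferInstance
  refine ⟨Q.hom.smoothLocus, mem_smoothLocus σ x hH hHflat Q Ku hQ s hs K₀ g hg hExt, ?_⟩
  rw [← Scheme.Hom.smoothLocus_eq_top_iff, ← Scheme.Hom.preimage_smoothLocus_eq]
  exact Scheme.Opens.ι_preimage_self _

end Groth.Agent.Helper63.QuotSmooth
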