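import Groth.Agent.Helper63.QuotRelPoint
import Groth.Agent.Helper63.QuotRelDim
import Groth.Agent.Helper63.QuotSmoothFinal

/-!
# The relative dimension of a Quot scheme at an unobstructed point
-/

set_option autoImplicit false
set_option linter.style.haveILetI false
set_option backward.isDefEq.respectTransparency false
universe u

open CategoryTheory CategoryTheory.Limits AlgebraicGeometry
open ArtFun
open Groth.Agent Groth.Agent.Helper63.QuotLiftRel

noncomputable section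

namespace Groth.Agent.Helper63.QuotTangentRel

variable {k : Type u} [Field k] {S X : Scheme.{u}} (x : X ⟶ S) [LocallyOfFiniteType x]
  (H : X.Modules) (hH : Coh.IsCoh H) (hHflat : FlatMod.IsFlatOver x H)
  (Q : Over S) [LocallyOfFiniteType Q.hom] (Ku : FGA.QuotSet x H Q) (hQ : FGA.QuotRepresentedBy x H Q Ku)

theorem sA_base_comp (s : Spec (CommRingCat.of k) ⟶ S) : sA (Art.base k k) ≫ s = s := by
  have h : sA (Art.base k k) = 𝟙 (Spec (CommRingCat.of k)) := by
    show Spec.map (CommRingCat.ofHom (RingHom.id k)) = _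
    rw [CommRingCat.ofHom_id]
    exact Spec.map_id _
  rw [h]
  exact Category.id_comp s

include hH hHflat hQ in
theorem tangent_rel' (V : Q.left.Opens) (s : Spec (CommRingCat.of k) ⟶ S)
    (K₀ : FGA.QuotSet x H (Over.mk s)) (g : Over.mk s ⟶ Q) (hg : FGA.quotPull x H g Ku.1 = K₀.1)
    (p : Spec (CommRingCat.of k) ⟶ pullback (V.ι ≫ Q.hom) s)
    (hp : p ≫ pullback.snd (V.ι ≫ Q.hom) s = 𝟙 _)
    (hpg : p ≫ pullback.fst (V.ι ≫ Q.hom) s ≫ V.ι = g.left) :
    Module.finrank
        (IsLocalRing.ResidueField ((pullback (V.ι ≫ Q.hom) s).presheaf.stalk (p.base (IsLocalRing.closedPoint k))))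
        (IsLocalRing.CotangentSpace ((pullback (V.ι ≫ Q.hom) s).presheaf.stalk (p.base (IsLocalRing.closedPoint k)))) =
      (letI : (PicF.XT x (Over.mk s)).Over (Spec (CommRingCat.of k)) := ⟨PicF.XTproj x (Over.mk s)⟩
      Module.finrank k (Subobject.underlying.obj K₀.1 ⟶ cokernel K₀.1.arrow)) := by
  suffices aux : ∀ f : Spec (CommRingCat.of k) ⟶ S, f = sA (Art.base k k) ≫ s →
      ∀ (K₀ : FGA.QuotSet x H (Over.mk f)) (g : Over.mk f ⟶ Q), FGA.quotPull x H g Ku.1 = K₀.1 →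
      p ≫ pullback.fst (V.ι ≫ Q.hom) s ≫ V.ι = g.left →
      Module.finrank
        (IsLocalRing.ResidueField ((pullback (V.ι ≫ Q.hom) s).presheaf.stalk (p.base (IsLocalRing.closedPoint k))))
        (IsLocalRing.CotangentSpace ((pullback (V.ι ≫ Q.hom) s).presheaf.stalk (p.base (IsLocalRing.closedPoint k)))) =
      (letI : (PicF.XT x (Over.mk f)).Over (Spec (CommRingCat.of k)) := ⟨PicF.XTproj x (Over.mk f)⟩
      Module.finrank k (Subobject.underlying.obj K₀.1 ⟶ cokernel K₀.1.arrow)) from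
    aux s (sA_base_comp s).symm K₀ g hg hpg
  rintro f rfl K₀ g hg hpg
  exact tangent_rel x H hH hHflat Q Ku hQ V s g K₀ hg p hp hpg

end Groth.Agent.Helper63.QuotTangentRel

namespace Groth.Agent.Helper63.QuotSmooth

theorem exists_open_smooth_relDim {k : Type u} [Field k] [IsAlgClosed k] {S : Scheme.{u}}
    (σ : S ⟶ Spec (CommRingCat.of k))
    [LocallyOfFiniteType σ] {X : Scheme.{u}} (x : X ⟶ S)
    (hproj : ∃ (n : ℕ) (c : X ⟶ CohB1.ProjSpaceOver n S), IsClosedImmersion c ∧ c ≫ CohB1.ProjSpaceOver.toBase n S = x)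
    {H : X.Modules} (hH : Coh.IsCoh H) (hHflat : FlatMod.IsFlatOver x H)
    (Q : Over S) (Ku : FGA.QuotSet x H Q) (hQ : FGA.QuotRepresentedBy x H Q Ku)
    (s : Spec (CommRingCat.of k) ⟶ S) (hs : s ≫ σ = 𝟙 _)
    (K₀ : FGA.QuotSet x H (Over.mk s)) (g : Over.mk s ⟶ Q) (hg : FGA.quotPull x H g Ku.1 = K₀.1)
    [HasExt.{u} (PicF.XT x (Over.mk s)).Modules]
    (hExt : Subsingleton (Abelian.Ext.{u} (Subobject.underlying.obj K₀.1) (cokernel K₀.1.arrow) 1)) :
    ∃ U : Q.left.Opens, g.left.base (IsLocalRing.closedPoint k) ∈ U ∧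
      SmoothOfRelativeDimension
        (letI : (PicF.XT x (Over.mk s)).Over (Spec (CommRingCat.of k)) := ⟨PicF.XTproj x (Over.mk s)⟩
        Module.finrank k (Subobject.underlying.obj K₀.1 ⟶ cokernel K₀.1.arrow))
        (U.ι ≫ Q.hom) := by
  haveI : IsLocallyNoetherian Q.left := hQ.1
  haveI : IsLocallyNoetherian S := LocallyOfFiniteType.isLocallyNoetherian σ
  obtain ⟨U, hqU, hU⟩ := exists_open_smooth σ x hproj hH hHflat Q Ku hQ s hs K₀ g hg hExt
  haveI := hU
  obtain ⟨n', c, hc, hcx⟩ := hproj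
  haveI := hc
  haveI : IsProper x := by
    rw [← hcx]
    exact TwistFlat.isProper_projSub n' c
  haveI := QuotFT.locallyOfFiniteType x hH Q Ku hQ
  obtain ⟨n, V, hqV, hV⟩ := QuotRelDim.exists_relDim_nhd (U.ι ≫ Q.hom) ⟨_, hqU⟩
  let W : Q.left.Opens := U.ι ''ᵁ V
  have hW : W.ι ≫ Q.hom = (U.ι.isoImage V).inv ≫ V.ι ≫ U.ι ≫ Q.hom := by
    rw [← Category.assoc, ← Category.assoc, Category.assoc _ V.ι, Scheme.Hom.isoImage_inv_ι]
  haveI hWs : SmoothOfRelativeDimension n (W.ι ≫ Q.hom) := by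
    rw [hW]
    have h0 : SmoothOfRelativeDimension (0 + n) ((U.ι.isoImage V).inv ≫ V.ι ≫ U.ι ≫ Q.hom) :=
      inferInstance
    rwa [Nat.zero_add] at h0
  have hqW : g.left.base (IsLocalRing.closedPoint k) ∈ W := ⟨⟨_, hqU⟩, hqV, rfl⟩
  refine ⟨W, hqW, ?_⟩
  have hrange : Set.range g.left.base ⊆ Set.range W.ι.base := by
    rintro _ ⟨w, rfl⟩
    rw [Scheme.Opens.range_ι, show w = IsLocalRing.closedPoint k from QuotStalk.eq_of_artinian (R := k) _ _]
    exact hqW
  let gW := IsOpenImmersion.lift W.ι g.left hrange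
  have hgW : gW ≫ W.ι = g.left := IsOpenImmersion.lift_fac _ _ _
  let p : Spec (CommRingCat.of k) ⟶ pullback (W.ι ≫ Q.hom) s := pullback.lift gW (𝟙 _) (by
    rw [Category.id_comp, ← Category.assoc, hgW]
    exact Over.w g)
  haveI := smoothOfRelativeDimension_isStableUnderBaseChange.{u} n
  haveI : SmoothOfRelativeDimension n (pullback.snd (W.ι ≫ Q.hom) s) :=
    MorphismProperty.of_isPullback (P := @SmoothOfRelativeDimension n)
      (IsPullback.of_hasPullback (W.ι ≫ Q.hom) s) hWs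
  have h1 := QuotRelDim.finrank_cotangent (pullback.snd (W.ι ≫ Q.hom) s) n p (pullback.lift_snd _ _ _)
  have h2 := QuotTangentRel.tangent_rel' x H hH hHflat Q Ku hQ W s K₀ g hg p (pullback.lift_snd _ _ _)
    ((pullback.lift_fst_assoc _ _ _ _).trans hgW)
  rw [← h2, h1]
  exact hWs

end Groth.Agent.Helper63.QuotSmooth
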