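import Groth.Agent.Helper63.QuotTangentRel
import Groth.Agent.HilbLoc.Moduli
import Groth.Agent.HilbLoc.ModuliDim

/-!
# The tangent space of the fibre of a Quot scheme at a rational point
-/

set_option autoImplicit false
set_option linter.style.haveILetI false
set_option backward.isDefEq.respectTransparency false
universe u

open CategoryTheory CategoryTheory.Limits AlgebraicGeometry
open ArtFun
open Groth.Agent Groth.Agent.HilbLoc Groth.Agent.Helper63.QuotStalk Groth.Agent.Helper63.QuotLiftRel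

noncomputable section

namespace Groth.Agent.Helper63.QuotTangentRel

variable {k : Type u} [Field k] {S X : Scheme.{u}} (x : X ⟶ S) [LocallyOfFiniteType x]
  (H : X.Modules) (hH : Coh.IsCoh H) (hHflat : FlatMod.IsFlatOver x H)
  (Q : Over S) [LocallyOfFiniteType Q.hom] (Ku : FGA.QuotSet x H Q) (hQ : FGA.QuotRepresentedBy x H Q Ku)
  (V : Q.left.Opens)

attribute [local instance] Moduli.algO

include hH hHflat hQ in
set_option maxHeartbeats 1000000 in
theorem tangent_rel (s : Spec (CommRingCat.of k) ⟶ S)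
    (g₀ : T (⟨S, x, s⟩ : QuotLiftRel.Rel k X) (Art.base k k) ⟶ Q)
    (K₀ : FGA.QuotSet x H (T (⟨S, x, s⟩ : QuotLiftRel.Rel k X) (Art.base k k)))
    (hg : FGA.quotPull x H g₀ Ku.1 = K₀.1)
    (p : Spec (CommRingCat.of k) ⟶ pullback (V.ι ≫ Q.hom) s)
    (hp : p ≫ pullback.snd (V.ι ≫ Q.hom) s = 𝟙 _)
    (hpg : p ≫ pullback.fst (V.ι ≫ Q.hom) s ≫ V.ι = g₀.left) :
    Module.finrank
        (IsLocalRing.ResidueField ((pullback (V.ι ≫ Q.hom) s).presheaf.stalk (p.base (IsLocalRing.closedPoint k))))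
        (IsLocalRing.CotangentSpace ((pullback (V.ι ≫ Q.hom) s).presheaf.stalk (p.base (IsLocalRing.closedPoint k)))) =
      @Module.finrank k ((K₀.1 : (XA (⟨S, x, s⟩ : QuotLiftRel.Rel k X) (Art.base k k)).Modules) ⟶ cokernel K₀.1.arrow) _ _
        (@KLin.homModule k _ (XA (⟨S, x, s⟩ : QuotLiftRel.Rel k X) (Art.base k k))
          (overA (⟨S, x, s⟩ : QuotLiftRel.Rel k X) (Art.base k k)) _ _) := by
  let xr : QuotLiftRel.Rel k X := ⟨S, x, s⟩
  haveI : LocallyOfFiniteType xr.hom := ‹LocallyOfFiniteType x›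
  let P : Over (Spec (CommRingCat.of k)) := Over.mk (pullback.snd (V.ι ≫ Q.hom) s)
  haveI : IsLocallyNoetherian P.left :=
    LocallyOfFiniteType.isLocallyNoetherian (pullback.snd (V.ι ≫ Q.hom) s)
  let h : Over.mk (𝟙 (Spec (CommRingCat.of k))) ⟶ P := Over.homMk p hp
  change Module.finrank (IsLocalRing.ResidueField (Moduli.O h))
    (IsLocalRing.CotangentSpace (Moduli.O h)) = _
  haveI : IsNoetherianRing (Moduli.O h) := inferInstance
  obtain ⟨TR⟩ := ArtFunLib.nonempty_tangentStr (hR (Moduli.O h) (Moduli.resO h))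
    (ArtFunLib.h0_hR _ _) (fun _ _ _ _ hs => ArtFunLib.isLeftExact_hR _ _ _ _ _ _ hs)
  letI := TR
  rw [← ModuliDim.finrank_tangentSpace_hR (Moduli.resO h) (Moduli.mem_maximalIdeal_O h)]
  haveI hT : ∀ A : Art k k, IsLocallyNoetherian (T xr A).left := fun A =>
    haveI : IsNoetherianRing (CommRingCat.of A) := inferInstanceAs (IsNoetherianRing A)
    inferInstanceAs (IsLocallyNoetherian (Spec (CommRingCat.of A)))
  let toQ : ∀ {A : Art k k}, (Moduli.aSpec A ⟶ P) → (T xr A ⟶ Q) := fun {A} t =>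
    Over.homMk (t.left ≫ pullback.fst (V.ι ≫ Q.hom) s ≫ V.ι) (by
      show (_ ≫ _ ≫ _) ≫ Q.hom = sA A ≫ s
      rw [Category.assoc, Category.assoc, pullback.condition, ← Category.assoc]
      exact congrArg (· ≫ s) (Over.w t))
  have hred : ∀ {A : Art k k} (t : Moduli.aSpec A ⟶ P), Moduli.aRes A ≫ t = h →
      gA xr (Art.toBase A) ≫ toQ t = g₀ := fun {A} t ht => Over.OverMorphism.ext (by
    show Art.specRes A ≫ t.left ≫ _ = g₀.left
    rw [← Category.assoc, show Art.specRes A ≫ t.left = p from congrArg CommaMorphism.left ht]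
    exact hpg)
  let Se := theSetting xr H hHflat
  let fam : ∀ B : Art k k, HomSet (Moduli.O h) (Moduli.resO h) B → Subobject (Se.G B) :=
    fun B φ => FGA.quotPull x H (toQ (Moduli.pt h φ)) Ku.1
  have hnat : ∀ {B A : Art k k} (f : B ⟶ A) (φ : HomSet (Moduli.O h) (Moduli.resO h) B),
      Se.pull f (fam B φ) = fam A (HomSet.map f φ) := fun {B A} f φ =>
    (QuotComp.quotPull_comp x H (toQ (Moduli.pt h φ)) (gA xr f) Ku.1).trans
      (congrArg (fun t : T xr A ⟶ Q => FGA.quotPull x H t Ku.1) (Over.OverMorphism.ext (by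
        show Art.specMap f ≫ (Moduli.pt h φ).left ≫ _ = (Moduli.pt h (HomSet.map f φ)).left ≫ _
        rw [← Category.assoc]
        exact congrArg (· ≫ pullback.fst (V.ι ≫ Q.hom) s ≫ V.ι)
          (congrArg CommaMorphism.left (Moduli.aMap_pt h f φ)))))
  have hmem : ∀ (B : Art k k) (φ : HomSet (Moduli.O h) (Moduli.resO h) B),
      Se.IsFam K₀.1 (fam B φ) := fun B φ =>
    ⟨(QuotComp.quotPull_mem x H (toQ (Moduli.pt h φ)) Ku).2,
      (QuotComp.quotPull_comp x H (toQ (Moduli.pt h φ)) (gA xr (Art.toBase B)) Ku.1).trans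
        ((congrArg (fun t : T xr (Art.base k k) ⟶ Q => FGA.quotPull x H t Ku.1)
          (hred (Moduli.pt h φ) (Moduli.aRes_pt h φ))).trans hg)⟩
  have hinj : Function.Injective (fam (Art.dual k k)) := fun φ ψ e => by
    obtain ⟨t, -, ht⟩ := hQ.2 (T xr (Art.dual k k))
      ⟨fam _ φ, QuotComp.quotPull_mem x H (toQ (Moduli.pt h φ)) Ku⟩
    have h1 : toQ (Moduli.pt h φ) = toQ (Moduli.pt h ψ) := (ht _ rfl).trans (ht _ e.symm).symm
    refine Moduli.pt_injective h (Over.OverMorphism.ext (pullback.hom_ext ?_ ?_))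
    · rw [← cancel_mono V.ι, Category.assoc, Category.assoc]
      exact congrArg CommaMorphism.left h1
    · exact (Over.w (Moduli.pt h φ)).trans (Over.w (Moduli.pt h ψ)).symm
  have hGc := QuotFinalRel.isCoh_ET xr H hH (Art.dual k k)
  have hsurj : ∀ P' : Subobject (Se.G (Art.dual k k)), Se.IsFam K₀.1 P' →
      (P' : (XA xr (Art.dual k k)).Modules).IsQuasicoherent → ∃ φ, fam (Art.dual k k) φ = P' := by
    intro P' hP hPq
    obtain ⟨t, ht, -⟩ := hQ.2 (T xr (Art.dual k k))
      ⟨P', CohDev.isCoh_cokernel P'.arrow hPq hGc, hP.flat⟩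
    obtain ⟨t₀, -, ht₀⟩ := hQ.2 (T xr (Art.base k k)) K₀
    have h0 : gA xr (Art.toBase (Art.dual k k)) ≫ t = g₀ := by
      refine (ht₀ _ ?_).trans (ht₀ g₀ hg).symm
      beta_reduce
      rw [← QuotComp.quotPull_comp, ht]
      exact hP.red
    have h0' : Art.specRes (Art.dual k k) ≫ t.left = g₀.left := congrArg CommaMorphism.left h0
    have hrange : Set.range t.left.base ⊆ Set.range V.ι.base := by
      rintro _ ⟨w, rfl⟩
      let z : Spec (CommRingCat.of k) := IsLocalRing.closedPoint k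
      refine ⟨(p ≫ pullback.fst (V.ι ≫ Q.hom) s).base z, ?_⟩
      rw [show w = (Art.specRes (Art.dual k k)).base z from
        QuotStalk.eq_of_artinian (R := Art.dual k k) _ _]
      show ((p ≫ pullback.fst (V.ι ≫ Q.hom) s) ≫ V.ι).base z = (Art.specRes _ ≫ t.left).base z
      rw [Category.assoc, hpg, h0']
    let l := IsOpenImmersion.lift V.ι t.left hrange
    have hl : l ≫ V.ι = t.left := IsOpenImmersion.lift_fac _ _ _
    let t' : Moduli.aSpec (Art.dual k k) ⟶ P :=
      Over.homMk (pullback.lift l (Art.specOver (Art.dual k k)) (by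
        rw [← Category.assoc, hl]
        exact Over.w t)) (pullback.lift_snd _ _ _)
    have ht' : Moduli.aRes (Art.dual k k) ≫ t' = h := by
      refine Over.OverMorphism.ext (pullback.hom_ext ?_ ?_)
      · rw [← cancel_mono V.ι]
        show ((Art.specRes _ ≫ pullback.lift _ _ _) ≫ _) ≫ V.ι = (p ≫ _) ≫ V.ι
        rw [Category.assoc (Art.specRes _), pullback.lift_fst, Category.assoc, hl, h0', Category.assoc,
          hpg]
      · exact (Over.w (Moduli.aRes (Art.dual k k) ≫ t')).trans (Over.w h).symm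
    obtain ⟨φ, hφ⟩ := Moduli.exists_pt h t' ht'
    refine ⟨φ, (congrArg (fun u => FGA.quotPull x H (toQ u) Ku.1) hφ).trans ?_⟩
    refine Eq.trans (congrArg (fun u => FGA.quotPull x H u Ku.1) ?_) ht
    exact Over.OverMorphism.ext (by
      show pullback.lift _ _ _ ≫ pullback.fst _ _ ≫ V.ι = t.left
      rw [pullback.lift_fst_assoc, hl])
  obtain ⟨e, he, hadd, hsmul⟩ := Setting.exists_tangent_equiv Se K₀.1 (Moduli.resO h) hGc
    (isQCoh_push x (gA xr (Art.toBase (Art.dual k k))) (closed_toBase xr _) _ K₀.2.1.1)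
    fam hnat hmem hinj hsurj
  letI inst : Module k ((K₀.1 : (XA xr (Art.base k k)).Modules) ⟶ cokernel K₀.1.arrow) :=
    @KLin.homModule k _ (XA xr (Art.base k k)) (overA xr (Art.base k k))
    (K₀.1 : (XA xr (Art.base k k)).Modules) (cokernel K₀.1.arrow)
  let l : TangentSpace (hR (Moduli.O h) (Moduli.resO h)) →ₗ[k]
      ((K₀.1 : (XA xr (Art.base k k)).Modules) ⟶ cokernel K₀.1.arrow) :=
    { toFun := e
      map_add' := hadd
      map_smul' := fun a u => (hsmul a u).trans (by
        rw [mulB_base_eq]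
        rfl) }
  exact (LinearEquiv.ofBijective l he).finrank_eq

end Groth.Agent.Helper63.QuotTangentRel
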