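import Groth.Agent.S2060
import Groth.Prelude.Def_ArtFun

/-!
# Smoothness at a rational point and Artinian algebras with the same residue field
-/

set_option autoImplicit false
set_option linter.style.haveILetI false
universe u

open ArtFun CategoryTheory

noncomputable section

namespace Groth.Agent.Helper63.QuotSmAlg

/-- Smoothness at a rational point can be tested on Artinian algebras with the same residue field. -/
theorem isSmoothAt_of_art {R A k : Type u} [CommRing R] [IsNoetherianRing R] [CommRing A]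
    [Algebra R A] [Algebra.FiniteType R A] [Field k] [Algebra R k] (ε : A →ₐ[R] k)
    (hε : Function.Surjective ε) (q : Ideal A) [q.IsPrime] (hq : RingHom.ker ε.toRingHom = q)
    (h : ∀ (B C : Art R k) (p : B ⟶ C), Function.Surjective p → ∀ g : A →ₐ[R] C, C.res.comp g = ε →
      ∃ g' : A →ₐ[R] B, p.toAlgHom.comp g' = g) : Algebra.IsSmoothAt R q := by
  classical
  rw [S2060.result q]
  intro B' B _ _ _ _ _ _ _ _ π hπ _ g hg
  obtain ⟨s, hs⟩ := (Algebra.FiniteType.out : (⊤ : Subalgebra R A).FG)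
  choose l hl using hπ
  let gen : Set B' := (fun a => l (g a)) '' (s : Set A)
  let B₂ := Algebra.adjoin R gen
  let C₂ : Subalgebra R B := g.range
  have himg : ∀ b : B₂, π b ∈ C₂ := by
    intro b
    have hle : B₂ ≤ C₂.comap π := Algebra.adjoin_le (by
      rintro _ ⟨a, -, rfl⟩
      exact ⟨a, (hl (g a)).symm⟩)
    exact hle b.2
  let π₂ : B₂ →ₐ[R] C₂ := (π.comp B₂.val).codRestrict C₂ himg
  have hπ₂ : Function.Surjective π₂ := by
    rintro ⟨c, a, rfl⟩
    have hle : (⊤ : Subalgebra R A) ≤ (B₂.map π).comap g := by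
      rw [← hs]
      exact Algebra.adjoin_le fun a' ha' =>
        ⟨l (g a'), Algebra.subset_adjoin ⟨a', ha', rfl⟩, hl (g a')⟩
    obtain ⟨b, hb, hb'⟩ := hle (Algebra.mem_top : a ∈ (⊤ : Subalgebra R A))
    exact ⟨⟨b, hb⟩, Subtype.ext hb'⟩
  let g₂ : A →ₐ[R] C₂ := g.rangeRestrict
  have hg₂ : Function.Surjective g₂ := g.rangeRestrict_surjective
  -- the residue map on the image
  have hk : ∀ c : C₂, ∃! y : k, ∀ a : A, g₂ a = c → ε a = y := by
    intro c
    obtain ⟨a, rfl⟩ := hg₂ c
    refine ⟨ε a, fun a' ha' => ?_, fun y hy => (hy a rfl).symm⟩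
    have h0 : a' - a ∈ RingHom.ker ε.toRingHom := by
      rw [hq, ← hg]
      have h1 : g (a' - a) = 0 := by
        have h2 : g a' = g a := congrArg Subtype.val ha'
        rw [map_sub, h2, sub_self]
      show g (a' - a) ∈ IsLocalRing.maximalIdeal B
      rw [h1]
      exact Ideal.zero_mem _
    rw [RingHom.mem_ker] at h0
    exact sub_eq_zero.1 ((map_sub ε a' a).symm.trans h0)
  choose r hr _ using hk
  have hr' : ∀ a, r (g₂ a) = ε a := fun a => (hr (g₂ a) a rfl).symm
  let ρ : C₂ →ₐ[R] k :=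
    { toFun := r
      map_one' := by rw [← map_one g₂, hr', map_one]
      map_mul' := fun c d => by
        obtain ⟨a, rfl⟩ := hg₂ c
        obtain ⟨b, rfl⟩ := hg₂ d
        rw [← map_mul, hr', hr', hr', map_mul]
      map_zero' := by rw [← map_zero g₂, hr', map_zero]
      map_add' := fun c d => by
        obtain ⟨a, rfl⟩ := hg₂ c
        obtain ⟨b, rfl⟩ := hg₂ d
        rw [← map_add, hr', hr', hr', map_add]
      commutes' := fun t => by
        show r (algebraMap R C₂ t) = _
        rw [← g₂.commutes t, hr', AlgHom.commutes] }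
  have hρ : ∀ a, ρ (g₂ a) = ε a := hr'
  have hρs : Function.Surjective ρ := fun y => by
    obtain ⟨a, ha⟩ := hε y
    exact ⟨g₂ a, (hρ a).trans ha⟩
  -- the elements outside of the kernel of the residue map are units
  have hmem : ∀ c : C₂, ρ c = 0 ↔ (c : B) ∈ IsLocalRing.maximalIdeal B := by
    intro c
    obtain ⟨a, rfl⟩ := hg₂ c
    rw [hρ, show ((g₂ a : C₂) : B) = g a from rfl]
    conv_rhs => rw [← Ideal.mem_comap (f := g), hg, ← hq, RingHom.mem_ker]
    rfl
  let res₂ : B₂ →ₐ[R] k := ρ.comp π₂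
  have hres₂ : Function.Surjective res₂ := hρs.comp hπ₂
  let P : Ideal B₂ := RingHom.ker res₂.toRingHom
  have hPnil : ∀ b ∈ P, IsNilpotent b := by
    intro b hb
    have h1 : ((π₂ b : C₂) : B) ∈ IsLocalRing.maximalIdeal B := (hmem _).1 hb
    have h2 : (b : B') ∈ IsLocalRing.maximalIdeal B' := by
      rw [IsLocalRing.mem_maximalIdeal]
      intro hu
      exact (IsLocalRing.mem_maximalIdeal _).1 h1 (hu.map π)
    obtain ⟨n, hn⟩ := IsArtinianRing.isNilpotent_jacobson_bot (R := B')
    have h3 : (b : B') ^ n = 0 := by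
      have : (b : B') ^ n ∈ (⊥ : Ideal B').jacobson ^ n := by
        rw [IsLocalRing.jacobson_eq_maximalIdeal _ bot_ne_top]
        exact Ideal.pow_mem_pow h2 n
      rw [hn] at this
      exact this
    exact ⟨n, Subtype.ext h3⟩
  haveI hPmax : P.IsMaximal := RingHom.ker_isMaximal_of_surjective _ hres₂
  have hPuniq : ∀ J : Ideal B₂, J.IsPrime → J = P := fun J hJ =>
    (hPmax.eq_of_le hJ.ne_top fun b hb => by
      obtain ⟨n, hn⟩ := hPnil b hb
      refine hJ.mem_of_pow_mem n ?_
      rw [hn]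
      exact J.zero_mem).symm
  haveI : IsLocalRing B₂ :=
    IsLocalRing.of_unique_max_ideal ⟨P, hPmax, fun J hJ => hPuniq J hJ.isPrime⟩
  haveI : Algebra.FiniteType R B₂ :=
    ⟨(Subalgebra.fg_top _).2 ⟨s.image (fun a => l (g a)), by rw [Finset.coe_image]⟩⟩
  haveI : IsNoetherianRing B₂ := Algebra.FiniteType.isNoetherianRing R B₂
  haveI : Ring.KrullDimLE 0 B₂ := Ring.KrullDimLE.mk₀ fun J hJ => by rw [hPuniq J hJ]; exact hPmax
  haveI : IsArtinianRing B₂ := IsNoetherianRing.isArtinianRing_of_krullDimLE_zero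
  haveI : Nontrivial C₂ := ⟨⟨0, 1, fun h0 => zero_ne_one (α := k) (by simpa using congrArg ρ h0)⟩⟩
  haveI : IsLocalRing C₂ := IsLocalRing.of_surjective' π₂.toRingHom hπ₂
  haveI : IsArtinianRing C₂ := Function.Surjective.isArtinianRing (f := π₂.toRingHom) hπ₂
  let BB : Art R k := Art.of B₂ res₂ hres₂
  let CC : Art R k := Art.of C₂ ρ hρs
  obtain ⟨g', hg'⟩ := h BB CC (Art.homMk (A := BB) (B := CC) π₂ rfl) hπ₂ g₂ (AlgHom.ext hρ)
  refine ⟨B₂.val.comp g', AlgHom.ext fun a => ?_⟩
  exact congrArg Subtype.val (AlgHom.congr_fun hg' a)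

end Groth.Agent.Helper63.QuotSmAlg
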