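import Groth.Agent.Helper63.QuotComp
import Groth.Agent.Helper63.QuotFinalRel
import Groth.Agent.Helper63.QuotSmAlg

/-!
# Smoothness of the Quot scheme at a point with vanishing `Ext¹`
-/

set_option autoImplicit false
set_option linter.style.haveILetI false
set_option backward.isDefEq.respectTransparency false
universe u

open CategoryTheory CategoryTheory.Limits AlgebraicGeometry Opposite
open ArtFun
open Groth.Agent

noncomputable section

namespace Groth.Agent.Helper63.QuotSmooth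

open QuotLiftRel

theorem sA_base {R k : Type u} [CommRing R] [Field k] [Algebra R k] :
    QuotLiftRel.sA (Art.base R k) = Spec.map (CommRingCat.ofHom (algebraMap R k)) := rfl

theorem ext_transport {S X : Scheme.{u}} (x : X ⟶ S) {H : X.Modules} {Q : Over S}
    (Ku : FGA.QuotSet x H Q) {Z : Scheme.{u}} {f₁ f₂ : Z ⟶ S} (h : f₁ = f₂) (g : Over.mk f₁ ⟶ Q)
    (K₀ : FGA.QuotSet x H (Over.mk f₁)) (hg : FGA.quotPull x H g Ku.1 = K₀.1)
    [HasExt.{u} (PicF.XT x (Over.mk f₁)).Modules]
    (hExt : Subsingleton (Abelian.Ext.{u} (Subobject.underlying.obj K₀.1) (cokernel K₀.1.arrow) 1))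
    (g' : Over.mk f₂ ⟶ Q) (hg' : g'.left = g.left) :
    ∃ h' : HasExt.{u} (PicF.XT x (Over.mk f₂)).Modules,
      Subsingleton (@Abelian.Ext.{u} _ _ _ h' (Subobject.underlying.obj (FGA.quotPull x H g' Ku.1))
        (cokernel (FGA.quotPull x H g' Ku.1).arrow) 1) := by
  subst h
  obtain rfl : g' = g := Over.OverMorphism.ext hg'
  rw [hg]
  exact ⟨inferInstance, hExt⟩

set_option maxHeartbeats 1600000 in
/-- The projection of the Quot scheme is smooth at a rational point with vanishing `Ext¹`. -/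
theorem mem_smoothLocus {k : Type u} [Field k] {S : Scheme.{u}} (σ : S ⟶ Spec (CommRingCat.of k))
    [IsLocallyNoetherian S] {X : Scheme.{u}} (x : X ⟶ S) [LocallyOfFiniteType x]
    {H : X.Modules} (hH : Coh.IsCoh H) (hHflat : FlatMod.IsFlatOver x H)
    (Q : Over S) (Ku : FGA.QuotSet x H Q) (hQ : FGA.QuotRepresentedBy x H Q Ku)
    (s : Spec (CommRingCat.of k) ⟶ S) (hs : s ≫ σ = 𝟙 _)
    (K₀ : FGA.QuotSet x H (Over.mk s)) (g : Over.mk s ⟶ Q) (hg : FGA.quotPull x H g Ku.1 = K₀.1)
    [HasExt.{u} (PicF.XT x (Over.mk s)).Modules]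
    (hExt : Subsingleton (Abelian.Ext.{u} (Subobject.underlying.obj K₀.1) (cokernel K₀.1.arrow) 1))
    [LocallyOfFinitePresentation Q.hom] :
    g.left.base (IsLocalRing.closedPoint k) ∈ Q.hom.smoothLocus := by
  haveI : IsLocallyNoetherian Q.left := hQ.1
  let z : Spec (CommRingCat.of k) := IsLocalRing.closedPoint k
  let q := g.left.base z
  obtain ⟨_, ⟨U, hU, rfl⟩, hqU, -⟩ :=
    S.isBasis_affineOpens.exists_subset_of_mem_open (Set.mem_univ (Q.hom.base q)) isOpen_univ
  obtain ⟨_, ⟨V, hV, rfl⟩, hqV, hVU⟩ :=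
    Q.left.isBasis_affineOpens.exists_subset_of_mem_open hqU (U.2.preimage Q.hom.continuous)
  rw [Scheme.Hom.mem_smoothLocus, formallySmooth_stalkMap_iff U hU V hV hVU hqV]
  algebraize [(Q.hom.appLE U V hVU).hom]
  let R := Γ(S, U)
  let A := Γ(Q.left, V)
  haveI : IsNoetherianRing R := IsLocallyNoetherian.component_noetherian ⟨U, hU⟩
  haveI : Algebra.FiniteType R A :=
    RingHom.finiteType_algebraMap.1 (Q.hom.finiteType_appLE hU hV hVU)
  have hν : Spec.map (CommRingCat.ofHom (algebraMap R A)) ≫ hU.fromSpec = hV.fromSpec ≫ Q.hom :=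
    hU.SpecMap_appLE_fromSpec Q.hom hV hVU
  have hsp : ∀ w : Spec (CommRingCat.of k), w = z := fun w => QuotStalk.eq_of_artinian (R := k) _ _
  have hrange : Set.range g.left.base ⊆ Set.range hV.fromSpec.base := by
    rw [hV.range_fromSpec]
    rintro _ ⟨w, rfl⟩
    rw [hsp w]
    exact hqV
  let ε₀ : CommRingCat.of A ⟶ CommRingCat.of k :=
    Spec.preimage (IsOpenImmersion.lift hV.fromSpec g.left hrange)
  have hε₀ : Spec.map ε₀ ≫ hV.fromSpec = g.left := by
    rw [Spec.map_preimage]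
    exact IsOpenImmersion.lift_fac _ _ _
  algebraize [ε₀.hom.comp (algebraMap R A)]
  let ε : A →ₐ[R] k := { ε₀.hom with commutes' := fun _ => rfl }
  have hsν : Spec.map (CommRingCat.ofHom (algebraMap R k)) ≫ hU.fromSpec = s := by
    have h1 : CommRingCat.ofHom (algebraMap R k) = CommRingCat.ofHom (algebraMap R A) ≫ ε₀ := rfl
    rw [h1, Spec.map_comp, Category.assoc, hν, ← Category.assoc, hε₀]
    exact Over.w g
  have hRk : Function.Surjective (algebraMap R k) := by
    let κ : CommRingCat.of k ⟶ CommRingCat.of R := Spec.preimage (hU.fromSpec ≫ σ)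
    have h1 : κ ≫ CommRingCat.ofHom (algebraMap R k) = 𝟙 _ := by
      apply Spec.map_injective
      rw [Spec.map_comp, Spec.map_preimage, ← Category.assoc, hsν, hs, Spec.map_id]
    exact fun y => ⟨κ y, ConcreteCategory.congr_hom h1 y⟩
  have hεs : Function.Surjective ε := fun y => by
    obtain ⟨r, hr⟩ := hRk y
    exact ⟨algebraMap R A r, hr⟩
  haveI : Module.Finite R k := Module.Finite.of_surjective (Algebra.linearMap R k) hRk
  have hqε : RingHom.ker ε.toRingHom = (hV.primeIdealOf ⟨q, hqV⟩).asIdeal := by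
    have h1 : hV.primeIdealOf ⟨q, hqV⟩ = (Spec.map ε₀).base z := by
      apply hV.fromSpec.isOpenEmbedding.injective
      rw [hV.fromSpec_primeIdealOf]
      show g.left.base z = _
      rw [← hε₀]
      rfl
    rw [h1]
    show _ = Ideal.comap ε₀.hom (IsLocalRing.maximalIdeal k)
    rw [IsLocalRing.maximalIdeal_eq_bot]
    rfl
  show Algebra.IsSmoothAt R (hV.primeIdealOf ⟨q, hqV⟩).asIdeal
  refine QuotSmAlg.isSmoothAt_of_art ε hεs _ hqε fun B C p hp gC hgC => ?_
  let xr : QuotLiftRel.Rel R X := ⟨S, x, hU.fromSpec⟩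
  haveI hT : ∀ D : Art R k, IsLocallyNoetherian (T xr D).left := fun D =>
    haveI : IsNoetherianRing (CommRingCat.of D) := inferInstanceAs (IsNoetherianRing D)
    inferInstanceAs (IsLocallyNoetherian (Spec (CommRingCat.of D)))
  let pt : ∀ {D : Art R k}, (A →ₐ[R] D) → (T xr D ⟶ Q) := fun {D} f =>
    Over.homMk (Spec.map (CommRingCat.ofHom f.toRingHom) ≫ hV.fromSpec) (by
      show (_ ≫ _) ≫ Q.hom = sA D ≫ hU.fromSpec
      rw [Category.assoc, ← hν, ← Category.assoc, ← Spec.map_comp, ← CommRingCat.ofHom_comp]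
      exact congrArg (· ≫ hU.fromSpec) (congrArg Spec.map (congrArg CommRingCat.ofHom
        (RingHom.ext fun c => f.commutes c))))
  let KC : FGA.QuotSet x H (T xr C) := ⟨_, QuotComp.quotPull_mem x H (pt gC) Ku⟩
  let KB₀ : FGA.QuotSet x H (T xr (Art.base R k)) := ⟨_, QuotComp.quotPull_mem x H (pt ε) Ku⟩
  have hres : gA xr (Art.toBase C) ≫ pt gC = pt ε := by
    ext1
    show Spec.map _ ≫ Spec.map _ ≫ hV.fromSpec = Spec.map _ ≫ hV.fromSpec
    rw [← Category.assoc, ← Spec.map_comp, ← CommRingCat.ofHom_comp]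
    exact congrArg (· ≫ hV.fromSpec) (congrArg Spec.map (congrArg CommRingCat.ofHom
      (congrArg AlgHom.toRingHom hgC)))
  have hK₀ : FGA.quotPull x H (gA xr (Art.toBase C)) KC.1 = KB₀.1 := by
    show FGA.quotPull x H _ (FGA.quotPull x H (pt gC) Ku.1) = _
    rw [QuotComp.quotPull_comp, hres]
  have hpε : (@pt (Art.base R k) ε).left = g.left := hε₀
  obtain ⟨hasE, hE⟩ := @ext_transport S X x H Q Ku (Spec (CommRingCat.of k)) s
    (sA (Art.base R k) ≫ hU.fromSpec) hsν.symm g K₀ hg _ hExt (@pt (Art.base R k) ε) hpε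
  obtain ⟨LB, hLB, hLBC⟩ := QuotFinalRel.exists_extension xr H p KC.1 KB₀.1 hK₀ hHflat hH hp KC.2 hE
  obtain ⟨tB, htB, -⟩ := hQ.2 (T xr B) ⟨LB, hLB⟩
  have htC : gA xr p ≫ tB = pt gC := by
    obtain ⟨t, -, hu⟩ := hQ.2 (T xr C) KC
    rw [hu (pt gC) rfl]
    refine hu _ ?_
    beta_reduce
    rw [← QuotComp.quotPull_comp, htB]
    exact hLBC
  have hrangeB : Set.range tB.left.base ⊆ Set.range hV.fromSpec.base := by
    rintro _ ⟨w, rfl⟩
    let w' : Spec (CommRingCat.of C) := IsLocalRing.closedPoint C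
    refine ⟨(Spec.map (CommRingCat.ofHom gC.toRingHom)).base w', ?_⟩
    rw [show w = (Art.specMap p).base w' from QuotStalk.eq_of_artinian (R := B) _ _]
    exact congrArg (fun (f : T xr C ⟶ Q) => f.left.base w') htC.symm
  let g₀ : CommRingCat.of A ⟶ CommRingCat.of B :=
    Spec.preimage (IsOpenImmersion.lift hV.fromSpec tB.left hrangeB)
  have hg₀ : Spec.map g₀ ≫ hV.fromSpec = tB.left := by
    rw [Spec.map_preimage]
    exact IsOpenImmersion.lift_fac _ _ _
  have hg₀c : CommRingCat.ofHom (algebraMap R A) ≫ g₀ = CommRingCat.ofHom (algebraMap R B) := by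
    apply Spec.map_injective
    rw [← cancel_mono hU.fromSpec, Spec.map_comp, Category.assoc, hν, ← Category.assoc, hg₀]
    exact Over.w tB
  refine ⟨{ g₀.hom with commutes' := fun r => ConcreteCategory.congr_hom hg₀c r }, ?_⟩
  have h2 : g₀ ≫ CommRingCat.ofHom p.toAlgHom.toRingHom = CommRingCat.ofHom gC.toRingHom := by
    apply Spec.map_injective
    rw [← cancel_mono hV.fromSpec, Spec.map_comp, Category.assoc, hg₀]
    exact congrArg CommaMorphism.left htC
  exact AlgHom.ext fun a => ConcreteCategory.congr_hom h2 a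

end Groth.Agent.Helper63.QuotSmooth
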