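import Groth.Agent.Helper63.QuotComp
import Groth.Agent.LimTop.ModModel
import Groth.Agent.LimLib.Basic
import Groth.Agent.HomShQC.Basic
import Groth.Agent.ConsPairLib.ModLoci
import Groth.Agent.S9013

/-!
# Elements of the Quot functor descend to a stage of a limit of Noetherian affine schemes
-/

set_option autoImplicit false
set_option linter.style.haveILetI false
set_option backward.isDefEq.respectTransparency false
universe u

open CategoryTheory CategoryTheory.Limits AlgebraicGeometry Opposite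
open Groth.Agent

noncomputable section

namespace Groth.Agent.Helper63.QuotStage

theorem flat_square {X₀ Y₀ Y P P' : Scheme.{u}} {f : X₀ ⟶ Y₀} {g : Y ⟶ Y₀} {q : P ⟶ X₀} {p : P ⟶ Y}
    {q' : P' ⟶ X₀} {p' : P' ⟶ Y} (h : IsPullback q p f g) (h' : IsPullback q' p' f g)
    (G : X₀.Modules) (hfl : FlatMod.IsFlatOver p ((Scheme.Modules.pullback q).obj G)) :
    FlatMod.IsFlatOver p' ((Scheme.Modules.pullback q').obj G) := fun z => by
  let e := h'.isoIsPullback X₀ Y h
  have hw : e.hom ≫ p = p' := h'.isoIsPullback_hom_snd X₀ Y h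
  have sq : IsPullback e.hom p' p (𝟙 Y) :=
    IsPullback.of_horiz_isIso ⟨by rw [Category.comp_id]; exact hw⟩
  exact S17417.isFlatOverAt_of_iso _ ((Scheme.Modules.pullbackComp e.hom q).app G ≪≫
    (Scheme.Modules.pullbackCongr (h'.isoIsPullback_hom_fst X₀ Y h)).app G) z
      (FDesc.BaseChangeStalk.flatOverAt_baseChange sq z _ (hfl _))

theorem final_alg {C D F' : Type*} [Category C] [Category D] [Category F'] (F : C ⥤ D) (G : D ⥤ F')
    {R : C ⥤ F'} (κ : F ⋙ G ≅ R) {A : C} {M N₂ : D} {A₂ Q : F'} (τ : F.obj A ≅ M) (θ : G.obj M ≅ A₂)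
    (β : R.obj A ⟶ A₂) (key : κ.hom.app A ≫ β = G.map τ.hom ≫ θ.hom) (π : A₂ ⟶ Q)
    (pj : F.obj A ⟶ N₂) (e : G.obj N₂ ≅ Q)
    (he : (κ.app A).inv ≫ G.map pj ≫ e.hom = β ≫ π) :
    (θ.inv ≫ G.map (τ.inv ≫ pj)) ≫ e.hom = π := by
  rw [Iso.inv_comp_eq, Iso.app_hom, reassoc_of% key] at he
  rw [Category.assoc, Functor.map_comp, Category.assoc, he]
  simp [← Functor.map_comp_assoc]

theorem final_step {S X : Scheme.{u}} (x : X ⟶ S) (E : X.Modules) {T₂ T₁ T₀ : Over S}
    (a : T₂ ⟶ T₁) (b : T₁ ⟶ T₀) {α : T₂ ⟶ T₀} (hα : a ≫ b = α)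
    (h : PicF.XTmap x a ≫ PicF.XTmap x b = PicF.XTmap x α) {Q : (PicF.XT x T₂).Modules}
    (π : FGA.ET x E T₂ ⟶ Q) {G : (PicF.XT x T₁).Modules}
    (pj : (Scheme.Modules.pullback (PicF.XTmap x b)).obj (FGA.ET x E T₀) ⟶ G)
    (e : (Scheme.Modules.pullback (PicF.XTmap x a)).obj G ≅ Q)
    (he : ((LimTop.compIso (PicF.XTmap x a) (PicF.XTmap x b) h).app (FGA.ET x E T₀)).inv ≫
      (Scheme.Modules.pullback (PicF.XTmap x a)).map pj ≫ e.hom = (FGA.ETiso x E α).hom ≫ π) :
    ((FGA.ETiso x E a).inv ≫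
      (Scheme.Modules.pullback (PicF.XTmap x a)).map ((FGA.ETiso x E b).inv ≫ pj)) ≫ e.hom = π := by
  subst hα
  obtain rfl : h = QuotComp.XTmap_comp x b a := Subsingleton.elim _ _
  unfold LimTop.compIso at he
  exact final_alg _ _ (Scheme.Modules.pullbackComp (PicF.XTmap x a) (PicF.XTmap x b) ≪≫
      Scheme.Modules.pullbackCongr (QuotComp.XTmap_comp x b a)) (FGA.ETiso x E b)
    (FGA.ETiso x E a) (FGA.ETiso x E (a ≫ b)).hom (QuotComp.key_app x E b a) π pj e he

variable {S : Scheme.{u}} {I : Type u} [SmallCategory I] [IsCofiltered I]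
  (D : I ⥤ Over S) (c : Cone D) {X : Scheme.{u}} (x : X ⟶ S)

/-- The base changed diagram. -/
def diag : I ⥤ Scheme.{u} where
  obj i := PicF.XT x (D.obj i)
  map φ := PicF.XTmap x (D.map φ)
  map_id i := by
    rw [D.map_id]
    apply pullback.hom_ext
    · rw [FGA.XTmap_fst]; exact (Category.id_comp _).symm
    · exact (HilbLib.isPullback_XTmap x (𝟙 (D.obj i))).w.trans
        ((Category.comp_id _).trans (Category.id_comp _).symm)
  map_comp φ ψ := by
    rw [D.map_comp]
    exact (QuotComp.XTmap_comp x _ _).symm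

/-- The base changed cone. -/
def cone : Cone (diag D x) where
  pt := PicF.XT x c.pt
  π :=
    { app := fun i => PicF.XTmap x (c.π.app i)
      naturality := fun i j φ => by
        show 𝟙 _ ≫ PicF.XTmap x (c.π.app j) = PicF.XTmap x (c.π.app i) ≫ PicF.XTmap x (D.map φ)
        rw [Category.id_comp, QuotComp.XTmap_comp, c.w] }

/-- The projection to the original diagram. -/
def proj : diag D x ⟶ D ⋙ Over.forget S where
  app i := PicF.XTproj x (D.obj i)
  naturality i j φ := (HilbLib.isPullback_XTmap x (D.map φ)).w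

/-- The base changed cone is a limit. -/
def isLimitCone (hc : IsLimit ((Over.forget S).mapCone c)) : IsLimit (cone D c x) :=
  haveI : IsConnected I := IsCofiltered.isConnected I
  isLimitOfIsPullbackOfIsConnected (proj D x) (cone D c x) ((Over.forget S).mapCone c)
    { hom := PicF.XTproj x c.pt, w := fun i => (HilbLib.isPullback_XTmap x (c.π.app i)).w.symm }
    (fun i => HilbLib.isPullback_XTmap x (c.π.app i)) hc

theorem isAffineHom_XTmap {T T' : Over S} (g : T' ⟶ T) [IsAffine T.left] [IsAffine T'.left] :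
    IsAffineHom (PicF.XTmap x g) := by
  haveI : IsAffineHom g.left := inferInstance
  exact MorphismProperty.of_isPullback (HilbLib.isPullback_XTmap x g).flip inferInstance

variable {E : X.Modules}

set_option maxHeartbeats 1600000 in
/-- An element of the Quot functor on the limit comes from a stage. -/
theorem exists_stage [LocallyOfFiniteType x] [QuasiCompact x] [QuasiSeparated x]
    (hc : IsLimit ((Over.forget S).mapCone c)) [∀ i, IsAffine (D.obj i).left]
    [∀ i, IsLocallyNoetherian (D.obj i).left] [IsAffine c.pt.left] [IsLocallyNoetherian c.pt.left]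
    (hE : Coh.IsCoh E) (K : FGA.QuotSet x E c.pt) :
    ∃ (i : I) (K' : FGA.QuotSet x E (D.obj i)), FGA.quotPull x E (c.π.app i) K'.1 = K.1 := by
  obtain ⟨m⟩ := (IsCofiltered.nonempty : Nonempty I)
  haveI : ∀ (i j : I) (f : i ⟶ j), IsAffineHom ((diag D x).map f) :=
    fun i j f => isAffineHom_XTmap x (D.map f)
  haveI hln : ∀ T : Over S, ∀ [IsLocallyNoetherian T.left], IsLocallyNoetherian (PicF.XT x T) := fun T _ =>
    haveI : LocallyOfFiniteType (PicF.XTproj x T) :=
      inferInstanceAs (LocallyOfFiniteType (pullback.snd x T.hom))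
    LocallyOfFiniteType.isLocallyNoetherian (PicF.XTproj x T)
  haveI : ∀ T : Over S, QuasiCompact (PicF.XTproj x T) := fun T =>
    inferInstanceAs (QuasiCompact (pullback.snd x T.hom))
  haveI : ∀ T : Over S, QuasiSeparated (PicF.XTproj x T) := fun T =>
    inferInstanceAs (QuasiSeparated (pullback.snd x T.hom))
  haveI : CompactSpace ((diag D x).obj m) :=
    QuasiCompact.compactSpace_of_compactSpace (PicF.XTproj x (D.obj m))
  haveI : QuasiSeparatedSpace ((diag D x).obj m) :=
    quasiSeparatedSpace_of_quasiSeparated (PicF.XTproj x (D.obj m))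
  have hET : ∀ T : Over S, ∀ [IsLocallyNoetherian T.left], Coh.IsCoh (FGA.ET x E T) :=
    fun T _ => ZClosLib.CohDescent.isCoh_pullback _ E hE
  haveI : IsLocallyNoetherian ((diag D x).obj m) := hln (D.obj m)
  haveI : IsLocallyNoetherian (cone D c x).pt := hln c.pt
  haveI : (FGA.ET x E (D.obj m)).IsQuasicoherent := (hET _).1
  haveI : (cokernel K.1.arrow).IsQuasicoherent := K.2.1.1
  let p : (Scheme.Modules.pullback ((cone D c x).π.app m)).obj (FGA.ET x E (D.obj m)) ⟶
      cokernel K.1.arrow := (FGA.ETiso x E (c.π.app m)).hom ≫ cokernel.π K.1.arrow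
  haveI : Epi p := epi_comp _ _
  obtain ⟨j, φ, G, hGq, pj, e, hG, hpj, he⟩ := LimTop.exists_quotient_descend
    (isLimitCone D c x hc) (i₀ := m) (FGA.ET x E (D.obj m)) (HomShQC.isFP_of_isCoh _ (hET _))
    (cokernel K.1.arrow) (HomShQC.isFP_of_isCoh _ K.2.1) p
  haveI := hGq
  haveI := hpj
  -- flatness
  let f := PicF.XTproj x (D.obj j)
  haveI : LocallyOfFinitePresentation f := by
    haveI : LocallyOfFiniteType f := inferInstanceAs (LocallyOfFiniteType (pullback.snd x _))
    exact inferInstance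
  let P : Over (D.obj j).left → Prop :=
    fun T => FlatMod.IsFlatOver (PicF.XTproj f T) (FGA.ET f G T)
  let Dj : Over j ⥤ Over (D.obj j).left :=
    { obj := fun a => Over.mk (D.map a.hom).left
      map := fun {a b} ψ => Over.homMk (D.map ψ.left).left (by
        show _ ≫ (D.map b.hom).left = (D.map a.hom).left
        rw [← Over.comp_left, ← D.map_comp, Over.w ψ])
      map_id := fun a => by ext; simp
      map_comp := fun ψ χ => by ext; simp }
  let cj : Cone Dj :=
    { pt := Over.mk (c.π.app j).left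
      π :=
        { app := fun a => Over.homMk (c.π.app a.left).left (by
            show _ ≫ (D.map a.hom).left = (c.π.app j).left
            rw [← Over.comp_left, c.w])
          naturality := fun a b ψ => by
            ext
            show 𝟙 _ ≫ (c.π.app b.left).left = (c.π.app a.left).left ≫ (D.map ψ.left).left
            rw [Category.id_comp, ← Over.comp_left, c.w] } }
  have hcj : IsLimit ((Over.forget (D.obj j).left).mapCone cj) :=
    (Functor.Initial.isLimitWhiskerEquiv (Over.forget j) ((Over.forget S).mapCone c)).symm hc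
  obtain ⟨hcol⟩ := S9013.result f G hG Dj cj hcj (fun a => inferInstanceAs (IsAffine (D.obj a.left).left))
    (inferInstanceAs (IsAffine c.pt.left))
  have hPc : P cj.pt := flat_square (HilbLib.isPullback_XTmap x (c.π.app j))
    (IsPullback.of_hasPullback f (c.π.app j).left) G
      (fun z => S17417.isFlatOverAt_of_iso _ e.symm z (K.2.2 z))
  obtain ⟨t⟩ := FlatFun.genPSp_nonempty_of P hPc
  obtain ⟨a, ⟨⟨T₀, k, hT₀⟩⟩, -⟩ := Types.jointly_surjective_of_isColimit hcol t
  have hPa : P (Dj.obj a.unop) := fun z =>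
    S17417.isFlatOverAt_of_iso _ (FGA.ETiso f G k) z
      (FDesc.BaseChangeStalk.flatOverAt_baseChange (HilbLib.isPullback_XTmap f k) z _ (hT₀ _))
  let i := a.unop.left
  let ψ : i ⟶ j := a.unop.hom
  let M := (Scheme.Modules.pullback (PicF.XTmap x (D.map ψ))).obj G
  have hMf : FlatMod.IsFlatOver (PicF.XTproj x (D.obj i)) M :=
    flat_square (IsPullback.of_hasPullback f (D.map ψ).left)
      (HilbLib.isPullback_XTmap x (D.map ψ)) G hPa
  -- the submodule at stage `i`
  let Φj : FGA.ET x E (D.obj j) ⟶ G := (FGA.ETiso x E (D.map φ)).inv ≫ pj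
  haveI : Epi Φj := epi_comp _ _
  let Pψ := Scheme.Modules.pullback (PicF.XTmap x (D.map ψ))
  haveI : PreservesFiniteColimits Pψ := by
    haveI := (Scheme.Modules.pullbackPushforwardAdjunction
      (PicF.XTmap x (D.map ψ))).leftAdjoint_preservesColimits
    exact PreservesColimitsOfSize.preservesFiniteColimits _
  haveI : Epi (Pψ.map Φj) := Functor.map_epi _ _
  let Kj := kernelSubobject Φj
  let Sj := ShortComplex.mk Kj.arrow Φj (kernelSubobject_arrow_comp Φj)
  have hSj : Sj.Exact := Sj.exact_of_f_is_kernel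
    (IsKernel.isoKernel _ Kj.arrow (kernelIsKernel Φj) (kernelSubobjectIso Φj) (kernelSubobject_arrow Φj))
  haveI : Epi Sj.g := ‹Epi Φj›
  let τ : cokernel Kj.arrow ≅ G := (cokernelIsCokernel Kj.arrow).coconePointUniqueUpToIso hSj.gIsCokernel
  let τi := (QuotComp.cokernelIso x E (D.map ψ) Kj).symm ≪≫ Pψ.mapIso τ
  haveI : IsLocallyNoetherian (PicF.XT x (D.obj j)) := hln (D.obj j)
  have hGc : Coh.IsCoh G := @ConsPairLib.isCoh_of_isFP (PicF.XT x (D.obj j)) G hGq hG
  refine ⟨i, ⟨FGA.quotPull x E (D.map ψ) Kj,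
    CohDev.isCoh_of_iso τi.symm (ZClosLib.CohDescent.isCoh_pullback _ G hGc),
    fun z => S17417.isFlatOverAt_of_iso _ τi.symm z (hMf z)⟩, ?_⟩
  rw [QuotComp.quotPull_comp, c.w]
  let Pj := Scheme.Modules.pullback (PicF.XTmap x (c.π.app j))
  haveI : PreservesFiniteColimits Pj := by
    haveI := (Scheme.Modules.pullbackPushforwardAdjunction
      (PicF.XTmap x (c.π.app j))).leftAdjoint_preservesColimits
    exact PreservesColimitsOfSize.preservesFiniteColimits _
  let θ := FGA.ETiso x E (c.π.app j)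
  have hcol' := CokernelCofork.mapIsColimit _ hSj.gIsCokernel Pj
  have hz : (Pj.map Kj.arrow ≫ θ.hom) ≫ θ.inv ≫ Pj.map Φj = 0 := by
    rw [Category.assoc, Iso.hom_inv_id_assoc, ← Functor.map_comp]
    show Pj.map (Kj.arrow ≫ Φj) = 0
    rw [kernelSubobject_arrow_comp, Functor.map_zero]
  refine QuotFinal.imageSubobject_eq _ K.1 (θ.inv ≫ Pj.map Φj) hz ?_ e ?_
  · refine Cofork.isColimitOfIsos _ hcol' _ (Iso.refl _) θ (Iso.refl _) ?_ ?_ ?_
    · exact Category.id_comp _
    · simp only [comp_zero, zero_comp]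
    · show θ.inv ≫ Pj.map Φj ≫ 𝟙 _ = _
      rw [Category.comp_id]
      rfl
  · exact final_step x E (c.π.app j) (D.map φ) (c.w φ) ((cone D c x).w φ) (cokernel.π K.1.arrow)
      pj e he

end Groth.Agent.Helper63.QuotStage
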