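import Groth.Agent.Helper63.QuotFinalRel
import Groth.Agent.ArtFunLib.Cotangent
import Groth.Agent.ArtFunLib.Tangent

/-!
# First-order families of submodules and homomorphisms

The functors involved are variables, so that no concrete push forward has to be unfolded.
-/

set_option autoImplicit false
set_option linter.style.haveILetI false
universe u

open CategoryTheory CategoryTheory.Limits AlgebraicGeometry
open ArtFun
open Groth.Agent Groth.Agent.Helper63.QuotStalk Groth.Agent.Helper63.QuotLiftRel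

noncomputable section

namespace Groth.Agent.Helper63.QuotTangentRel

section Abstract

variable {C : Type*} [Category C] {D : Type*} [Category D] {E : Type*} [Category E]

/-- A component of an isomorphism out of a composite functor. -/
def compApp {F : C ⥤ D} {G : D ⥤ E} {K : C ⥤ E} (α : F ⋙ G ≅ K) (N : C) :
    G.obj (F.obj N) ≅ K.obj N := α.app N

theorem compApp_hom {F : C ⥤ D} {G : D ⥤ E} {K : C ⥤ E} (α : F ⋙ G ≅ K) (N : C) :
    (compApp α N).hom = α.hom.app N := rfl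

theorem compApp_nat {F : C ⥤ D} {G : D ⥤ E} {K : C ⥤ E} (α : F ⋙ G ≅ K) {M N : C} (f : M ⟶ N) :
    G.map (F.map f) ≫ (compApp α N).hom = (compApp α M).hom ≫ K.map f := α.hom.naturality f

end Abstract

section Mul

variable {B : Type u} [CommRing B] {Z : Scheme.{u}} [Z.Over (Spec (CommRingCat.of B))]

theorem mulB_add (a b : B) (M : Z.Modules) : mulB (a + b) M = mulB a M + mulB b M := by
  refine Scheme.Modules.hom_ext _ _ fun W => ?_
  ext m
  change (CohBase.FlatBC.smulEnd M (glob (a + b))).app W m =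
    (CohBase.FlatBC.smulEnd M (glob a)).app W m + (CohBase.FlatBC.smulEnd M (glob b)).app W m
  simp only [CohBase.FlatBC.smulEnd_app, map_add, add_smul]

theorem mulB_zero (M : Z.Modules) : mulB (0 : B) M = 0 := by
  have h := mulB_add (0 : B) 0 M
  rw [add_zero] at h
  exact left_eq_add.1 h

theorem mulB_mul (a b : B) (M : Z.Modules) : mulB (a * b) M = mulB b M ≫ mulB a M :=
  Omega.Stalks.hom_ext_stalk fun z => LinearMap.ext fun t => by
    change lin B (mulB (a * b) M) z t = lin B (mulB b M ≫ mulB a M) z t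
    rw [lin_comp, lin_mulB, lin_mulB, lin_mulB, mul_smul]

theorem mulB_comp_assoc_aux {M N P : Z.Modules} (g : M ⟶ N) (h : N ⟶ P) (b : B) :
    mulB b M ≫ g ≫ h = g ≫ mulB b N ≫ h := by
  rw [← Category.assoc, mulB_comp, Category.assoc]

end Mul

variable {k : Type u} [Field k]

/-- The element `ε`. -/
def eps : Art.dual k k := (DualNumber.eps : DualNumber k)

/-- The coefficient of `ε`. -/
def coef (b : Art.dual k k) : Art.base k k := TrivSqZeroExt.snd (show DualNumber k from b)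

theorem res_eps : Art.toBase (Art.dual k k) eps = 0 := rfl

theorem eps_mul_eps : (eps : Art.dual k k) * eps = 0 := DualNumber.eps_mul_eps

theorem coef_eps : coef (eps : Art.dual k k) = 1 := rfl

theorem dual_eq (b : DualNumber k) (hb : TrivSqZeroExt.fst b = 0) :
    b = algebraMap k (DualNumber k) (TrivSqZeroExt.snd b) * DualNumber.eps := by
  change b = TrivSqZeroExt.inl (TrivSqZeroExt.snd b) * DualNumber.eps
  ext <;> simp [hb]

theorem eq_mul_eps {b : Art.dual k k} (hb : Art.toBase (Art.dual k k) b = 0) :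
    b = Art.ofBase (Art.dual k k) (coef b) * eps := by
  exact dual_eq (show DualNumber k from b) hb

theorem eps_ne_zero : (eps : Art.dual k k) ≠ 0 := fun h => by
  have := congrArg coef h
  rw [coef_eps] at this
  exact (one_ne_zero : (1 : k) ≠ 0) this

theorem mem_maximalIdeal_dual {b : Art.dual k k}
    (hb : b ∈ IsLocalRing.maximalIdeal (Art.dual k k)) : b ∈ Ideal.span {(eps : Art.dual k k)} := by
  rw [eq_mul_eps (((Art.dual k k).mem_maximalIdeal_iff b).1 hb)]
  exact Ideal.mul_mem_left _ _ (Ideal.mem_span_singleton_self _)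

variable {X : Scheme.{u}} (x : QuotLiftRel.Rel k X)

/-- The data entering the tangent space computation. -/
structure Setting where
  ρ : ∀ B : Art k k, (XA x (Art.base k k)).Modules ⥤ (XA x B).Modules
  ρ_add : ∀ B, (ρ B).Additive
  ρ_lim : ∀ B, PreservesFiniteLimits (ρ B)
  ρ_epi : ∀ B, (ρ B).PreservesEpimorphisms
  ρ_full : ∀ B, (ρ B).Full
  ρ_faith : ∀ B, (ρ B).Faithful
  ρ_mul : ∀ (B : Art k k) (b : B) (N : (XA x (Art.base k k)).Modules),
    mulB b ((ρ B).obj N) = (ρ B).map (mulB (Art.toBase B b) N)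
  R : ∀ {B A : Art k k}, (B ⟶ A) → ((XA x A).Modules ⥤ (XA x B).Modules)
  R_add : ∀ {B A : Art k k} (f : B ⟶ A), (R f).Additive
  R_lim : ∀ {B A : Art k k} (f : B ⟶ A), PreservesFiniteLimits (R f)
  R_mul : ∀ {B A : Art k k} (f : B ⟶ A) (b : B) (M : (XA x A).Modules),
    mulB b ((R f).obj M) = (R f).map (mulB (f b) M)
  α : ∀ {B A : Art k k} (f : B ⟶ A), ρ A ⋙ R f ≅ ρ B
  G : ∀ B : Art k k, (XA x B).Modules
  flatG : ∀ B, FlatMod.IsFlatOver (XA x B ↘ Spec (CommRingCat.of B)) (G B)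
  H₀ : (XA x (Art.base k k)).Modules
  ψ : ∀ B, G B ⟶ (ρ B).obj H₀
  ψ_epi : ∀ B, Epi (ψ B)
  ψ_ker : ∀ (B : Art k k) (z : XA x B) (t : (G B).presheaf.stalk z),
    lin B (ψ B) z t = 0 ↔
      t ∈ IsLocalRing.maximalIdeal B • (⊤ : Submodule B ((G B).presheaf.stalk z))
  ψf : ∀ {B A : Art k k} (f : B ⟶ A), G B ⟶ (R f).obj (G A)
  ψf_comp : ∀ {B A : Art k k} (f : B ⟶ A),
    ψf f ≫ (R f).map (ψ A) ≫ (compApp (α f) H₀).hom = ψ B
  pull : ∀ {B A : Art k k}, (B ⟶ A) → Subobject (G B) → Subobject (G A)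
  pull_fac : ∀ {B A : Art k k} (f : B ⟶ A) (K : Subobject (G B)),
    ∃ e : (K : (XA x B).Modules) ⟶ (R f).obj (pull f K : (XA x A).Modules),
      e ≫ (R f).map (pull f K).arrow = K.arrow ≫ ψf f
  red : ∀ B, Subobject (G B) → Subobject H₀
  red_fac : ∀ (B : Art k k) (K : Subobject (G B)),
    ∃ ν : (K : (XA x B).Modules) ⟶ (ρ B).obj (red B K : (XA x (Art.base k k)).Modules),
      Epi ν ∧ ν ≫ (ρ B).map (red B K).arrow = K.arrow ≫ ψ B

namespace Setting

attribute [instance] ρ_add ρ_lim ρ_epi ρ_full ρ_faith R_add R_lim ψ_epi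

variable {x} (S : Setting x) (K₀ : Subobject S.H₀)

/-- Projection onto the fixed quotient. -/
def θ (B : Art k k) : S.G B ⟶ (S.ρ B).obj (cokernel K₀.arrow) :=
  S.ψ B ≫ (S.ρ B).map (cokernel.π K₀.arrow)

instance epi_θ (B : Art k k) : Epi (S.θ K₀ B) := epi_comp _ _

/-- The inverse image of the fixed submodule. -/
abbrev L (B : Art k k) : (XA x B).Modules := kernel (S.θ K₀ B)

/-- Its inclusion. -/
abbrev ι (B : Art k k) : S.L K₀ B ⟶ S.G B := kernel.ι (S.θ K₀ B)

theorem mono_ι (B : Art k k) : Mono (S.ι K₀ B) := inferInstanceAs (Mono (kernel.ι _))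

theorem ι_θ (B : Art k k) : S.ι K₀ B ≫ S.θ K₀ B = 0 := kernel.condition _

theorem exact_ρ (B : Art k k) :
    ((ShortComplex.mk K₀.arrow (cokernel.π K₀.arrow) (cokernel.condition _)).map (S.ρ B)).Exact :=
  (ShortComplex.exact_of_g_is_cokernel _ (cokernelIsCokernel K₀.arrow)).map_of_mono_of_preservesKernel
    (S.ρ B) (inferInstanceAs (Mono K₀.arrow)) inferInstance

/-- Projection of the inverse image onto the fixed submodule. -/
def νL (B : Art k k) : S.L K₀ B ⟶ (S.ρ B).obj (K₀ : (XA x (Art.base k k)).Modules) :=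
  haveI : Mono ((ShortComplex.mk K₀.arrow (cokernel.π K₀.arrow)
      (cokernel.condition _)).map (S.ρ B)).f :=
    inferInstanceAs (Mono ((S.ρ B).map K₀.arrow))
  (S.exact_ρ K₀ B).lift (S.ι K₀ B ≫ S.ψ B) ((Category.assoc _ _ _).trans (S.ι_θ K₀ B))

theorem νL_arrow (B : Art k k) :
    S.νL K₀ B ≫ (S.ρ B).map K₀.arrow = S.ι K₀ B ≫ S.ψ B := by
  haveI : Mono ((ShortComplex.mk K₀.arrow (cokernel.π K₀.arrow)
      (cokernel.condition _)).map (S.ρ B)).f :=
    inferInstanceAs (Mono ((S.ρ B).map K₀.arrow))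
  exact (S.exact_ρ K₀ B).lift_f _ _

theorem mulB_θ {B : Art k k} (b : B) (hb : Art.toBase B b = 0) :
    mulB b (S.G B) ≫ S.θ K₀ B = 0 := by
  rw [mulB_comp, S.ρ_mul, hb, mulB_zero, Functor.map_zero, comp_zero]

/-- Multiplication by an element of the maximal ideal, into the inverse image. -/
def aL {B : Art k k} (b : B) (hb : Art.toBase B b = 0) : S.G B ⟶ S.L K₀ B :=
  kernel.lift _ (mulB b (S.G B)) (S.mulB_θ K₀ b hb)

theorem aL_ι {B : Art k k} (b : B) (hb : Art.toBase B b = 0) :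
    S.aL K₀ b hb ≫ S.ι K₀ B = mulB b (S.G B) := kernel.lift_ι _ _ _

theorem toBase_eq_zero {B : Art k k} {b : B} (hb : b ∈ IsLocalRing.maximalIdeal B) :
    Art.toBase B b = 0 := (B.mem_maximalIdeal_iff b).1 hb

theorem lin_aL {B : Art k k} (b : B) (hb : Art.toBase B b = 0) (z : XA x B)
    (g : (S.G B).presheaf.stalk z) :
    lin B (S.ι K₀ B) z (lin B (S.aL K₀ b hb) z g) = b • g := by
  rw [← lin_comp, aL_ι, lin_mulB]

theorem smul_ρ {B : Art k k} {b : B} (hb : Art.toBase B b = 0)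
    (N : (XA x (Art.base k k)).Modules) (z : XA x B)
    (t : ((S.ρ B).obj N).presheaf.stalk z) : b • t = 0 := by
  rw [← lin_mulB, S.ρ_mul, hb, mulB_zero, Functor.map_zero, lin_zero]

/-- A family with flat quotient reducing to the fixed submodule. -/
structure IsFam {B : Art k k} (K : Subobject (S.G B)) : Prop where
  flat : FlatMod.IsFlatOver (XA x B ↘ Spec (CommRingCat.of B)) (cokernel K.arrow)
  red : S.red B K = K₀

variable {S K₀}

theorem exists_fac {B : Art k k} {K : Subobject (S.G B)} (hK : S.IsFam K₀ K) :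
    ∃ ν : (K : (XA x B).Modules) ⟶ (S.ρ B).obj (K₀ : (XA x (Art.base k k)).Modules),
      Epi ν ∧ ν ≫ (S.ρ B).map K₀.arrow = K.arrow ≫ S.ψ B := by
  rw [← hK.red]
  exact S.red_fac B K

theorem arrow_θ {B : Art k k} {K : Subobject (S.G B)} (hK : S.IsFam K₀ K) :
    K.arrow ≫ S.θ K₀ B = 0 := by
  obtain ⟨ν, -, hν⟩ := exists_fac hK
  rw [θ, ← reassoc_of% hν, ← Functor.map_comp, cokernel.condition, Functor.map_zero, comp_zero]

/-- The inclusion of a family in the inverse image. -/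
def iK {B : Art k k} {K : Subobject (S.G B)} (hK : S.IsFam K₀ K) :
    (K : (XA x B).Modules) ⟶ S.L K₀ B :=
  kernel.lift _ K.arrow (arrow_θ hK)

theorem iK_ι {B : Art k k} {K : Subobject (S.G B)} (hK : S.IsFam K₀ K) :
    iK hK ≫ S.ι K₀ B = K.arrow := kernel.lift_ι _ _ _

theorem iK_νL {B : Art k k} {K : Subobject (S.G B)} (hK : S.IsFam K₀ K) :
    (iK hK ≫ S.νL K₀ B) ≫ (S.ρ B).map K₀.arrow = K.arrow ≫ S.ψ B := by
  rw [Category.assoc, νL_arrow, ← Category.assoc, iK_ι]

theorem epi_iK_νL {B : Art k k} {K : Subobject (S.G B)} (hK : S.IsFam K₀ K) :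
    Epi (iK hK ≫ S.νL K₀ B) := by
  obtain ⟨ν, hν₁, hν⟩ := exists_fac hK
  rwa [show iK hK ≫ S.νL K₀ B = ν from
    (cancel_mono ((S.ρ B).map K₀.arrow)).1 ((iK_νL hK).trans hν.symm)]

/-- A vector killed by `θ` lies in `K + 𝔪G`. -/
theorem θ_ker {B : Art k k} {K : Subobject (S.G B)} (hK : S.IsFam K₀ K) (z : XA x B)
    (t : (S.G B).presheaf.stalk z) (ht : lin B (S.θ K₀ B) z t = 0) :
    ∃ κ : (K : (XA x B).Modules).presheaf.stalk z, t - lin B K.arrow z κ ∈
      IsLocalRing.maximalIdeal B • (⊤ : Submodule B ((S.G B).presheaf.stalk z)) := by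
  obtain ⟨y, rfl⟩ := (mem_ker_iff (S.θ K₀ B) z t).1 ht
  obtain ⟨ν, hν₁, hν⟩ := exists_fac hK
  obtain ⟨κ, hκ⟩ := lin_surjective (B := B) ν z (lin B (S.νL K₀ B) z y)
  refine ⟨κ, (S.ψ_ker B z _).1 ?_⟩
  rw [map_sub, ← lin_comp, ← lin_comp, ← hν, lin_comp _ _ z κ, hκ, ← lin_comp, νL_arrow]
  exact sub_self _

/-- A family and the maximal ideal generate the inverse image. -/
theorem L_gen {B : Art k k} {K : Subobject (S.G B)} (hK : S.IsFam K₀ K)
    {N : (XA x B).Modules} (t : S.L K₀ B ⟶ N) (h₁ : iK hK ≫ t = 0)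
    (h₂ : ∀ (b : B) (hb : Art.toBase B b = 0), S.aL K₀ b hb ≫ t = 0) : t = 0 := by
  refine lin_stalk_ext x fun z y => ?_
  rw [lin_zero]
  have hy : lin B (S.θ K₀ B) z (lin B (S.ι K₀ B) z y) = 0 := by
    rw [← lin_comp, ι_θ, lin_zero]
  obtain ⟨κ, hκ⟩ := θ_ker hK z _ hy
  rw [← iK_ι hK, lin_comp, ← map_sub] at hκ
  have key : ∀ w ∈ IsLocalRing.maximalIdeal B • (⊤ : Submodule B ((S.G B).presheaf.stalk z)),
      ∃ y, lin B (S.ι K₀ B) z y = w ∧ lin B t z y = 0 := fun w hw => by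
    refine Submodule.smul_induction_on hw (fun b hb g _ => ?_) fun a a' ha ha' => ?_
    · refine ⟨lin B (S.aL K₀ b (toBase_eq_zero hb)) z g, lin_aL S K₀ b _ z g, ?_⟩
      rw [← lin_comp, h₂, lin_zero]
    · obtain ⟨v, rfl, hv⟩ := ha
      obtain ⟨v', rfl, hv'⟩ := ha'
      exact ⟨v + v', map_add _ _ _, by rw [map_add, hv, hv', add_zero]⟩
  obtain ⟨v, hv, hv0⟩ := key _ hκ
  have := lin_injective (B := B) (S.ι K₀ B) z hv
  rw [this, map_sub, ← lin_comp, h₁, lin_zero, sub_zero] at hv0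
  exact hv0

theorem flat_stalk {B : Art k k} (z : XA x B) : Module.Flat B ((S.G B).presheaf.stalk z) :=
  (flat_stalk_iff _ _).1 (S.flatG B z)

theorem shortExact_cokernel {B : Art k k} (K : Subobject (S.G B)) :
    (ShortComplex.mk K.arrow (cokernel.π K.arrow) (cokernel.condition _)).ShortExact :=
  { exact := ShortComplex.exact_of_g_is_cokernel _ (cokernelIsCokernel K.arrow) }

/-! ### The dual numbers -/

/-- A splitting projection relative to a family. -/
structure IsProj {KT : Subobject (S.G (Art.dual k k))} (hT : S.IsFam K₀ KT)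
    (s : S.L K₀ (Art.dual k k) ⟶ (S.ρ (Art.dual k k)).obj (cokernel K₀.arrow)) : Prop where
  ker : iK hT ≫ s = 0
  eps : S.aL K₀ eps res_eps ≫ s = S.θ K₀ (Art.dual k k)

theorem exists_smul_eps {z : XA x (Art.dual k k)} {M : (XA x (Art.dual k k)).Modules}
    {t : M.presheaf.stalk z}
    (ht : t ∈ IsLocalRing.maximalIdeal (Art.dual k k) •
      (⊤ : Submodule (Art.dual k k) (M.presheaf.stalk z))) :
    ∃ g : M.presheaf.stalk z, t = (eps : Art.dual k k) • g := by
  obtain ⟨g, -, hg⟩ := QuotAlg.mem_span_singleton_smul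
    (Submodule.smul_mono_left (fun b hb => mem_maximalIdeal_dual hb) ht)
  exact ⟨g, hg⟩

theorem eps_smul_eps_smul {z : XA x (Art.dual k k)} {M : (XA x (Art.dual k k)).Modules}
    (t : M.presheaf.stalk z) : (eps : Art.dual k k) • (eps : Art.dual k k) • t = 0 := by
  rw [smul_smul, eps_mul_eps, zero_smul]

theorem eps_smul_eq {z : XA x (Art.dual k k)} {M : (XA x (Art.dual k k)).Modules}
    {t : M.presheaf.stalk z}
    (ht : t ∈ IsLocalRing.maximalIdeal (Art.dual k k) •
      (⊤ : Submodule (Art.dual k k) (M.presheaf.stalk z))) :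
    (eps : Art.dual k k) • t = 0 := by
  obtain ⟨g, rfl⟩ := exists_smul_eps ht
  exact eps_smul_eps_smul g

theorem exists_proj {KT : Subobject (S.G (Art.dual k k))} (hT : S.IsFam K₀ KT) :
    ∃ s, IsProj hT s := by
  let D : Art k k := Art.dual k k
  let π : S.L K₀ D ⟶ cokernel (iK hT) := cokernel.π (iK hT)
  let μ : S.G D ⟶ cokernel (iK hT) := S.aL K₀ eps res_eps ≫ π
  haveI : Epi μ := by
    refine Omega.Stalks.epi_of_stalk fun z q => ?_
    obtain ⟨y, rfl⟩ := lin_surjective (B := D) π z q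
    have hy : lin D (S.θ K₀ D) z (lin D (S.ι K₀ D) z y) = 0 := by rw [← lin_comp, ι_θ, lin_zero]
    obtain ⟨κ, hκ⟩ := θ_ker hT z _ hy
    obtain ⟨g, hg⟩ := exists_smul_eps hκ
    refine ⟨g, ?_⟩
    change lin D μ z g = lin D π z y
    have h1 : lin D (S.aL K₀ eps res_eps) z g = y - lin D (iK hT) z κ :=
      lin_injective (B := D) (S.ι K₀ D) z (by
        rw [lin_aL, map_sub, ← lin_comp (iK hT), iK_ι, hg])
    rw [lin_comp, h1, map_sub, ← lin_comp (iK hT), cokernel.condition, lin_zero, sub_zero]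
  have hker : kernel.ι μ ≫ S.θ K₀ D = 0 := lin_stalk_ext x fun z y => by
    rw [lin_zero, lin_comp]
    have h0 : lin D μ z (lin D (kernel.ι μ) z y) = 0 := by
      rw [← lin_comp, kernel.condition, lin_zero]
    generalize lin D (kernel.ι μ) z y = g at h0 ⊢
    rw [lin_comp] at h0
    have hS : (ShortComplex.mk (iK hT) π (cokernel.condition _)).ShortExact :=
      { exact := ShortComplex.exact_of_g_is_cokernel _ (cokernelIsCokernel _)
        mono_f := mono_of_mono_fac (iK_ι hT) }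
    obtain ⟨κ, hκ⟩ := ((lin_exact hS z) _).1 h0
    have h1 : lin D KT.arrow z κ = (eps : D) • g := by
      rw [← iK_ι hT, lin_comp, hκ, lin_aL]
    haveI := (flat_stalk_iff (cokernel KT.arrow) z).1 (hT.flat z)
    have h2 : (eps : D) • lin D (cokernel.π KT.arrow) z g = 0 := by
      rw [← map_smul, ← h1, ← lin_comp, cokernel.condition, lin_zero]
    have h3 := QuotAlg.mem_smul_top_of_smul_eq_zero eps_ne_zero h2
    obtain ⟨e, he⟩ := exists_smul_eps h3
    obtain ⟨g', rfl⟩ := lin_surjective (B := D) (cokernel.π KT.arrow) z e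
    have h4 : lin D (cokernel.π KT.arrow) z (g - (eps : D) • g') = 0 := by
      rw [map_sub, map_smul, he, sub_self]
    obtain ⟨κ', hκ'⟩ := ((lin_exact (shortExact_cokernel KT) z) _).1 h4
    rw [show g = lin D KT.arrow z κ' + (eps : D) • g' from (eq_add_of_sub_eq hκ'.symm),
      map_add, ← lin_comp, arrow_θ hT, lin_zero, map_smul, smul_ρ S res_eps, add_zero]
  refine ⟨π ≫ Abelian.epiDesc μ (S.θ K₀ D) hker, ⟨?_, ?_⟩⟩
  · rw [← Category.assoc, cokernel.condition, zero_comp]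
  · rw [← Category.assoc]
    exact Abelian.comp_epiDesc _ _ _

/-- The homomorphism attached to a family. -/
def IsHom {B : Art k k} {K : Subobject (S.G B)} (hK : S.IsFam K₀ K)
    (s : S.L K₀ B ⟶ (S.ρ B).obj (cokernel K₀.arrow))
    (c : (K₀ : (XA x (Art.base k k)).Modules) ⟶ cokernel K₀.arrow) : Prop :=
  iK hK ≫ (s - S.νL K₀ B ≫ (S.ρ B).map c) = 0

theorem isHom_unique {B : Art k k} {K : Subobject (S.G B)} (hK : S.IsFam K₀ K)
    {s : S.L K₀ B ⟶ (S.ρ B).obj (cokernel K₀.arrow)}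
    {c c' : (K₀ : (XA x (Art.base k k)).Modules) ⟶ cokernel K₀.arrow} (h : IsHom hK s c)
    (h' : IsHom hK s c') : c = c' := by
  haveI := epi_iK_νL hK
  rw [IsHom, Preadditive.comp_sub, sub_eq_zero, ← Category.assoc] at h h'
  exact (S.ρ B).map_injective ((cancel_epi (iK hK ≫ S.νL K₀ B)).1 (h.symm.trans h'))

variable {KT : Subobject (S.G (Art.dual k k))} {hT : S.IsFam K₀ KT}
  {s : S.L K₀ (Art.dual k k) ⟶ (S.ρ (Art.dual k k)).obj (cokernel K₀.arrow)}

theorem exists_isHom (hs : IsProj hT s) {K : Subobject (S.G (Art.dual k k))}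
    (hK : S.IsFam K₀ K) : ∃ c, IsHom hK s c := by
  let D : Art k k := Art.dual k k
  let ν := iK hK ≫ S.νL K₀ D
  haveI : Epi ν := epi_iK_νL hK
  have h : kernel.ι ν ≫ iK hK ≫ s = 0 := lin_stalk_ext x fun z y => by
    rw [lin_zero, lin_comp]
    have h0 : lin D ν z (lin D (kernel.ι ν) z y) = 0 := by
      rw [← lin_comp, kernel.condition, lin_zero]
    generalize lin D (kernel.ι ν) z y = κ at h0 ⊢
    have h1 : lin D (S.ψ D) z (lin D K.arrow z κ) = 0 := by
      rw [← lin_comp, ← iK_νL hK, lin_comp, h0, map_zero]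
    haveI := flat_stalk (S := S) z
    haveI := (flat_stalk_iff (cokernel K.arrow) z).1 (hK.flat z)
    have h2 := (QuotAlg.inter_le (lin_injective (B := D) K.arrow _)
      (lin_surjective (B := D) (cokernel.π K.arrow) _)
      (lin_exact (shortExact_cokernel K) z)).2 κ ((S.ψ_ker D z _).1 h1)
    obtain ⟨κ', rfl⟩ := exists_smul_eps h2
    rw [map_smul, smul_ρ S res_eps]
  let d : (S.ρ D).obj (K₀ : (XA x (Art.base k k)).Modules) ⟶ (S.ρ D).obj (cokernel K₀.arrow) :=
    Abelian.epiDesc ν (iK hK ≫ s) h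
  refine ⟨(S.ρ D).preimage d, ?_⟩
  rw [IsHom, Preadditive.comp_sub, Functor.map_preimage, ← Category.assoc _ _ d, sub_eq_zero]
  exact (Abelian.comp_epiDesc ν _ h).symm

theorem le_of_isHom (hs : IsProj hT s) {K K' : Subobject (S.G (Art.dual k k))}
    (hK : S.IsFam K₀ K) (hK' : S.IsFam K₀ K')
    {c : (K₀ : (XA x (Art.base k k)).Modules) ⟶ cokernel K₀.arrow} (h : IsHom hK s c)
    (h' : IsHom hK' s c) : K ≤ K' := by
  let D : Art k k := Art.dual k k
  refine QuotFinalRel.le_of_arrow_comp (lin_stalk_ext x fun z κ => ?_)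
  rw [lin_zero]
  haveI := epi_iK_νL hK'
  obtain ⟨κ', hκ'⟩ := lin_surjective (B := D) (iK hK' ≫ S.νL K₀ D) z
    (lin D (iK hK ≫ S.νL K₀ D) z κ)
  rw [IsHom, Preadditive.comp_sub, sub_eq_zero, ← Category.assoc] at h h'
  let y := lin D (iK hK) z κ - lin D (iK hK') z κ'
  have hsy : lin D s z y = 0 := by
    rw [map_sub, ← lin_comp, ← lin_comp, h, h', lin_comp, lin_comp _ _ z κ', hκ', sub_self]
  have hψy : lin D (S.ψ D) z (lin D (S.ι K₀ D) z y) = 0 := by
    rw [← lin_comp, ← νL_arrow, lin_comp, map_sub, ← lin_comp, ← lin_comp, hκ', sub_self, map_zero]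
  obtain ⟨g, hg⟩ := exists_smul_eps ((S.ψ_ker D z _).1 hψy)
  have hy : lin D (S.aL K₀ eps res_eps) z g = y :=
    lin_injective (B := D) (S.ι K₀ D) z (by rw [lin_aL, hg])
  rw [← hy, ← lin_comp, hs.eps] at hsy
  obtain ⟨κ'', hκ''⟩ := θ_ker hK' z _ hsy
  have he := eps_smul_eq hκ''
  rw [smul_sub, sub_eq_zero, ← hg, map_sub, ← lin_comp, ← lin_comp, iK_ι, iK_ι] at he
  rw [lin_comp, eq_add_of_sub_eq he, map_add, map_smul, ← lin_comp, ← lin_comp,
    cokernel.condition, lin_zero, lin_zero, smul_zero, add_zero]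

theorem exists_fam (hs : IsProj hT s)
    (c : (K₀ : (XA x (Art.base k k)).Modules) ⟶ cokernel K₀.arrow) :
    ∃ (P : Subobject (S.G (Art.dual k k))) (hP : S.IsFam K₀ P), IsHom hP s c ∧
      Nonempty ((P : (XA x (Art.dual k k)).Modules) ≅
        kernel (s - S.νL K₀ (Art.dual k k) ≫ (S.ρ (Art.dual k k)).map c)) := by
  let D : Art k k := Art.dual k k
  let uc : S.L K₀ D ⟶ (S.ρ D).obj (cokernel K₀.arrow) := s - S.νL K₀ D ≫ (S.ρ D).map c
  let P := Subobject.mk (kernel.ι uc ≫ S.ι K₀ D)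
  let e := Subobject.underlyingIso (kernel.ι uc ≫ S.ι K₀ D)
  let iP : (P : (XA x D).Modules) ⟶ S.L K₀ D := e.hom ≫ kernel.ι uc
  have hiP : iP ≫ S.ι K₀ D = P.arrow := by
    rw [Category.assoc]
    exact Subobject.underlyingIso_hom_comp_eq_mk _
  have hiPu : iP ≫ uc = 0 := by rw [Category.assoc, kernel.condition, comp_zero]
  have haν : S.aL K₀ eps res_eps ≫ S.νL K₀ D = 0 := by
    rw [← cancel_mono ((S.ρ D).map K₀.arrow), Category.assoc, νL_arrow, ← Category.assoc, aL_ι,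
      zero_comp, mulB_comp, S.ρ_mul, show Art.toBase D eps = 0 from res_eps, mulB_zero,
      Functor.map_zero, comp_zero]
  have hau : S.aL K₀ eps res_eps ≫ uc = S.θ K₀ D := by
    rw [Preadditive.comp_sub, ← Category.assoc, haν, zero_comp, sub_zero, hs.eps]
  have hfix : ∀ (z : XA x D) (y : (S.L K₀ D).presheaf.stalk z),
      ∃ (w : (P : (XA x D).Modules).presheaf.stalk z) (g : (S.G D).presheaf.stalk z),
        lin D iP z w = y - lin D (S.aL K₀ eps res_eps) z g := by
    intro z y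
    obtain ⟨g, hg⟩ := lin_surjective (B := D) (S.θ K₀ D) z (lin D uc z y)
    have h0 : lin D uc z (y - lin D (S.aL K₀ eps res_eps) z g) = 0 := by
      rw [map_sub, ← lin_comp, hau, hg, sub_self]
    obtain ⟨w, hw⟩ := (mem_ker_iff uc z _).1 h0
    refine ⟨lin D e.inv z w, g, ?_⟩
    rw [← lin_comp, show e.inv ≫ iP = kernel.ι uc from Iso.inv_hom_id_assoc _ _, hw]
  have hflat : FlatMod.IsFlatOver (XA x D ↘ Spec (CommRingCat.of D)) (cokernel P.arrow) := by
    refine fun z => (flat_stalk_iff _ z).2 ?_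
    haveI := flat_stalk (S := S) z
    refine QuotAlg.flat_of_inter_le (lin_injective (B := D) P.arrow z)
      (lin_surjective (B := D) (cokernel.π P.arrow) z) (lin_exact (shortExact_cokernel P) z)
      fun w hw => ?_
    obtain ⟨g, hg⟩ := exists_smul_eps hw
    have hag : lin D (S.aL K₀ eps res_eps) z g = lin D iP z w :=
      lin_injective (B := D) (S.ι K₀ D) z (by rw [lin_aL, ← lin_comp iP, hiP, hg])
    have hθ : lin D (S.θ K₀ D) z g = 0 := by
      rw [← hau, lin_comp, hag, ← lin_comp, hiPu, lin_zero]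
    obtain ⟨y, hy⟩ := (mem_ker_iff (S.θ K₀ D) z g).1 hθ
    change lin D (S.ι K₀ D) z y = g at hy
    obtain ⟨w', g', hw'⟩ := hfix z y
    have hw2 : w = (eps : D) • w' := lin_injective (B := D) P.arrow z (by
      rw [map_smul, ← hiP, lin_comp _ _ z w', hw', map_sub, hy, lin_aL, smul_sub,
        eps_smul_eps_smul, sub_zero, hiP, hg])
    rw [hw2]
    exact Submodule.smul_mem_smul ((D.mem_maximalIdeal_iff _).2 res_eps) Submodule.mem_top
  have hepi : Epi (iP ≫ S.νL K₀ D) := by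
    refine Omega.Stalks.epi_of_stalk fun z q => ?_
    haveI := epi_iK_νL hT
    obtain ⟨κ, hκ⟩ := lin_surjective (B := D) (iK hT ≫ S.νL K₀ D) z q
    obtain ⟨w, g, hw⟩ := hfix z (lin D (iK hT) z κ)
    refine ⟨w, ?_⟩
    change lin D (iP ≫ S.νL K₀ D) z w = q
    rw [lin_comp, hw, map_sub, ← lin_comp, ← lin_comp, haν, lin_zero, sub_zero, hκ]
  obtain ⟨ν, hν₁, hν⟩ := S.red_fac D P
  have hcomp : (iP ≫ S.νL K₀ D) ≫ (S.ρ D).map K₀.arrow = P.arrow ≫ S.ψ D := by
    rw [Category.assoc, νL_arrow, ← Category.assoc, hiP]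
  have hred : S.red D P = K₀ := by
    apply le_antisymm
    · refine QuotFinalRel.le_of_arrow_comp ((S.ρ D).map_injective ?_)
      rw [Functor.map_comp, Functor.map_zero, ← cancel_epi ν, reassoc_of% hν, comp_zero,
        ← reassoc_of% hcomp, ← Functor.map_comp, cokernel.condition, Functor.map_zero, comp_zero,
        comp_zero]
    · refine QuotFinalRel.le_of_arrow_comp ((S.ρ D).map_injective ?_)
      haveI := hepi
      rw [Functor.map_comp, Functor.map_zero, ← cancel_epi (iP ≫ S.νL K₀ D),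
        ← Category.assoc (iP ≫ S.νL K₀ D), hcomp, Category.assoc,
        comp_zero, ← reassoc_of% hν, ← Functor.map_comp, cokernel.condition, Functor.map_zero,
        comp_zero]
  refine ⟨P, ⟨hflat, hred⟩, ?_, ⟨e⟩⟩
  rw [IsHom, show iK (S := S) (K₀ := K₀) (K := P) ⟨hflat, hred⟩ = iP from
    (cancel_mono (S.ι K₀ D)).1 ((iK_ι _).trans hiP.symm)]
  exact hiPu

/-! ### Functoriality -/

variable (S K₀)

theorem ι_ψf_θ {B A : Art k k} (f : B ⟶ A) :
    S.ψf f ≫ (S.R f).map (S.θ K₀ A) ≫ (compApp (S.α f) _).hom = S.θ K₀ B := by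
  rw [θ, Functor.map_comp, Category.assoc, compApp_nat, reassoc_of% (S.ψf_comp f)]
  rfl

theorem exact_R {B A : Art k k} (f : B ⟶ A) :
    ((ShortComplex.mk (S.ι K₀ A) (S.θ K₀ A) (S.ι_θ K₀ A)).map (S.R f)).Exact :=
  (ShortComplex.exact_of_f_is_kernel _ (kernelIsKernel (S.θ K₀ A))).map_of_mono_of_preservesKernel
    (S.R f) (S.mono_ι K₀ A) inferInstance

/-- The transition between inverse images. -/
def lam {B A : Art k k} (f : B ⟶ A) : S.L K₀ B ⟶ (S.R f).obj (S.L K₀ A) :=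
  haveI : Mono ((ShortComplex.mk (S.ι K₀ A) (S.θ K₀ A) (S.ι_θ K₀ A)).map (S.R f)).f :=
    inferInstanceAs (Mono ((S.R f).map (S.ι K₀ A)))
  (S.exact_R K₀ f).lift (S.ι K₀ B ≫ S.ψf f) (by
    show (S.ι K₀ B ≫ S.ψf f) ≫ (S.R f).map (S.θ K₀ A) = 0
    rw [← cancel_mono (compApp (S.α f) (cokernel K₀.arrow)).hom, zero_comp, Category.assoc]
    exact (Category.assoc _ _ _).trans ((congrArg (S.ι K₀ B ≫ ·) (S.ι_ψf_θ K₀ f)).trans
      (S.ι_θ K₀ B)))

theorem lam_ι {B A : Art k k} (f : B ⟶ A) :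
    S.lam K₀ f ≫ (S.R f).map (S.ι K₀ A) = S.ι K₀ B ≫ S.ψf f := by
  haveI : Mono ((ShortComplex.mk (S.ι K₀ A) (S.θ K₀ A) (S.ι_θ K₀ A)).map (S.R f)).f :=
    inferInstanceAs (Mono ((S.R f).map (S.ι K₀ A)))
  exact (S.exact_R K₀ f).lift_f _ _

theorem lam_νL {B A : Art k k} (f : B ⟶ A) :
    S.lam K₀ f ≫ (S.R f).map (S.νL K₀ A) ≫ (compApp (S.α f) _).hom = S.νL K₀ B := by
  rw [← cancel_mono ((S.ρ B).map K₀.arrow)]
  simp only [Category.assoc]
  rw [← compApp_nat, ← Functor.map_comp_assoc, νL_arrow, Functor.map_comp_assoc,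
    ← Category.assoc (S.lam K₀ f), lam_ι, Category.assoc, S.ψf_comp, νL_arrow]

theorem aL_lam {B A : Art k k} (f : B ⟶ A) (b : B) (hb : Art.toBase B b = 0)
    (hb' : Art.toBase A (f b) = 0) :
    S.aL K₀ b hb ≫ S.lam K₀ f = S.ψf f ≫ (S.R f).map (S.aL K₀ (f b) hb') := by
  rw [← cancel_mono ((S.R f).map (S.ι K₀ A)), Category.assoc, lam_ι, ← Category.assoc, aL_ι,
    Category.assoc, ← Functor.map_comp, aL_ι, mulB_comp, S.R_mul]

/-- The projection seen through a map to the dual numbers. -/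
def τ (s : S.L K₀ (Art.dual k k) ⟶ (S.ρ (Art.dual k k)).obj (cokernel K₀.arrow)) {B : Art k k}
    (f : B ⟶ Art.dual k k) : S.L K₀ B ⟶ (S.ρ B).obj (cokernel K₀.arrow) :=
  S.lam K₀ f ≫ (S.R f).map s ≫ (compApp (S.α f) _).hom

variable {S K₀}

theorem toBase_map {B A : Art k k} (f : B ⟶ A) (b : B) :
    Art.toBase A (f b) = Art.toBase B b := Art.res_app f b

theorem isHom_pull {B : Art k k} (f : B ⟶ Art.dual k k) {K : Subobject (S.G B)}
    (hK : S.IsFam K₀ K) (hK' : S.IsFam K₀ (S.pull f K))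
    {c : (K₀ : (XA x (Art.base k k)).Modules) ⟶ cokernel K₀.arrow} (h : IsHom hK' s c) :
    IsHom hK (S.τ K₀ s f) c := by
  obtain ⟨e, he⟩ := S.pull_fac f K
  have hlam : iK hK ≫ S.lam K₀ f = e ≫ (S.R f).map (iK hK') := by
    rw [← cancel_mono ((S.R f).map (S.ι K₀ (Art.dual k k))), Category.assoc, lam_ι,
      ← Category.assoc, iK_ι, Category.assoc, ← Functor.map_comp, iK_ι, he]
  have hτ : S.τ K₀ s f - S.νL K₀ B ≫ (S.ρ B).map c = S.lam K₀ f ≫ (S.R f).map
      (s - S.νL K₀ _ ≫ (S.ρ _).map c) ≫ (compApp (S.α f) _).hom := by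
    rw [Functor.map_sub, Functor.map_comp, Preadditive.sub_comp, Category.assoc, compApp_nat,
      Preadditive.comp_sub, ← Category.assoc ((S.R f).map _), ← Category.assoc (S.lam K₀ f) (_ ≫ _),
      lam_νL]
    rfl
  rw [IsHom, hτ, ← Category.assoc, hlam, Category.assoc, ← Functor.map_comp_assoc, h,
    Functor.map_zero, zero_comp, comp_zero]

theorem aL_τ (hs : IsProj hT s) {B : Art k k} (f : B ⟶ Art.dual k k) (b : B)
    (hb : Art.toBase B b = 0) :
    S.aL K₀ b hb ≫ S.τ K₀ s f =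
      S.θ K₀ B ≫ (S.ρ B).map (mulB (B := Art.base k k) (coef (f b)) (cokernel K₀.arrow)) := by
  let D : Art k k := Art.dual k k
  have hb' : Art.toBase D (f b) = 0 := (toBase_map f b).trans hb
  have hd : S.aL K₀ (f b) hb' ≫ s =
      S.θ K₀ D ≫ (S.ρ D).map (mulB (B := Art.base k k) (coef (f b)) (cokernel K₀.arrow)) := by
    have h1 : S.aL K₀ (f b) hb' =
        mulB (Art.ofBase D (coef (f b))) (S.G D) ≫ S.aL K₀ eps res_eps := by
      rw [← cancel_mono (S.ι K₀ D), Category.assoc, aL_ι, aL_ι, ← mulB_mul, mul_comm,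
        ← eq_mul_eps hb']
    rw [h1, Category.assoc, hs.eps, mulB_comp, S.ρ_mul]
    congr 3
  rw [τ, ← Category.assoc, S.aL_lam K₀ f b hb hb', Category.assoc, ← Functor.map_comp_assoc, hd,
    Functor.map_comp_assoc, compApp_nat, ← reassoc_of% (S.ι_ψf_θ K₀ f)]

theorem iK_τ (hs : IsProj hT s) {B : Art k k} (f : B ⟶ Art.dual k k) {K : Subobject (S.G B)}
    (hK : S.IsFam K₀ K) (hpull : S.pull f K = KT) : iK hK ≫ S.τ K₀ s f = 0 := by
  subst hpull
  have h : IsHom hT s 0 := by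
    rw [IsHom, Functor.map_zero, comp_zero, sub_zero, hs.ker]
  have := isHom_pull f hK hT h
  rwa [IsHom, Functor.map_zero, comp_zero, sub_zero] at this

theorem isHom_pull' {B : Art k k} (f : B ⟶ Art.dual k k) {K : Subobject (S.G B)}
    (hK : S.IsFam K₀ K) {P : Subobject (S.G (Art.dual k k))} (hP : S.IsFam K₀ P)
    (e : S.pull f K = P) {c : (K₀ : (XA x (Art.base k k)).Modules) ⟶ cokernel K₀.arrow}
    (h : IsHom hP s c) : iK hK ≫ S.τ K₀ s f = (iK hK ≫ S.νL K₀ B) ≫ (S.ρ B).map c := by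
  subst e
  have := isHom_pull f hK hP h
  rwa [IsHom, Preadditive.comp_sub, sub_eq_zero, ← Category.assoc (iK hK) (S.νL K₀ B)] at this

open Groth.Agent.ArtFunLib in
/-- The tangent space of a representing algebra is the space of homomorphisms. -/
theorem exists_tangent_equiv [LocallyOfFiniteType x.hom] (S : Setting x) (K₀ : Subobject S.H₀) {O : Type u} [CommRing O]
    [Algebra k O] (res : O →ₐ[k] k) [TangentStr (hR O res)]
    (hGc : Coh.IsCoh (S.G (Art.dual k k)))
    (hQc : Coh.IsQCoh ((S.ρ (Art.dual k k)).obj (cokernel K₀.arrow)))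
    (fam : ∀ B : Art k k, HomSet O res B → Subobject (S.G B))
    (hnat : ∀ {B A : Art k k} (f : B ⟶ A) (φ : HomSet O res B),
      S.pull f (fam B φ) = fam A (HomSet.map f φ))
    (hmem : ∀ (B : Art k k) (φ : HomSet O res B), S.IsFam K₀ (fam B φ))
    (hinj : Function.Injective (fam (Art.dual k k)))
    (hsurj : ∀ P : Subobject (S.G (Art.dual k k)), S.IsFam K₀ P →
      (P : (XA x (Art.dual k k)).Modules).IsQuasicoherent → ∃ φ, fam (Art.dual k k) φ = P) :
    ∃ e : TangentSpace (hR O res) → ((K₀ : (XA x (Art.base k k)).Modules) ⟶ cokernel K₀.arrow),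
      Function.Bijective e ∧ (∀ u v, e (u + v) = e u + e v) ∧
      ∀ (a : k) u, e (a • u) =
        mulB (B := Art.base k k) a (K₀ : (XA x (Art.base k k)).Modules) ≫ e u := by
  let φ₀ : HomSet O res (Art.base k k) := ⟨res, AlgHom.id_comp _⟩
  let KT : ∀ B : Art k k, Subobject (S.G B) := fun B => fam B (HomSet.map (Art.ofBase B) φ₀)
  have hKT : ∀ B, S.IsFam K₀ (KT B) := fun B => hmem B _
  have hKTf : ∀ {B A : Art k k} (f : B ⟶ A), S.pull f (KT B) = KT A := fun {B A} f => by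
    refine (hnat f _).trans (congrArg (fam A) (Subtype.ext (AlgHom.ext fun a => ?_)))
    exact AlgHom.commutes f.toAlgHom _
  obtain ⟨s, hs⟩ := exists_proj (hKT (Art.dual k k))
  choose e he using fun φ : HomSet O res (Art.dual k k) => exists_isHom hs (hmem _ φ)
  have hτ : ∀ {B : Art k k} (f : B ⟶ Art.dual k k) (φ : HomSet O res B),
      iK (hmem B φ) ≫ S.τ K₀ s f =
        (iK (hmem B φ) ≫ S.νL K₀ B) ≫ (S.ρ B).map (e (HomSet.map f φ)) := fun f φ =>
    isHom_pull' f (hmem _ φ) (hmem _ _) (hnat f φ) (he _)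
  refine ⟨fun u => e u, ⟨fun u v h => hinj ?_, fun c => ?_⟩, fun u v => ?_, fun a u => ?_⟩
  · have h' : e u = e v := h
    exact le_antisymm (le_of_isHom hs (hmem _ u) (hmem _ v) (he u) (h'.symm ▸ he v))
      (le_of_isHom hs (hmem _ v) (hmem _ u) (he v) (h' ▸ he u))
  · obtain ⟨P, hP, hc, ⟨i⟩⟩ := exists_fam hs c
    have hL : Coh.IsCoh (S.L K₀ (Art.dual k k)) := CohDev.isCoh_kernel _ hGc hQc
    haveI : (kernel (s - S.νL K₀ (Art.dual k k) ≫ (S.ρ (Art.dual k k)).map c)).IsQuasicoherent :=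
      (CohDev.isCoh_kernel _ hL hQc).1
    obtain ⟨φ, rfl⟩ := hsurj P hP (QCoh.isQuasicoherent_of_iso i.symm)
    exact ⟨φ, isHom_unique hP (he φ) hc⟩
  · obtain ⟨z, h₁, h₂⟩ := exists_homSet_lift Art.isFibreProd_dual2
      (show HomSet O res (Art.dual k k) from u) (show HomSet O res (Art.dual k k) from v)
      ((eq_basePoint O res _).trans (eq_basePoint O res _).symm)
    have hsum : S.τ K₀ s Art.plus = S.τ K₀ s Art.pr₁ + S.τ K₀ s Art.pr₂ := by
      refine sub_eq_zero.1 (L_gen (hKT (Art.dual2 k k)) _ ?_ fun b hb => ?_)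
      · rw [Preadditive.comp_sub, Preadditive.comp_add, iK_τ hs _ _ (hKTf _), iK_τ hs _ _ (hKTf _),
          iK_τ hs _ _ (hKTf _), add_zero, sub_zero]
      · rw [Preadditive.comp_sub, Preadditive.comp_add, aL_τ hs _ b hb, aL_τ hs _ b hb,
          aL_τ hs _ b hb, ← Preadditive.comp_add, ← Functor.map_add, ← mulB_add, sub_eq_zero]
        rfl
    have hw := hτ Art.plus z
    rw [hsum, Preadditive.comp_add, hτ, hτ, ← Preadditive.comp_add, ← Functor.map_add] at hw
    haveI := epi_iK_νL (hmem _ z)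
    have hw' := (S.ρ (Art.dual2 k k)).map_injective
      ((cancel_epi (iK (hmem _ z) ≫ S.νL K₀ (Art.dual2 k k))).1 hw)
    obtain rfl : u = TangentSpace.mk (F := hR O res) ((hR O res).map Art.pr₁ z) := h₁.symm
    obtain rfl : v = TangentSpace.mk (F := hR O res) ((hR O res).map Art.pr₂ z) := h₂.symm
    rw [tangentStr_add (hR O res) z]
    exact hw'.symm
  · have hsc : S.τ K₀ s (Art.scale a) =
        s ≫ (S.ρ _).map (mulB (B := Art.base k k) a (cokernel K₀.arrow)) := by
      refine sub_eq_zero.1 (L_gen (hKT (Art.dual k k)) _ ?_ fun b hb => ?_)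
      · rw [Preadditive.comp_sub, iK_τ hs _ _ (hKTf _), reassoc_of% hs.ker, zero_comp, sub_zero]
      · have hb' : b = Art.ofBase (Art.dual k k) (coef b) * eps := eq_mul_eps hb
        have h1 : S.aL K₀ b hb ≫ s =
            mulB (Art.ofBase (Art.dual k k) (coef b)) (S.G _) ≫ S.θ K₀ _ := by
          rw [← hs.eps, ← Category.assoc]
          congr 1
          rw [← cancel_mono (S.ι K₀ (Art.dual k k)), Category.assoc, aL_ι, aL_ι, ← mulB_mul,
            mul_comm, ← hb']
        rw [Preadditive.comp_sub, aL_τ hs _ b hb, reassoc_of% h1, mulB_comp_assoc_aux, S.ρ_mul,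
          ← Functor.map_comp, sub_eq_zero]
        exact congrArg (fun t => S.θ K₀ (Art.dual k k) ≫ (S.ρ (Art.dual k k)).map t)
          (mulB_mul (B := Art.base k k) a (coef b) _)
    have hw := hτ (Art.scale a) (show HomSet O res (Art.dual k k) from u)
    have h0 := he (show HomSet O res (Art.dual k k) from u)
    rw [IsHom, Preadditive.comp_sub, sub_eq_zero, ← Category.assoc] at h0
    rw [hsc, reassoc_of% h0, ← Functor.map_comp] at hw
    haveI := epi_iK_νL (hmem _ (show HomSet O res (Art.dual k k) from u))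
    refine Eq.trans ?_ (mulB_comp (B := Art.base k k) (e u) a).symm
    rw [show a • u = _ from tangentStr_smul (hR O res) a u]
    refine ((S.ρ (Art.dual k k)).map_injective ?_).symm
    rw [← cancel_epi (iK (hmem _ (show HomSet O res (Art.dual k k) from u)) ≫ S.νL K₀ _)]
    simp only [Category.assoc] at hw ⊢
    exact hw

end Setting

end Groth.Agent.Helper63.QuotTangentRel
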