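import Groth.Agent.Helper63.QuotComp
import Groth.Agent.Helper63.QuotFinalRel
import Groth.Agent.HilbLoc.ModuliDim
import Groth.Agent.Helper63.QuotTangentRelCore
import Groth.Agent.QCoh.Qcqs
import Groth.Agent.PCohD.Push
import Groth.Prelude.Def_KLin

/-!
# First-order deformations of a quotient: the concrete data
-/

set_option autoImplicit false
set_option linter.style.haveILetI false
universe u

open CategoryTheory CategoryTheory.Limits AlgebraicGeometry
open ArtFun
open Groth.Agent Groth.Agent.Helper63.QuotStalk Groth.Agent.Helper63.QuotLiftRel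

noncomputable section

namespace Groth.Agent.Helper63.QuotTangentRel

section Gen

variable {X' S : Scheme.{u}} (g₀ : X' ⟶ S) (E : X'.Modules)

/-- Transitivity of push forward along base changes. -/
def αg {T₁ T₂ T₃ : Over S} (g : T₂ ⟶ T₁) (g' : T₃ ⟶ T₂) (g'' : T₃ ⟶ T₁) (hg : g' ≫ g = g'') :
    Scheme.Modules.pushforward (PicF.XTmap g₀ g') ⋙ Scheme.Modules.pushforward (PicF.XTmap g₀ g) ≅
      Scheme.Modules.pushforward (PicF.XTmap g₀ g'') :=
  Scheme.Modules.pushforwardComp (PicF.XTmap g₀ g') (PicF.XTmap g₀ g) ≪≫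
    eqToIso (congrArg Scheme.Modules.pushforward
      ((QuotComp.XTmap_comp g₀ g g').trans (congrArg (PicF.XTmap g₀) hg)))

/-- Restriction of a constant family. -/
def ψg {T₁ T₂ : Over S} (g : T₂ ⟶ T₁) :
    FGA.ET g₀ E T₁ ⟶ (Scheme.Modules.pushforward (PicF.XTmap g₀ g)).obj (FGA.ET g₀ E T₂) :=
  (Scheme.Modules.pullbackPushforwardAdjunction (PicF.XTmap g₀ g)).homEquiv _ _
    (FGA.ETiso g₀ E g).hom

theorem ψg_eq {T₁ T₂ : Over S} (g : T₂ ⟶ T₁) :
    ψg g₀ E g = (Scheme.Modules.pullbackPushforwardAdjunction (PicF.XTmap g₀ g)).unit.app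
        (FGA.ET g₀ E T₁) ≫
      (Scheme.Modules.pushforward (PicF.XTmap g₀ g)).map (FGA.ETiso g₀ E g).hom :=
  Adjunction.homEquiv_unit _ _ _ _

theorem unit_comp {Z'' Z' Z : Scheme.{u}} (m' : Z'' ⟶ Z') (m : Z' ⟶ Z) (M : Z.Modules) :
    (Scheme.Modules.pullbackPushforwardAdjunction m).unit.app M ≫
      (Scheme.Modules.pushforward m).map
        ((Scheme.Modules.pullbackPushforwardAdjunction m').unit.app
          ((Scheme.Modules.pullback m).obj M)) ≫
      (Scheme.Modules.pushforward m).map ((Scheme.Modules.pushforward m').map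
        ((Scheme.Modules.pullbackComp m' m).hom.app M)) ≫
      (Scheme.Modules.pushforwardComp m' m).hom.app
        ((Scheme.Modules.pullback (m' ≫ m)).obj M) =
    (Scheme.Modules.pullbackPushforwardAdjunction (m' ≫ m)).unit.app M := by
  have hu := unit_conjugateEquiv ((Scheme.Modules.pullbackPushforwardAdjunction m).comp
      (Scheme.Modules.pullbackPushforwardAdjunction m'))
    (Scheme.Modules.pullbackPushforwardAdjunction (m' ≫ m))
    (Scheme.Modules.pullbackComp m' m).inv M
  rw [Scheme.Modules.conjugateEquiv_pullbackComp_inv, Adjunction.comp_unit_app] at hu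
  rw [← cancel_mono ((Scheme.Modules.pushforward (m' ≫ m)).map
      ((Scheme.Modules.pullbackComp m' m).inv.app M)), ← hu]
  simp only [Category.assoc]
  congr 1
  congr 1
  rw [← NatTrans.naturality]
  simp only [Functor.comp_map]
  rw [← Category.assoc, ← Functor.map_comp, ← Functor.map_comp, Iso.hom_inv_id_app]
  simp

theorem hom_comp_gen {Z'' Z' Z : Scheme.{u}} (m' : Z'' ⟶ Z') (m : Z' ⟶ Z) {m'' : Z'' ⟶ Z}
    (e : m' ≫ m = m'') (M : Z.Modules) {M' : Z'.Modules} {M'' : Z''.Modules}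
    (θ : (Scheme.Modules.pullback m).obj M ⟶ M') (θ' : (Scheme.Modules.pullback m').obj M' ⟶ M'')
    (θ'' : (Scheme.Modules.pullback m'').obj M ⟶ M'')
    (key : (Scheme.Modules.pullbackComp m' m ≪≫ Scheme.Modules.pullbackCongr e).hom.app M ≫ θ'' =
      (Scheme.Modules.pullback m').map θ ≫ θ') :
    (Scheme.Modules.pullbackPushforwardAdjunction m).homEquiv _ _ θ ≫
      (Scheme.Modules.pushforward m).map
        ((Scheme.Modules.pullbackPushforwardAdjunction m').homEquiv _ _ θ') ≫
      (compApp (Scheme.Modules.pushforwardComp m' m ≪≫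
        eqToIso (congrArg Scheme.Modules.pushforward e)) M'').hom =
    (Scheme.Modules.pullbackPushforwardAdjunction m'').homEquiv _ _ θ'' := by
  subst e
  simp only [Scheme.Modules.pullbackCongr, eqToIso_refl, Iso.trans_refl] at key
  have n1 := (Scheme.Modules.pullbackPushforwardAdjunction m').unit.naturality θ
  simp only [Functor.id_map, Functor.comp_map] at n1
  simp only [compApp_hom, eqToIso_refl, Iso.trans_refl]
  rw [Adjunction.homEquiv_unit, Adjunction.homEquiv_unit, Adjunction.homEquiv_unit, ← unit_comp]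
  simp only [Category.assoc]
  congr 1
  rw [← Functor.map_comp_assoc, ← Category.assoc θ, n1]
  simp only [Functor.map_comp, Category.assoc]
  congr 1
  rw [← NatTrans.naturality]
  simp only [Functor.comp_map]
  rw [← Functor.map_comp_assoc, ← Functor.map_comp_assoc, ← Functor.map_comp, ← Functor.map_comp, key]

theorem ψ_gen {T₁ T₂ T₃ : Over S} (g : T₂ ⟶ T₁) (g' : T₃ ⟶ T₂) (g'' : T₃ ⟶ T₁)
    (hg : g' ≫ g = g'') :
    ψg g₀ E g ≫ (Scheme.Modules.pushforward (PicF.XTmap g₀ g)).map (ψg g₀ E g') ≫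
      (compApp (αg g₀ g g' g'' hg) (FGA.ET g₀ E T₃)).hom = ψg g₀ E g'' := by
  subst hg
  unfold ψg αg
  exact hom_comp_gen (PicF.XTmap g₀ g') (PicF.XTmap g₀ g) (QuotComp.XTmap_comp g₀ g g') _ _ _ _
    (QuotComp.key_app g₀ E g g')

theorem pull_fac {T₁ T₂ : Over S} (g : T₂ ⟶ T₁) (K : Subobject (FGA.ET g₀ E T₁)) :
    ∃ e : (K : (PicF.XT g₀ T₁).Modules) ⟶ (Scheme.Modules.pushforward (PicF.XTmap g₀ g)).obj
        (FGA.quotPull g₀ E g K : (PicF.XT g₀ T₂).Modules),
      ((∀ M, Epi ((Scheme.Modules.pullbackPushforwardAdjunction (PicF.XTmap g₀ g)).unit.app M)) →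
        (Scheme.Modules.pushforward (PicF.XTmap g₀ g)).PreservesEpimorphisms → Epi e) ∧
      e ≫ (Scheme.Modules.pushforward (PicF.XTmap g₀ g)).map (FGA.quotPull g₀ E g K).arrow =
        K.arrow ≫ ψg g₀ E g := by
  let adj := Scheme.Modules.pullbackPushforwardAdjunction (PicF.XTmap g₀ g)
  let a := (Scheme.Modules.pullback (PicF.XTmap g₀ g)).map K.arrow ≫ (FGA.ETiso g₀ E g).hom
  refine ⟨adj.homEquiv _ _ (factorThruImageSubobject a), fun hu hp => ?_, ?_⟩
  · change Epi (adj.homEquiv (K : (PicF.XT g₀ T₁).Modules) (imageSubobject a : (PicF.XT g₀ T₂).Modules)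
      (factorThruImageSubobject a))
    rw [Adjunction.homEquiv_unit]
    haveI := hu (K : (PicF.XT g₀ T₁).Modules)
    haveI := hp
    exact epi_comp _ _
  · change adj.homEquiv _ _ (factorThruImageSubobject a) ≫
      (Scheme.Modules.pushforward _).map (imageSubobject a).arrow = _
    rw [← Adjunction.homEquiv_naturality_right, imageSubobject_arrow_comp]
    exact Adjunction.homEquiv_naturality_left _ _ _

theorem epi_ψg {T₁ T₂ : Over S} (g : T₂ ⟶ T₁)
    (hu : Epi ((Scheme.Modules.pullbackPushforwardAdjunction (PicF.XTmap g₀ g)).unit.app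
      (FGA.ET g₀ E T₁))) : Epi (ψg g₀ E g) := by
  rw [ψg_eq]
  haveI := hu
  exact epi_comp _ _

theorem ψg_eq_zero_iff {B : Type u} [CommRing B] {T₁ T₂ : Over S}
    [(PicF.XT g₀ T₁).Over (Spec (CommRingCat.of B))] (g : T₂ ⟶ T₁) (z : PicF.XT g₀ T₁)
    (t : (FGA.ET g₀ E T₁).presheaf.stalk z) :
    lin B (ψg g₀ E g) z t = 0 ↔
      lin B ((Scheme.Modules.pullbackPushforwardAdjunction (PicF.XTmap g₀ g)).unit.app
        (FGA.ET g₀ E T₁)) z t = 0 := by
  rw [ψg_eq, lin_comp]
  exact ⟨fun h => lin_injective (B := B) _ z (h.trans (map_zero _).symm),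
    fun h => (congrArg _ h).trans (map_zero _)⟩

theorem full_faithful_gen {T₁ T₂ : Over S} (g : T₂ ⟶ T₁) (h : IsClosedImmersion (PicF.XTmap g₀ g)) :
    (Scheme.Modules.pushforward (PicF.XTmap g₀ g)).Full ∧
      (Scheme.Modules.pushforward (PicF.XTmap g₀ g)).Faithful ∧
      (Scheme.Modules.pushforward (PicF.XTmap g₀ g)).PreservesEpimorphisms := by
  haveI := h
  let F := (Scheme.Modules.pullbackPushforwardAdjunction
    (PicF.XTmap g₀ g)).fullyFaithfulROfIsIsoCounit
  exact ⟨F.full, F.faithful, inferInstance⟩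

theorem isQCoh_push {T₁ T₂ : Over S} (g : T₂ ⟶ T₁) (h : IsClosedImmersion (PicF.XTmap g₀ g))
    (M : (PicF.XT g₀ T₂).Modules) (hM : Coh.IsQCoh M) :
    Coh.IsQCoh ((Scheme.Modules.pushforward (PicF.XTmap g₀ g)).obj M) := by
  haveI := h
  haveI : M.IsQuasicoherent := hM
  exact QCoh.isQuasicoherent_pushforward (PicF.XTmap g₀ g) M

end Gen

variable {k : Type u} [Field k] {X : Scheme.{u}} (x : QuotLiftRel.Rel k X)

theorem mulB_pushforward {B A : Art k k} (f : B ⟶ A) (b : B)
    (M : (PicF.XT x.hom (T x A)).Modules) :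
    mulB b ((Scheme.Modules.pushforward (PicF.XTmap x.hom (gA x f))).obj M) =
      (Scheme.Modules.pushforward (PicF.XTmap x.hom (gA x f))).map (mulB (f b) M) := by
  refine Scheme.Modules.hom_ext _ _ fun W => ?_
  ext m
  change (CohBase.FlatBC.smulEnd _ _).app W m = (CohBase.FlatBC.smulEnd _ _).app (jA x f ⁻¹ᵁ W) m
  rw [CohBase.FlatBC.smulEnd_app]
  refine Eq.trans ?_ (CohBase.FlatBC.smulEnd_app M (glob (f b)) (jA x f ⁻¹ᵁ W) m).symm
  change (jA x f).app W ((XA x B).presheaf.map (homOfLE (le_top : W ≤ ⊤)).op (glob b)) •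
      (show Γ(M, jA x f ⁻¹ᵁ W) from m) =
    (XA x A).presheaf.map (homOfLE (le_top : jA x f ⁻¹ᵁ W ≤ ⊤)).op (glob (f b)) •
      (show Γ(M, jA x f ⁻¹ᵁ W) from m)
  congr 1
  refine (ConcreteCategory.congr_hom ((jA x f).naturality (homOfLE (le_top : W ≤ ⊤)).op) (glob b)).trans ?_
  exact congrArg ((XA x A).presheaf.map (homOfLE (le_top : jA x f ⁻¹ᵁ W ≤ ⊤)).op)
    (comm_glob (sq x f) b)

theorem gA_toBase_comp {B A : Art k k} (f : B ⟶ A) :
    gA x (Art.toBase A) ≫ gA x f = gA x (Art.toBase B) :=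
  Over.OverMorphism.ext ((Art.specMap_comp f (Art.toBase A)).symm.trans (congrArg Art.specMap (Art.eq_toBase _)))

theorem closed_toBase (B : Art k k) : IsClosedImmersion (PicF.XTmap x.hom (gA x (Art.toBase B))) :=
  isClosedImmersion_jA x (Art.toBase B) B.res_surjective

theorem unit_toBase_epi (B : Art k k) (M : (PicF.XT x.hom (T x B)).Modules) :
    Epi ((Scheme.Modules.pullbackPushforwardAdjunction
      (PicF.XTmap x.hom (gA x (Art.toBase B)))).unit.app M) :=
  epi_unit x (Art.toBase B) B.res_surjective M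

variable (H : X.Modules)

theorem ψ_ker {B : Art k k} (z : PicF.XT x.hom (T x B))
    (t : (FGA.ET x.hom H (T x B)).presheaf.stalk z) :
    lin B (ψg x.hom H (gA x (Art.toBase B))) z t = 0 ↔
      t ∈ IsLocalRing.maximalIdeal B • (⊤ : Submodule B ((FGA.ET x.hom H (T x B)).presheaf.stalk z)) := by
  refine (ψg_eq_zero_iff x.hom H (gA x (Art.toBase B)) z t).trans ?_
  obtain ⟨z', rfl⟩ := exists_point x (Art.toBase B) B.res_surjective z
  rw [← ker_toBase (Art.toBase B)]
  exact unit_eq_zero_iff x (Art.toBase B) B.res_surjective _ z' t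

set_option maxHeartbeats 1600000 in
/-- The concrete data. -/
def theSetting (hEf : FlatMod.IsFlatOver x.hom H) : Setting x where
  ρ := fun B => (Scheme.Modules.pushforward (PicF.XTmap x.hom (gA x (Art.toBase B))) :)
  ρ_add := fun B => inferInstance
  ρ_lim := fun B => inferInstance
  ρ_epi := fun B => (full_faithful_gen x.hom _ (closed_toBase x B)).2.2
  ρ_full := fun B => (full_faithful_gen x.hom _ (closed_toBase x B)).1
  ρ_faith := fun B => (full_faithful_gen x.hom _ (closed_toBase x B)).2.1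
  ρ_mul := fun B b N => mulB_pushforward x (Art.toBase B) b N
  R := fun {B A} f => (Scheme.Modules.pushforward (PicF.XTmap x.hom (gA x f)) :)
  R_add := fun {B A} f => inferInstance
  R_lim := fun {B A} f => inferInstance
  R_mul := fun {B A} f b M => mulB_pushforward x f b M
  α := fun {B A} f =>
    αg x.hom (gA x f) (gA x (Art.toBase A)) (gA x (Art.toBase B)) (gA_toBase_comp x f)
  G := fun B => FGA.ET x.hom H (T x B)
  flatG := fun B => QuotFinalRel.flat_ET x H hEf B
  H₀ := FGA.ET x.hom H (T x (Art.base k k))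
  ψ := fun B => ψg x.hom H (gA x (Art.toBase B))
  ψ_epi := fun B => epi_ψg x.hom H _ (unit_toBase_epi x B _)
  ψ_ker := fun B z t => ψ_ker x H z t
  ψf := fun {B A} f => ψg x.hom H (gA x f)
  ψf_comp := fun {B A} f =>
    ψ_gen x.hom H (gA x f) (gA x (Art.toBase A)) (gA x (Art.toBase B)) (gA_toBase_comp x f)
  pull := fun {B A} f K => FGA.quotPull x.hom H (gA x f) K
  pull_fac := fun {B A} f K => (pull_fac x.hom H (gA x f) K).imp fun _ h => h.2
  red := fun B K => FGA.quotPull x.hom H (gA x (Art.toBase B)) K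
  red_fac := fun B K => (pull_fac x.hom H (gA x (Art.toBase B)) K).imp fun _ h =>
    ⟨h.1 (fun M => unit_toBase_epi x B M) (full_faithful_gen x.hom _ (closed_toBase x B)).2.2, h.2⟩

theorem mulB_base_eq (a : k) (M : (XA x (Art.base k k)).Modules) :
    mulB (B := Art.base k k) a M =
      @Formal.smulMod k _ (XA x (Art.base k k)) (overA x (Art.base k k)) M a := by
  refine Scheme.Modules.hom_ext _ _ fun W => ?_
  ext m
  rfl

end Groth.Agent.Helper63.QuotTangentRel
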