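import Groth.Agent.LimLib.NagataCurve
import Groth.Agent.S0566
import Groth.Agent.S2116
import Groth.Agent.VarDim.Algebra

/-!
# Smooth affine curves through a rational point meeting a given open
-/

set_option autoImplicit false
set_option linter.style.haveILetI false
universe u

open CategoryTheory AlgebraicGeometry
open Groth.Agent

noncomputable section

namespace Groth.Agent.Helper63.SmoothCurve

/-- A field is Nagata. -/
theorem isNagata_field (F : Type u) [Field F] : CAlg.IsNagata F := by
  refine ⟨inferInstance, fun p hp => ?_⟩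
  obtain rfl : p = ⊥ := (Ideal.eq_bot_or_top p).resolve_right hp.ne_top
  intro L _ _ _ _ _
  haveI : (⊥ : Ideal F).IsMaximal := Ideal.bot_isMaximal
  letI := Ideal.Quotient.field (⊥ : Ideal F)
  haveI : Module.Finite (F ⧸ (⊥ : Ideal F)) (FractionRing (F ⧸ (⊥ : Ideal F))) := by
    refine Module.Finite.of_surjective (Algebra.linearMap _ _) fun z => ?_
    obtain ⟨a, b, hb, rfl⟩ := IsFractionRing.div_surjective (A := F ⧸ (⊥ : Ideal F)) z
    exact ⟨a / b, map_div₀ (algebraMap _ (FractionRing (F ⧸ (⊥ : Ideal F)))) a b⟩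
  haveI : Module.Finite (F ⧸ (⊥ : Ideal F)) L :=
    Module.Finite.trans (FractionRing (F ⧸ (⊥ : Ideal F))) L
  exact Module.Finite.of_injective (integralClosure (F ⧸ (⊥ : Ideal F)) L).val.toLinearMap Subtype.val_injective

theorem exists_smooth_curve {k R : Type u} [Field k] [IsAlgClosed k] [CommRing R] [IsDomain R] [Algebra k R]
    [Algebra.FiniteType k R] (z : R →ₐ[k] k) (hz : RingHom.ker z.toRingHom ≠ ⊥)
    (V : Set (PrimeSpectrum R)) (hV : IsOpen V) (hbot : ⟨⊥, Ideal.isPrime_bot⟩ ∈ V) :
    ∃ (E : Type u) (_ : CommRing E) (_ : IsDomain E) (_ : Algebra k E) (h : R →ₐ[k] E) (w : E →ₐ[k] k),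
      w.comp h = z ∧ Algebra.Smooth k E ∧ ringKrullDim E = 1 ∧
      PrimeSpectrum.comap h.toRingHom ⟨⊥, Ideal.isPrime_bot⟩ ∈ V := by
  classical
  haveI : IsNoetherianRing R := Algebra.FiniteType.isNoetherianRing k R
  have hzs : Function.Surjective z.toRingHom := fun c => ⟨algebraMap k R c, z.commutes c⟩
  haveI hm : (RingHom.ker z.toRingHom).IsMaximal := RingHom.ker_isMaximal_of_surjective _ hzs
  let m : PrimeSpectrum R := ⟨RingHom.ker z.toRingHom, hm.isPrime⟩
  let s : Set (PrimeSpectrum R) := V \ {m}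
  have hmc : IsClosed ({m} : Set (PrimeSpectrum R)) := (PrimeSpectrum.isClosed_singleton_iff_isMaximal m).2 hm
  have hs : Topology.IsConstructible s :=
    IsRetrocompact.isConstructible (hV.sdiff hmc) (fun _ _ _ => TopologicalSpace.NoetherianSpace.isCompact _)
  have hbs : (⟨⊥, Ideal.isPrime_bot⟩ : PrimeSpectrum R) ∈ s :=
    ⟨hbot, fun h => hz (congrArg PrimeSpectrum.asIdeal (Set.mem_singleton_iff.1 h)).symm⟩
  have hcl : m ∈ closure s := closure_mono (Set.singleton_subset_iff.2 hbs)
    ((PrimeSpectrum.le_iff_mem_closure _ _).1 (bot_le (a := RingHom.ker z.toRingHom)))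
  obtain ⟨p, hps, hpm, himm⟩ := LimLib.NagataCurve.exists_immediate hs hcl (fun h => h.2 rfl)
  let φ : R →+* FractionRing (R ⧸ p.asIdeal) :=
    (algebraMap (R ⧸ p.asIdeal) _).comp (Ideal.Quotient.mk p.asIdeal)
  have hker : RingHom.ker φ = p.asIdeal := by
    rw [RingHom.ker_comp_of_injective _ (IsFractionRing.injective _ _), Ideal.mk_ker]
  have htop : Subfield.closure (Set.range φ) = ⊤ := by
    refine top_le_iff.1 fun x _ => ?_
    obtain ⟨a, b, -, rfl⟩ := IsFractionRing.div_surjective (A := R ⧸ p.asIdeal) x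
    obtain ⟨a, rfl⟩ := Ideal.Quotient.mk_surjective a
    obtain ⟨b, rfl⟩ := Ideal.Quotient.mk_surjective b
    exact div_mem (Subfield.subset_closure ⟨a, rfl⟩) (Subfield.subset_closure ⟨b, rfl⟩)
  have hfin : Module.Finite (Subfield.closure (Set.range φ)) (FractionRing (R ⧸ p.asIdeal)) :=
    Module.Finite.of_surjective (Algebra.linearMap _ _) fun x =>
      ⟨⟨x, by rw [htop]; trivial⟩, rfl⟩
  have hN : CAlg.IsNagata R := S0566.result k (isNagata_field k) R
  obtain ⟨E, _, _, algRE, _, _, c, d, hφ, hft, hic, hcmax, hcht, hcm, -, -, -⟩ :=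
    LimLib.NagataCurve.exists_normal_curve hN _ φ p m hker hfin ∅ hm hpm himm
  letI algkE : Algebra k E := ((algebraMap R E).comp (algebraMap k R)).toAlgebra
  haveI : IsScalarTower k R E := IsScalarTower.of_algebraMap_eq fun _ => rfl
  haveI : Algebra.FiniteType k E := Algebra.FiniteType.trans inferInstance hft
  haveI : IsNoetherianRing E := Algebra.FiniteType.isNoetherianRing k E
  haveI := hcmax
  -- the rational point
  letI : Field (E ⧸ c.asIdeal) := Ideal.Quotient.field c.asIdeal
  haveI : Module.Finite k (E ⧸ c.asIdeal) := finite_of_finite_type_of_isJacobsonRing k (E ⧸ c.asIdeal)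
  haveI : Algebra.IsIntegral k (E ⧸ c.asIdeal) := Algebra.IsIntegral.of_finite k _
  let e : k ≃ₐ[k] E ⧸ c.asIdeal :=
    AlgEquiv.ofBijective (Algebra.ofId k _) (IsAlgClosed.algebraMap_bijective_of_isIntegral)
  let w : E →ₐ[k] k := e.symm.toAlgHom.comp (Ideal.Quotient.mkₐ k c.asIdeal)
  have hw : ∀ x, w x = 0 ↔ x ∈ c.asIdeal := fun x => by
    show e.symm (Ideal.Quotient.mk c.asIdeal x) = 0 ↔ _
    rw [map_eq_zero_iff _ e.symm.injective, Ideal.Quotient.eq_zero_iff_mem]
  let h : R →ₐ[k] E := IsScalarTower.toAlgHom k R E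
  have hwh : w.comp h = z := by
    refine AlgHom.ext fun r => ?_
    have h1 : r - algebraMap k R (z r) ∈ c.asIdeal.comap (algebraMap R E) := by
      rw [hcm]
      show z (r - algebraMap k R (z r)) = 0
      simp
    have h2 : w (h (r - algebraMap k R (z r))) = 0 := (hw _).2 h1
    rw [map_sub, map_sub, h.commutes, w.commutes, sub_eq_zero] at h2
    exact h2
  -- the dimension
  have hdim : ringKrullDim E = 1 := by
    rw [← VarDim.height_eq_ringKrullDim_of_isMaximal k E c.asIdeal, hcht]
    rfl
  haveI : Ring.DimensionLEOne E := Ring.DimensionLEOne.mk fun {P} hP hPp => by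
    by_contra hPm
    obtain ⟨M, hM, hPM⟩ := Ideal.exists_le_maximal P hPp.ne_top
    haveI := hM
    have hlt : P < M := lt_of_le_of_ne hPM fun e => hPm (e ▸ hM)
    haveI := hPp
    have h1 : (⊥ : Ideal E).height < P.height :=
      Ideal.height_strict_mono_of_isPrime (bot_lt_iff_ne_bot.2 hP)
    have h2 : P.height < M.height := Ideal.height_strict_mono_of_isPrime hlt
    have h3 : M.height = 1 := by
      have := (VarDim.height_eq_ringKrullDim_of_isMaximal k E M).trans hdim
      exact_mod_cast this
    rw [h3, Order.lt_one_iff] at h2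
    rw [h2] at h1
    exact not_lt_zero h1
  haveI : IsIntegrallyClosed E := hic
  haveI : IsDedekindDomain E := { (inferInstance : IsNoetherianRing E), (inferInstance : Ring.DimensionLEOne E), (inferInstance : IsIntegrallyClosed E) with }
  have hsm : Algebra.smoothLocus k E = Set.univ := by
    refine Set.eq_univ_of_forall fun P => ?_
    obtain ⟨M, hM, hPM⟩ := Ideal.exists_le_maximal P.asIdeal P.isPrime.ne_top
    haveI := hM
    have hM0 : M ≠ ⊥ := by
      intro h0
      have := (VarDim.height_eq_ringKrullDim_of_isMaximal k E M).trans hdim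
      rw [h0, Ideal.height_bot] at this
      exact absurd this (by norm_num)
    haveI := IsLocalization.AtPrime.isDiscreteValuationRing_of_dedekind_domain E hM0 (Localization.AtPrime M)
    have hMs : (⟨M, hM.isPrime⟩ : PrimeSpectrum E) ∈ Algebra.smoothLocus k E :=
      (S2116.result M).1 inferInstance
    haveI : Algebra.FinitePresentation k E := Algebra.FinitePresentation.of_finiteType.1 inferInstance
    exact Algebra.isOpen_smoothLocus.stableUnderGeneralization
      ((PrimeSpectrum.le_iff_specializes P ⟨M, hM.isPrime⟩).1 hPM) hMs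
  haveI : Algebra.FinitePresentation k E := Algebra.FinitePresentation.of_finiteType.1 inferInstance
  have hsmooth : Algebra.Smooth k E := ⟨Algebra.smoothLocus_eq_univ_iff.1 hsm, inferInstance⟩
  refine ⟨E, inferInstance, inferInstance, algkE, h, w, hwh, hsmooth, hdim, ?_⟩
  convert hps.1
  refine PrimeSpectrum.ext ?_
  rw [← hker]
  ext r
  show algebraMap R E r ∈ (⊥ : Ideal E) ↔ φ r = 0
  rw [Ideal.mem_bot, ← hφ r, map_eq_zero_iff _ (IsFractionRing.injective E (FractionRing (R ⧸ p.asIdeal)))]

end Groth.Agent.Helper63.SmoothCurve
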