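import Groth.Agent.S11280
import Mathlib.RingTheory.Kaehler.JacobiZariski
import Mathlib.LinearAlgebra.TensorProduct.Quotient
import Mathlib.LinearAlgebra.TensorProduct.Tower
import Mathlib.RingTheory.Smooth.Basic

/-!
Differentials of a flat algebra with smooth special fibre over `k[X]/(X^(n+1))`.
-/

set_option autoImplicit false
universe u
open Polynomial TensorProduct KaehlerDifferential

namespace Groth.Agent.Helper63.TruncFlat

variable {k : Type u} [Field k] [CharZero k] {n : ℕ}
  {D : Type u} [CommRing D] [Algebra k D] {τ : D}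
  (e : (k[X] ⧸ Ideal.span {(X : k[X]) ^ (n + 1)}) ≃ₐ[k] D)
  (he : e (Ideal.Quotient.mk (Ideal.span {(X : k[X]) ^ (n + 1)}) X) = τ)

include he

omit [CharZero k] in
theorem aeval_eq (P : k[X]) : aeval τ P = e (Ideal.Quotient.mk _ P) := by
  have : aeval τ = e.toAlgHom.comp (Ideal.Quotient.mkₐ k _) := Polynomial.algHom_ext (by simp [he])
  rw [this]; rfl

omit [CharZero k] in
theorem exists_aeval (d : D) : ∃ P : k[X], aeval τ P = d := by
  obtain ⟨P, hP⟩ := Ideal.Quotient.mk_surjective (e.symm d)
  exact ⟨P, by rw [aeval_eq e he, hP, e.apply_symm_apply]⟩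

omit [CharZero k] in
theorem aeval_eq_zero {P : k[X]} (h : aeval τ P = 0) : ∃ Q, P = X ^ (n + 1) * Q := by
  rw [aeval_eq e he, EmbeddingLike.map_eq_zero_iff, Ideal.Quotient.eq_zero_iff_mem,
    Ideal.mem_span_singleton] at h
  exact h

omit [CharZero k] in
theorem pow_succ_eq_zero : τ ^ (n + 1) = 0 := by
  have := aeval_eq e he (X ^ (n + 1))
  rw [map_pow, aeval_X, Ideal.Quotient.eq_zero_iff_mem.2 (Ideal.mem_span_singleton_self _),
    map_zero] at this
  exact this

theorem pow_smul_kaehler (ω : Ω[D⁄k]) : τ ^ n • ω = 0 := by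
  have hτ : τ ^ n • KaehlerDifferential.D k D τ = 0 := by
    have := congrArg (KaehlerDifferential.D k D) (pow_succ_eq_zero e he)
    rw [Derivation.leibniz_pow, map_zero, Nat.add_sub_cancel, ← Nat.cast_smul_eq_nsmul k,
      smul_eq_zero] at this
    exact this.resolve_left (Nat.cast_ne_zero.2 n.succ_ne_zero)
  have hω : ω ∈ Submodule.span D (Set.range (KaehlerDifferential.D k D)) := by
    rw [span_range_derivation]; trivial
  induction hω using Submodule.span_induction with
  | mem x hx =>
    obtain ⟨d, rfl⟩ := hx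
    obtain ⟨P, rfl⟩ := exists_aeval e he d
    rw [Derivation.map_aeval, smul_comm, hτ, smul_zero]
  | zero => exact smul_zero _
  | add a b _ _ ha hb => rw [smul_add, ha, hb, add_zero]
  | smul c a _ ha => rw [smul_comm, ha, smul_zero]

variable (B : Type u) [CommRing B] [Algebra k B] [Algebra D B] [IsScalarTower k D B]

theorem pow_smul_baseChange_kaehler (z : B ⊗[D] Ω[D⁄k]) : algebraMap D B τ ^ n • z = 0 := by
  induction z with
  | zero => exact smul_zero _
  | add a b ha hb => rw [smul_add, ha, hb, add_zero]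
  | tmul b ω =>
    rw [TensorProduct.smul_tmul', smul_eq_mul, ← map_pow, ← Algebra.smul_def, smul_tmul,
      pow_smul_kaehler e he, tmul_zero]

omit [CharZero k] in
theorem bijective_residue : Function.Bijective (algebraMap k (D ⧸ Ideal.span {τ})) := by
  haveI : Nontrivial D := by
    refine nontrivial_of_ne 1 0 fun h => ?_
    obtain ⟨Q, hQ⟩ := aeval_eq_zero e he (P := 1) (by rw [map_one, h])
    simpa using congrArg (eval 0) hQ
  haveI : Nontrivial (D ⧸ Ideal.span {τ}) := Ideal.Quotient.nontrivial_iff.2 fun h => by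
    rw [Ideal.span_singleton_eq_top] at h
    exact IsNilpotent.not_isUnit ⟨n + 1, pow_succ_eq_zero e he⟩ h
  refine ⟨(algebraMap k (D ⧸ Ideal.span {τ})).injective, fun x => ?_⟩
  obtain ⟨d, rfl⟩ := Ideal.Quotient.mk_surjective x
  obtain ⟨P, rfl⟩ := exists_aeval e he d
  refine ⟨P.coeff 0, ?_⟩
  rw [IsScalarTower.algebraMap_apply k D (D ⧸ Ideal.span {τ}), Ideal.Quotient.algebraMap_eq,
    Ideal.Quotient.eq]
  have h := congrArg (aeval τ) (X_mul_divX_add P)
  rw [map_add, map_mul, aeval_X, aeval_C] at h
  rw [← h, sub_add_cancel_right, neg_mem_iff]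
  exact Ideal.mul_mem_right _ _ (Ideal.mem_span_singleton_self τ)

omit [CharZero k] in
theorem formallySmooth [Module.Flat D B]
    (hsm : Algebra.Smooth k (B ⧸ Ideal.span {algebraMap D B τ})) : Algebra.FormallySmooth D B := by
  let I : Ideal D := Ideal.span {τ}
  have hI : I.map (algebraMap D B) = Ideal.span {algebraMap D B τ} := by
    rw [Ideal.map_span, Set.image_singleton]
  have hnil : I ^ (2 ^ (n + 1)) = ⊥ := by
    rw [Ideal.span_singleton_pow, Ideal.span_singleton_eq_bot]
    exact pow_eq_zero_of_le (Nat.lt_two_pow_self).le (pow_succ_eq_zero e he)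
  refine RingHom.formallySmooth_algebraMap.1
    (Groth.Agent.S11280.formallySmooth_of_nilpotent (A := D) (B := B) (n + 1) I hnil ?_)
  have h1 : (algebraMap k (B ⧸ I.map (algebraMap D B))).FormallySmooth := by
    rw [RingHom.formallySmooth_algebraMap]
    rw [hI]
    infer_instance
  let ek := RingEquiv.ofBijective _ (bijective_residue e he)
  have h2 : Groth.Agent.S11280.quotAlgMap (B := B) I =
      (algebraMap k (B ⧸ I.map (algebraMap D B))).comp ek.symm.toRingHom := by
    refine RingHom.ext fun x => ?_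
    obtain ⟨c, rfl⟩ := ek.surjective x
    show Groth.Agent.S11280.quotAlgMap (B := B) I (algebraMap k (D ⧸ I) c) =
      algebraMap k (B ⧸ I.map (algebraMap D B)) (ek.symm (ek c))
    rw [ek.symm_apply_apply, IsScalarTower.algebraMap_apply k D (D ⧸ I),
      IsScalarTower.algebraMap_apply k B (B ⧸ I.map (algebraMap D B)),
      IsScalarTower.algebraMap_apply k D B]
    rfl
  rw [h2]
  exact RingHom.FormallySmooth.comp
    (RingHom.FormallySmooth.of_bijective (f := ek.symm.toRingHom) ek.symm.bijective) h1

omit [CharZero k] in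
/-- The base change of the differentials of the base is a direct summand. -/
theorem exists_retraction [Module.Flat D B]
    (hsm : Algebra.Smooth k (B ⧸ Ideal.span {algebraMap D B τ})) :
    ∃ r : Ω[B⁄k] →ₗ[B] B ⊗[D] Ω[D⁄k], r ∘ₗ mapBaseChange k D B = LinearMap.id := by
  haveI := formallySmooth e he B hsm
  have hinj : Function.Injective (mapBaseChange k D B) := by
    refine (injective_iff_map_eq_zero _).2 fun z hz => ?_
    obtain ⟨y, rfl⟩ := (Algebra.H1Cotangent.exact_δ_mapBaseChange k D B z).1 hz
    rw [Subsingleton.elim y 0, map_zero]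
  obtain ⟨s, hs⟩ := Module.projective_lifting_property (KaehlerDifferential.map k D B B)
    LinearMap.id (KaehlerDifferential.map_surjective k D B)
  have := (exact_mapBaseChange_map k D B).split_tfae hinj (KaehlerDifferential.map_surjective k D B)
  exact (this.out 0 1).1 (Exists.intro s hs)

omit [CharZero k] in
theorem exists_derivation :
    ∃ δ : Derivation k D (B ⧸ Ideal.span {algebraMap D B τ ^ n}), δ τ = 1 := by
  let B' := B ⧸ Ideal.span {algebraMap D B τ ^ n}
  let t' : B' := algebraMap D B' τ
  let f : k[X] →ₗ[k] B' := (aeval t').toLinearMap ∘ₗ derivative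
  have hf : ∀ P Q, f (P * Q) = aeval t' P * f Q + aeval t' Q * f P := fun P Q => by
    simp only [f, LinearMap.comp_apply, derivative_mul, AlgHom.toLinearMap_apply, map_add, map_mul]
    ring
  have ht : t' ^ n = 0 := by
    rw [show t' = Ideal.Quotient.mk _ (algebraMap D B τ) from rfl, ← map_pow]
    exact Ideal.Quotient.eq_zero_iff_mem.2 (Ideal.mem_span_singleton_self _)
  have h0 : ∀ P, aeval τ P = 0 → f P = 0 := fun P hP => by
    obtain ⟨Q, rfl⟩ := aeval_eq_zero e he hP
    have hX : f (X ^ (n + 1)) = 0 := by simp [f, derivative_X_pow, ht]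
    have hX' : aeval t' ((X : k[X]) ^ (n + 1)) = 0 := by simp [pow_succ, ht]
    rw [hf, hX, hX', mul_zero, zero_mul, zero_add]
  have key : ∀ {d : D} {P : k[X]}, aeval τ P = d →
      f (Classical.choose (exists_aeval e he d)) = f P := fun {d P} hP => by
    rw [← sub_eq_zero, ← map_sub]
    exact h0 _ (by rw [map_sub, Classical.choose_spec (exists_aeval e he d), hP, sub_self])
  let L : D →ₗ[k] B' :=
    { toFun := fun d => f (Classical.choose (exists_aeval e he d))
      map_add' := fun a b => by
        obtain ⟨P, rfl⟩ := exists_aeval e he a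
        obtain ⟨Q, rfl⟩ := exists_aeval e he b
        rw [key rfl, key rfl, key (P := P + Q) (map_add _ _ _), map_add]
      map_smul' := fun c a => by
        obtain ⟨P, rfl⟩ := exists_aeval e he a
        rw [key rfl, key (P := c • P) (map_smul _ _ _), map_smul, RingHom.id_apply] }
  refine ⟨Derivation.mk' L fun a b => ?_, ?_⟩
  · obtain ⟨P, rfl⟩ := exists_aeval e he a
    obtain ⟨Q, rfl⟩ := exists_aeval e he b
    show f _ = aeval τ P • f _ + aeval τ Q • f _
    rw [key rfl, key rfl, key (P := P * Q) (map_mul _ _ _), hf, Algebra.smul_def, Algebra.smul_def,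
      aeval_algebraMap_apply, aeval_algebraMap_apply]
  · show f _ = 1
    rw [key (P := X) (aeval_X τ)]
    simp [f]

omit [CharZero k] in
theorem exists_contraction [Module.Flat D B]
    (hsm : Algebra.Smooth k (B ⧸ Ideal.span {algebraMap D B τ})) :
    ∃ c : Ω[B⁄k] →ₗ[B] B ⧸ Ideal.span {algebraMap D B τ ^ n},
      c (KaehlerDifferential.D k B (algebraMap D B τ)) = 1 := by
  obtain ⟨r, hr⟩ := exists_retraction e he B hsm
  obtain ⟨δ, hδ⟩ := exists_derivation e he B
  refine ⟨(LinearMap.liftBaseChange B δ.liftKaehlerDifferential) ∘ₗ r, ?_⟩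
  have : KaehlerDifferential.D k B (algebraMap D B τ) =
      mapBaseChange k D B (1 ⊗ₜ KaehlerDifferential.D k D τ) := by
    rw [mapBaseChange_tmul, one_smul, map_D]
  rw [this, LinearMap.comp_apply, show r (mapBaseChange k D B _) = _ from LinearMap.congr_fun hr _]
  simp [hδ]

omit he

omit [CharZero k] in
theorem exists_eq_smul_of_one_tmul_eq_zero {R M : Type u} [CommRing R] [AddCommGroup M] [Module R M]
    (a : R) {m : M} (h : (1 : R ⧸ Ideal.span {a}) ⊗ₜ[R] m = 0) : ∃ m', m = a • m' := by
  have := congrArg (TensorProduct.quotTensorEquivQuotSMul M (Ideal.span {a})) h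
  rw [← map_one (Ideal.Quotient.mk (Ideal.span {a})),
    quotTensorEquivQuotSMul_mk_tmul, one_smul, map_zero, Submodule.Quotient.mk_eq_zero,
    Submodule.ideal_span_singleton_smul, Submodule.mem_smul_pointwise_iff_exists] at this
  obtain ⟨m', -, hm'⟩ := this
  exact ⟨m', hm'.symm⟩

omit [CharZero k] in
theorem pow_smul_tmul_eq_zero {R M : Type u} [CommRing R] [AddCommGroup M] [Module R M]
    (a : R) (m : M) : (1 : R ⧸ Ideal.span {a}) ⊗ₜ[R] (a • m) = 0 := by
  rw [← TensorProduct.smul_tmul, Algebra.smul_def, mul_one, Ideal.Quotient.algebraMap_eq,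
    Ideal.Quotient.eq_zero_iff_mem.2 (Ideal.mem_span_singleton_self a), zero_tmul]

end Groth.Agent.Helper63.TruncFlat
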